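import Cfsg.Agent.Lib.J4Pres.CentExtraDefs

/-!
The checks of generators 0 to 2.
-/

set_option autoImplicit false

namespace CfsgLib.J4Pres

theorem qCheck0_ok : qCheck 0 = true := by decide +kernel
theorem qCheck1_ok : qCheck 1 = true := by decide +kernel
theorem qCheck2_ok : qCheck 2 = true := by decide +kernel

end CfsgLib.J4Pres
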