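import Cfsg.Agent.Lib.J4Pres.CentExtraDefs

/-!
The checks of generators 3 to 5.
-/

set_option autoImplicit false

namespace CfsgLib.J4Pres

theorem qCheck3_ok : qCheck 3 = true := by decide +kernel
theorem qCheck4_ok : qCheck 4 = true := by decide +kernel
theorem qCheck5_ok : qCheck 5 = true := by decide +kernel

end CfsgLib.J4Pres
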