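import Cfsg.Agent.Lib.J4Pres.CentExtraDefs

/-!
The checks of generators 6 to 8.
-/

set_option autoImplicit false

namespace CfsgLib.J4Pres

theorem qCheck6_ok : qCheck 6 = true := by decide +kernel
theorem qCheck7_ok : qCheck 7 = true := by decide +kernel
theorem qCheck8_ok : qCheck 8 = true := by decide +kernel

end CfsgLib.J4Pres
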