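import Cfsg.Agent.Lib.J4Pres.CentExtraDefs

/-!
The checks of generators 9 to 11.
-/

set_option autoImplicit false

namespace CfsgLib.J4Pres

theorem qCheck9_ok : qCheck 9 = true := by decide +kernel
theorem qCheck10_ok : qCheck 10 = true := by decide +kernel
theorem qCheck11_ok : qCheck 11 = true := by decide +kernel

end CfsgLib.J4Pres

namespace CfsgLib.J4Pres

open Cfsg CfsgLib.CosetEnum CfsgLib.Fi22Mult CfsgLib.J4Rep Cfsg.Spor

theorem tCheck_ok : (eqB (gMatW czT) czTMat && eqB (mulB czTMat (mulB czTMat czTMat)) (oneB 112)) = true := by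
  decide +kernel

end CfsgLib.J4Pres
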