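import Cfsg.Agent.Lib.J4Pres.CentQuot
import Cfsg.Agent.Lib.J4Pres.CentExtraCheck0
import Cfsg.Agent.Lib.J4Pres.CentExtraCheck1
import Cfsg.Agent.Lib.J4Pres.CentExtraCheck2
import Cfsg.Agent.Lib.J4Pres.CentExtraCheck3
import Cfsg.Agent.Lib.Extraspecial.Setting

/-!
The normal extraspecial subgroup of order 2 ^ 13 of the centraliser of the central involution.
-/

set_option autoImplicit false
set_option Elab.async false

namespace CfsgLib.J4Pres

open Cfsg CfsgLib.CosetEnum CfsgLib.Fi22Mult CfsgLib.J4Rep CfsgLib.Golay Cfsg.Spor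
open scoped commutatorElement

attribute [local irreducible] mat5 zz mulB toMat oneB

theorem qCheck_all {a : ℕ} (ha : a < 12) : qCheck a = true := by
  interval_cases a
  exacts [qCheck0_ok, qCheck1_ok, qCheck2_ok, qCheck3_ok, qCheck4_ok, qCheck5_ok, qCheck6_ok,
    qCheck7_ok, qCheck8_ok, qCheck9_ok, qCheck10_ok, qCheck11_ok]

theorem qWords_ok : (czQ.all (fun w => w.all fun k => Nat.blt k 17) &&
    czT.all (fun k => Nat.blt k 17)) = true := by decide +kernel

theorem qWord_lt (a : ℕ) : ∀ k ∈ czQ.getD a [], k < 17 := by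
  intro k hk
  have h := qWords_ok
  simp only [Bool.and_eq_true, List.all_eq_true, Nat.blt_eq] at h
  rcases lt_or_ge a czQ.length with ha | ha
  · rw [List.getD_eq_getElem _ _ ha] at hk
    exact h.1 _ (List.getElem_mem ha) k hk
  · rw [List.getD_eq_default _ _ ha] at hk
    simp at hk

theorem tWord_lt : ∀ k ∈ czT, k < 17 := by
  have h := qWords_ok
  simp only [Bool.and_eq_true, List.all_eq_true, Nat.blt_eq] at h
  exact h.2

/-- a generator of the extraspecial subgroup -/
noncomputable def qE (a : ℕ) : centZ :=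
  ⟨prodW gC (czQ.getD a []), centK_le (prodW_gC_mem (qWord_lt a))⟩

/-- the element of order three -/
noncomputable def tE : centZ := ⟨prodW gC czT, centK_le (prodW_gC_mem tWord_lt)⟩

/-- z in its centraliser -/
noncomputable def zC : centZ := ⟨zz, mem_centZ.2 (Commute.refl zz)⟩

/-- a power of z -/
noncomputable def zP (e : Bool) : centZ := bif e then zC else 1

theorem zC_central (x : centZ) : x * zC = zC * x := Subtype.ext (mem_centZ.1 x.2).eq

theorem zP_central (e : Bool) (x : centZ) : x * zP e = zP e * x := by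
  cases e
  · simp [zP]
  · exact zC_central x

theorem zP_xor (e f : Bool) : zP (xor e f) = zP e * zP f := by
  cases e <;> cases f <;> simp [zP]
  exact Subtype.ext zz_sq.symm

theorem zC_sq : zC * zC = 1 := Subtype.ext zz_sq

theorem zP_inj {e f : Bool} (h : zP e = zP f) : e = f := by
  have hne : zC ≠ 1 := fun e => zz_ne_one (congrArg Subtype.val e)
  cases e <;> cases f <;> simp_all [zP]

/-- the commutator bit -/
noncomputable def qBit (a b : ℕ) : Bool := (czB.getD a 0).testBit b

theorem qBit_sym : (List.range 12).all (fun a => !(qBit a a) &&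
    (List.range 12).all fun b => qBit a b == qBit b a) = true := by decide +kernel

theorem gMatW_qE {a : ℕ} (ha : a < 12) :
    (qMat a).length = 112 ∧ (rho (qE a).1 : U112).val = toMat 112 (qMat a) := by
  have h := qCheck_all ha
  simp only [qCheck, Bool.and_eq_true] at h
  rw [← eqB_eq h.1.1.1]
  exact gMatW_spec (qWord_lt a)

theorem zz_mat : (mat5 3).length = 112 ∧ (rho zz : U112).val = toMat 112 (mat5 3) := by
  have h := rho_j5 3
  rwa [j5_three] at h

theorem cond_t {α : Sort*} (a b : α) : (bif true then a else b) = a := rfl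

theorem cond_f {α : Sort*} (a b : α) : (bif false then a else b) = b := rfl

theorem byZ_spec {x : centZ} {M : List ℕ} (e : Bool) (hl : M.length = 112)
    (hx : (rho x.1 : U112).val = toMat 112 M) :
    (byZ e M).length = 112 ∧ (rho (x * zP e).1 : U112).val = toMat 112 (byZ e M) := by
  cases e
  · rw [byZ, zP, cond_f, cond_f, mul_one]
    exact ⟨hl, hx⟩
  · rw [byZ, zP, cond_t, cond_t]
    refine ⟨by rw [mulB_length, hl], ?_⟩
    rw [Subgroup.coe_mul, show (zC : centZ).1 = zz from rfl, map_mul, Units.val_mul, hx, zz_mat.2,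
      toMat_mulB hl zz_mat.1]

theorem mul_spec {x y : centZ} {A B : List ℕ} (hA : A.length = 112) (hB : B.length = 112)
    (hx : (rho x.1 : U112).val = toMat 112 A) (hy : (rho y.1 : U112).val = toMat 112 B) :
    (mulB A B).length = 112 ∧ (rho (x * y).1 : U112).val = toMat 112 (mulB A B) := by
  refine ⟨by rw [mulB_length, hA], ?_⟩
  rw [Subgroup.coe_mul, map_mul, Units.val_mul, hx, hy, toMat_mulB hA hB]

theorem qE_sq {a : ℕ} (ha : a < 12) : qE a * qE a = 1 := by
  have h := qCheck_all ha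
  simp only [qCheck, Bool.and_eq_true] at h
  obtain ⟨hl, hm⟩ := gMatW_qE ha
  refine Subtype.ext (mat_eq (mul_spec hl hl hm hm).2 ?_ h.1.1.2)
  simp [toMat_oneB]

theorem qE_comm {a b : ℕ} (ha : a < 12) (hb : b < 12) :
    qE a * qE b = qE b * qE a * zP (qBit a b) := by
  have key : ∀ {a b : ℕ}, a < 12 → b < 12 → a < b → qE a * qE b = qE b * qE a * zP (qBit a b) := by
    intro a b ha hb hab
    have h := qCheck_all ha
    simp only [qCheck, Bool.and_eq_true, List.all_eq_true, List.mem_range, Bool.or_eq_true,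
      Nat.ble_eq] at h
    obtain ⟨hl, hm⟩ := gMatW_qE ha
    obtain ⟨hl', hm'⟩ := gMatW_qE hb
    obtain ⟨hl2, hm2⟩ := mul_spec hl' hl hm' hm
    exact Subtype.ext (mat_eq (mul_spec hl hl' hm hm').2 (byZ_spec (qBit a b) hl2 hm2).2
      ((h.1.2 b hb).resolve_left (by omega)))
  have hs := qBit_sym
  simp only [Bool.and_eq_true, List.all_eq_true, List.mem_range, Bool.not_eq_true', beq_iff_eq] at hs
  rcases lt_trichotomy a b with h | h | h
  · exact key ha hb h
  · subst h
    rw [(hs a ha).1]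
    simp [zP]
  · have e := key hb ha h
    rw [(hs a ha).2 b hb, e, mul_assoc (qE a * qE b), ← zP_xor, Bool.xor_self]
    simp [zP]

/-- the extraspecial subgroup -/
noncomputable def qGrp : Subgroup centZ := Subgroup.closure (insert zC {x | ∃ a < 12, qE a = x})

theorem zC_mem : zC ∈ qGrp := Subgroup.subset_closure (Set.mem_insert _ _)

theorem zP_mem (e : Bool) : zP e ∈ qGrp := by
  cases e
  exacts [one_mem _, zC_mem]

theorem qE_mem {a : ℕ} (ha : a < 12) : qE a ∈ qGrp :=
  Subgroup.subset_closure (Set.mem_insert_of_mem _ ⟨a, ha, rfl⟩)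

/-- the products over a list -/
def qSet : List ℕ → Set centZ
  | [] => {1, zC}
  | a :: l => qSet l ∪ (qE a * ·) '' qSet l

theorem qSet_zmul : ∀ (l : List ℕ) {t : centZ}, t ∈ qSet l → zC * t ∈ qSet l
  | [], t, h => by
    rcases h with rfl | rfl
    · exact Or.inr (mul_one _)
    · exact Or.inl zC_sq
  | a :: l, t, h => by
    rcases h with h | ⟨u, hu, rfl⟩
    · exact Or.inl (qSet_zmul l h)
    · exact Or.inr ⟨_, qSet_zmul l hu, by
        show qE a * (zC * u) = zC * (qE a * u)
        rw [← mul_assoc, zC_central, mul_assoc]⟩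

theorem qSet_zPmul {l : List ℕ} (e : Bool) {t : centZ} (h : t ∈ qSet l) : zP e * t ∈ qSet l := by
  cases e
  · simpa [zP] using h
  · exact qSet_zmul l h

theorem qSet_qmul : ∀ (l : List ℕ), (∀ a ∈ l, a < 12) → ∀ {i : ℕ}, i ∈ l → ∀ {t : centZ},
    t ∈ qSet l → qE i * t ∈ qSet l
  | [], _, _, hi, _, _ => by simp at hi
  | a :: l, hl, i, hi, t, h => by
    rw [List.forall_mem_cons] at hl
    by_cases hia : i = a
    · subst hia
      rcases h with h | ⟨u, hu, rfl⟩
      · exact Or.inr ⟨t, h, rfl⟩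
      · refine Or.inl ?_
        show qE i * (qE i * u) ∈ qSet l
        rwa [← mul_assoc, qE_sq hl.1, one_mul]
    · have hi' : i ∈ l := (List.mem_cons.1 hi).resolve_left hia
      rcases h with h | ⟨u, hu, rfl⟩
      · exact Or.inl (qSet_qmul l hl.2 hi' h)
      · refine Or.inr ⟨_, qSet_zPmul (qBit i a) (qSet_qmul l hl.2 hi' hu), ?_⟩
        show qE a * (zP (qBit i a) * (qE i * u)) = qE i * (qE a * u)
        rw [← mul_assoc, ← mul_assoc, ← mul_assoc (qE i), qE_comm (hl.2 i hi') hl.1,
          mul_assoc (qE a) (qE i) (zP (qBit i a)), zP_central _ (qE i), ← mul_assoc (qE a)]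

theorem qSet_one : ∀ l : List ℕ, (1 : centZ) ∈ qSet l
  | [] => Or.inl rfl
  | _ :: l => Or.inl (qSet_one l)

theorem qSet_ncard : ∀ l : List ℕ, (qSet l).Finite ∧ (qSet l).ncard ≤ 2 ^ (l.length + 1)
  | [] => ⟨Set.toFinite {1, zC}, (Set.ncard_insert_le _ _).trans (by simp)⟩
  | a :: l => by
    obtain ⟨hf, hc⟩ := qSet_ncard l
    refine ⟨hf.union (hf.image _), (Set.ncard_union_le _ _).trans ?_⟩
    have h2 := Set.ncard_image_le (f := (qE a * ·)) hf
    rw [List.length_cons, pow_succ]
    omega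

theorem qGrp_sub : (qGrp : Set centZ) ⊆ qSet (List.range 12) := by
  intro x hx
  have hl : ∀ a ∈ List.range 12, a < 12 := fun a ha => List.mem_range.1 ha
  induction hx using Subgroup.closure_induction_left with
  | one => exact qSet_one _
  | mul_left a ha b _ hb =>
    rcases ha with rfl | ⟨i, hi, rfl⟩
    · exact qSet_zmul _ hb
    · exact qSet_qmul _ hl (List.mem_range.2 hi) hb
  | inv_mul_cancel a ha b _ hb =>
    rcases ha with rfl | ⟨i, hi, rfl⟩
    · rw [inv_eq_of_mul_eq_one_right zC_sq]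
      exact qSet_zmul _ hb
    · rw [inv_eq_of_mul_eq_one_right (qE_sq hi)]
      exact qSet_qmul _ hl (List.mem_range.2 hi) hb

theorem card_qGrp_le : Nat.card qGrp ≤ 2 ^ 13 := by
  obtain ⟨hf, hc⟩ := qSet_ncard (List.range 12)
  have e : Nat.card qGrp = (qGrp : Set centZ).ncard := Nat.card_coe_set_eq _
  rw [e]
  refine (Set.ncard_le_ncard qGrp_sub hf).trans (hc.trans ?_)
  simp

/-- the product of generators -/
noncomputable def qPr (l : List ℕ) : centZ := (l.map qE).prod

/-- the sum of the rows -/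
noncomputable def rowSum (M : List ℕ) (l : List ℕ) : ℕ := l.foldr (fun a x => M.getD a 0 ^^^ x) 0

/-- the bits of a mask -/
noncomputable def bitList (s : ℕ) : List ℕ := (List.range 12).filter fun b => s.testBit b

/-- the list with given commutators -/
noncomputable def preList (s : ℕ) : List ℕ := bitList (rowSum czBinv (bitList s))

theorem pre_ok : ((List.range (2 ^ 12)).all fun s => strict s fun s =>
    Nat.beq (rowSum czB (preList s)) s) = true := by decide +kernel

theorem bitList_lt {s a : ℕ} (h : a ∈ bitList s) : a < 12 :=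
  List.mem_range.1 (List.mem_filter.1 h).1

theorem qPr_mem {l : List ℕ} (hl : ∀ a ∈ l, a < 12) : qPr l ∈ qGrp :=
  Subgroup.list_prod_mem _ fun x hx => by
    obtain ⟨a, ha, rfl⟩ := List.mem_map.mp hx
    exact qE_mem (hl a ha)

theorem qPr_comm : ∀ {l : List ℕ}, (∀ a ∈ l, a < 12) → ∀ {b : ℕ}, b < 12 →
    qPr l * qE b = qE b * qPr l * zP ((rowSum czB l).testBit b)
  | [], _, b, _ => by simp [qPr, rowSum, zP]
  | a :: l, hl, b, hb => by
    rw [List.forall_mem_cons] at hl
    have e : rowSum czB (a :: l) = czB.getD a 0 ^^^ rowSum czB l := by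
      rw [rowSum, rowSum, List.foldr_cons]
    have e' : qPr (a :: l) = qE a * qPr l := by simp [qPr]
    rw [e', e, Nat.testBit_xor, mul_assoc, qPr_comm hl.2 hb, ← mul_assoc, ← mul_assoc,
      qE_comm hl.1 hb]
    show qE b * qE a * zP (qBit a b) * qPr l * _ = _
    rw [show zP ((czB.getD a 0).testBit b ^^ (rowSum czB l).testBit b) =
      zP (qBit a b) * zP ((rowSum czB l).testBit b) from zP_xor _ _]
    rw [mul_assoc (qE b * qE a), ← zP_central _ (qPr l)]
    simp only [mul_assoc]

theorem qGrp_facts : Nat.card qGrp = 2 ^ 13 ∧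
    ∀ x ∈ qGrp, ∃ e : Bool, ∃ s < 2 ^ 12, x = zP e * qPr (preList s) := by
  classical
  haveI := finite_J4
  have hpre := pre_ok
  simp only [List.all_eq_true, List.mem_range, strict_eq] at hpre
  have hlt : ∀ s, ∀ a ∈ preList s, a < 12 := fun s a ha => bitList_lt ha
  let f : Bool × Fin (2 ^ 12) → qGrp := fun p =>
    ⟨zP p.1 * qPr (preList p.2.val), mul_mem (zP_mem _) (qPr_mem (hlt _))⟩
  have hf : Function.Injective f := by
    rintro ⟨e, s⟩ ⟨e', s'⟩ h
    have h' : zP e * qPr (preList s.val) = zP e' * qPr (preList s'.val) := congrArg Subtype.val h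
    have hs : s = s' := by
      refine Fin.ext (Nat.eq_of_testBit_eq fun b => ?_)
      rcases lt_or_ge b 12 with hb | hb
      · have key : ∀ (e : Bool) (s : ℕ), s < 2 ^ 12 → zP e * qPr (preList s) * qE b =
            qE b * (zP e * qPr (preList s)) * zP (s.testBit b) := fun e s hs => by
          rw [mul_assoc, qPr_comm (hlt s) hb, Nat.eq_of_beq_eq_true (hpre s hs),
            ← mul_assoc, ← mul_assoc, ← zP_central e (qE b)]
          simp only [mul_assoc]
        have h1 := key e _ s.2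
        rw [h', key e' _ s'.2] at h1
        exact (zP_inj (mul_left_cancel h1)).symm
      · rw [Nat.testBit_eq_false_of_lt (s.2.trans_le (Nat.pow_le_pow_right (by norm_num) hb)),
          Nat.testBit_eq_false_of_lt (s'.2.trans_le (Nat.pow_le_pow_right (by norm_num) hb))]
    subst hs
    exact Prod.ext (zP_inj (mul_right_cancel h')) rfl
  have h1 := Nat.card_le_card_of_injective f hf
  rw [Nat.card_prod, Nat.card_fin, Nat.card_eq_fintype_card, Fintype.card_bool] at h1
  have hc : Nat.card qGrp = 2 ^ 13 := le_antisymm card_qGrp_le (le_trans (by norm_num) h1)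
  refine ⟨hc, fun x hx => ?_⟩
  have hb : Function.Bijective f := (Nat.bijective_iff_injective_and_card f).2
    ⟨hf, by rw [Nat.card_prod, Nat.card_fin, Nat.card_eq_fintype_card, Fintype.card_bool, hc]; norm_num⟩
  obtain ⟨⟨e, s⟩, h⟩ := hb.2 ⟨x, hx⟩
  exact ⟨e, s.val, s.2, (congrArg Subtype.val h).symm⟩

theorem qPr_near {x : centZ} (hx : ∀ b < 12, ∃ e, x * qE b = qE b * x * zP e) :
    ∀ {l : List ℕ}, (∀ a ∈ l, a < 12) → ∃ e, x * qPr l = qPr l * x * zP e
  | [], _ => ⟨false, by simp [qPr, zP]⟩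
  | a :: l, hl => by
    rw [List.forall_mem_cons] at hl
    obtain ⟨e, he⟩ := hx a hl.1
    obtain ⟨f, hf⟩ := qPr_near hx hl.2
    refine ⟨xor f e, ?_⟩
    rw [show qPr (a :: l) = qE a * qPr l by simp [qPr], ← mul_assoc, he, zP_xor, mul_assoc (qE a * x),
      ← zP_central e (qPr l), ← mul_assoc, mul_assoc (qE a) x, hf]
    simp only [mul_assoc]

theorem qGrp_near {x y : centZ} (hx : x ∈ qGrp) (hy : y ∈ qGrp) : ∃ e, x * y = y * x * zP e := by
  obtain ⟨e, s, hs, rfl⟩ := qGrp_facts.2 y hy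
  obtain ⟨e', s', hs', rfl⟩ := qGrp_facts.2 x hx
  obtain ⟨f, hf⟩ := qPr_near (x := zP e' * qPr (preList s')) (fun b hb => ⟨(rowSum czB (preList s')).testBit b, by
    rw [mul_assoc, qPr_comm (l := preList s') (fun a ha => bitList_lt ha) hb, ← mul_assoc,
      ← mul_assoc, ← zP_central e' (qE b)]
    simp only [mul_assoc]⟩) (l := preList s) (fun a ha => bitList_lt ha)
  refine ⟨f, ?_⟩
  rw [← mul_assoc, zP_central e, mul_assoc (zP e), hf]
  simp only [mul_assoc]

theorem qPr_sq : ∀ {l : List ℕ}, (∀ a ∈ l, a < 12) → ∃ e, qPr l * qPr l = zP e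
  | [], _ => ⟨false, by simp [qPr, zP]⟩
  | a :: l, hl => by
    rw [List.forall_mem_cons] at hl
    obtain ⟨f, hf⟩ := qPr_sq hl.2
    refine ⟨xor ((rowSum czB l).testBit a) f, ?_⟩
    rw [show qPr (a :: l) = qE a * qPr l by simp [qPr]]
    calc qE a * qPr l * (qE a * qPr l) = qE a * (qPr l * qE a) * qPr l := by group
      _ = qE a * qE a * (qPr l * zP ((rowSum czB l).testBit a) * qPr l) := by
        rw [qPr_comm hl.2 hl.1]; group
      _ = zP ((rowSum czB l).testBit a) * (qPr l * qPr l) := by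
        rw [qE_sq hl.1, one_mul, zP_central _ (qPr l), mul_assoc]
      _ = _ := by rw [hf, zP_xor]

theorem pre_zero : preList 0 = [] := by decide +kernel

theorem first_pair : qBit 0 10 = true := by decide +kernel

theorem qGrp_extraspecial : Cfsg.IsExtraspecial 2 qGrp := by
  classical
  haveI := finite_J4
  haveI : Fact (Nat.Prime 2) := ⟨Nat.prime_two⟩
  have hmem : ∀ u : qGrp, (∃ e, (u : centZ) = zP e) → u ∈ Subgroup.center qGrp := by
    rintro u ⟨e, he⟩
    refine Subgroup.mem_center_iff.2 fun g => Subtype.ext ?_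
    show (g : centZ) * u = u * g
    rw [he, zP_central]
  have hcen : ∀ u ∈ Subgroup.center qGrp, ∃ e, (u : centZ) = zP e := by
    intro u hu
    obtain ⟨e, s, hs, he⟩ := qGrp_facts.2 _ u.2
    have hz : s = 0 := by
      refine Nat.eq_of_testBit_eq fun b => ?_
      rw [Nat.zero_testBit]
      rcases lt_or_ge b 12 with hb | hb
      · have hpre := pre_ok
        simp only [List.all_eq_true, List.mem_range, strict_eq] at hpre
        have h1 : (u : centZ) * qE b = qE b * u :=
          (congrArg Subtype.val (Subgroup.mem_center_iff.1 hu ⟨_, qE_mem hb⟩)).symm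
        rw [he, mul_assoc, qPr_comm (l := preList s) (fun a ha => bitList_lt ha) hb,
          Nat.eq_of_beq_eq_true (hpre s hs), ← mul_assoc, ← mul_assoc, ← zP_central e (qE b),
          mul_assoc (qE b) (zP e)] at h1
        have h2 : zP (s.testBit b) = zP false := by
          simpa [zP] using h1
        exact zP_inj h2
      · exact Nat.testBit_eq_false_of_lt (hs.trans_le (Nat.pow_le_pow_right (by norm_num) hb))
    subst hz
    exact ⟨e, by rw [he, pre_zero]; simp [qPr]⟩
  refine CfsgLib.Extraspecial.isExtraspecial_of (IsPGroup.of_card qGrp_facts.1) ?_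
    (fun a b => hmem _ ?_) (fun a => hmem _ ?_) ?_
  · let g : Bool → Subgroup.center qGrp := fun e => ⟨⟨zP e, zP_mem e⟩, hmem _ ⟨e, rfl⟩⟩
    have hg : Function.Bijective g := by
      refine ⟨fun e f h => zP_inj (congrArg (fun u : Subgroup.center qGrp => u.1.1) h), ?_⟩
      rintro ⟨u, hu⟩
      obtain ⟨e, he⟩ := hcen u hu
      exact ⟨e, Subtype.ext (Subtype.ext he.symm)⟩
    rw [← Nat.card_eq_of_bijective g hg, Nat.card_eq_fintype_card, Fintype.card_bool]
  · obtain ⟨e, he⟩ := qGrp_near a.2 b.2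
    refine ⟨e, ?_⟩
    rw [commutatorElement_def]
    simp only [Subgroup.coe_mul, InvMemClass.coe_inv]
    rw [he, mul_assoc (b.1 * a.1) (zP e), ← zP_central e a.1⁻¹]
    rw [show b.1 * a.1 * (a.1⁻¹ * zP e) * b.1⁻¹ = b.1 * zP e * b.1⁻¹ by group, zP_central e b.1]
    group
  · obtain ⟨e, s, hs, he⟩ := qGrp_facts.2 _ a.2
    obtain ⟨f, hf⟩ := qPr_sq (l := preList s) fun a ha => bitList_lt ha
    refine ⟨f, ?_⟩
    rw [SubmonoidClass.coe_pow, pow_two, he]
    calc zP e * qPr (preList s) * (zP e * qPr (preList s))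
        = zP e * (qPr (preList s) * zP e) * qPr (preList s) := by group
      _ = zP e * zP e * (qPr (preList s) * qPr (preList s)) := by rw [zP_central]; group
      _ = _ := by rw [← zP_xor, Bool.xor_self, hf]; simp [zP]
  · refine ⟨⟨_, qE_mem (a := 0) (by norm_num)⟩, ⟨_, qE_mem (a := 10) (by norm_num)⟩, fun h => ?_⟩
    rw [commutatorElement_eq_one_iff_mul_comm] at h
    have h' : qE 0 * qE 10 = qE 10 * qE 0 := congrArg Subtype.val h
    rw [qE_comm (by norm_num) (by norm_num), first_pair] at h'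
    have h2 : zP true = zP false := by simpa [zP] using h'
    exact Bool.noConfusion (zP_inj h2)

theorem kernel_ok : ((List.range 12).all (fun a => Nat.beq (permW (czQ.getD a [])) idPk) &&
    Nat.beq (permW czT) idPk && Nat.beq (permC 0) idPk && Nat.beq (coordOf 0) 1) = true := by
  decide +kernel

theorem gC_zero : gC 0 = zz := by
  have h := kernel_ok
  simp only [Bool.and_eq_true] at h
  have e := zeta_coord trioCertZ_complete.N_pos
  rw [zeta_zero, Nat.eq_of_beq_eq_true h.2] at e
  rw [gC, if_pos (by norm_num : (0 : ℕ) < 11), e, pow_zero]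

theorem qGrp_le_cN : qGrp ≤ cN := by
  have h := kernel_ok
  simp only [Bool.and_eq_true, List.all_eq_true, List.mem_range] at h
  rw [qGrp, Subgroup.closure_le]
  rintro _ (rfl | ⟨a, ha, rfl⟩)
  · show phi zC = 1
    rw [show zC = ⟨gC 0, gC_cent (by norm_num)⟩ from Subtype.ext gC_zero.symm, phi_gC (by norm_num),
      Nat.eq_of_beq_eq_true h.1.2, toPerm_idPk]
  · show phi (qE a) = 1
    rw [qE, (phi_word (qWord_lt a) _).2, Nat.eq_of_beq_eq_true (h.1.1.1 a ha), toPerm_idPk]

theorem tE_mem : tE ∈ cN := by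
  have h := kernel_ok
  simp only [Bool.and_eq_true] at h
  show phi tE = 1
  rw [tE, (phi_word tWord_lt _).2, Nat.eq_of_beq_eq_true h.1.1.2, toPerm_idPk]

theorem tE_mat : (czTMat).length = 112 ∧ (rho tE.1 : U112).val = toMat 112 czTMat := by
  have h := tCheck_ok
  simp only [Bool.and_eq_true] at h
  rw [← eqB_eq h.1]
  exact gMatW_spec tWord_lt

theorem tE_cube : tE * (tE * tE) = 1 := by
  have h := tCheck_ok
  simp only [Bool.and_eq_true] at h
  obtain ⟨hl, hm⟩ := tE_mat
  obtain ⟨hl2, hm2⟩ := mul_spec hl hl hm hm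
  exact Subtype.ext (mat_eq (mul_spec hl hl2 hm hm2).2 (by simp [toMat_oneB]) h.2)

theorem qProd_spec : ∀ {l : List ℕ}, (∀ a ∈ l, a < 12) →
    (l.foldr (fun b M => mulB (qMat b) M) (oneB 112)).length = 112 ∧
      (rho (qPr l).1 : U112).val = toMat 112 (l.foldr (fun b M => mulB (qMat b) M) (oneB 112))
  | [], _ => ⟨oneB_length _, by simp [qPr, toMat_oneB]⟩
  | a :: l, hl => by
    rw [List.forall_mem_cons] at hl
    obtain ⟨h1, h2⟩ := qProd_spec hl.2
    obtain ⟨h3, h4⟩ := gMatW_qE hl.1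
    rw [List.foldr_cons, show qPr (a :: l) = qE a * qPr l by simp [qPr]]
    exact mul_spec h3 h1 h4 h2

theorem tE_conj {a : ℕ} (ha : a < 12) : tE * qE a * tE⁻¹ ∈ qGrp := by
  have h := qCheck_all ha
  simp only [qCheck, Bool.and_eq_true] at h
  set c := czConj.getD a (0, false)
  obtain ⟨hl, hm⟩ := tE_mat
  obtain ⟨hl', hm'⟩ := gMatW_qE ha
  obtain ⟨hp, hp'⟩ := qProd_spec (l := bitList c.1) fun b hb => bitList_lt hb
  obtain ⟨hz, hz'⟩ := byZ_spec c.2 hp hp'
  have e : tE * qE a = qPr (bitList c.1) * zP c.2 * tE :=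
    Subtype.ext (mat_eq (mul_spec hl hl' hm hm').2 (mul_spec hz hl hz' hm).2 h.2)
  rw [e, mul_inv_cancel_right]
  exact mul_mem (qPr_mem fun b hb => bitList_lt hb) (zP_mem _)

theorem tE_normalizer : tE ∈ Subgroup.normalizer (qGrp : Set centZ) := by
  haveI := finite_J4
  set f := (MulAut.conj tE).toMonoidHom with hf
  have hle : qGrp.map f ≤ qGrp := by
    rw [Subgroup.map_le_iff_le_comap, qGrp, Subgroup.closure_le]
    rintro _ (rfl | ⟨a, ha, rfl⟩)
    · show tE * zC * tE⁻¹ ∈ qGrp
      rw [zC_central, mul_inv_cancel_right]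
      exact zC_mem
    · exact tE_conj ha
  have heq : qGrp.map f = qGrp := Subgroup.eq_of_le_of_card_ge hle
    (Subgroup.card_map_of_injective (MulEquiv.injective _)).ge
  rw [Subgroup.mem_normalizer_iff]
  intro x
  constructor
  · exact fun hx => heq.le ⟨x, hx, rfl⟩
  · intro hx
    obtain ⟨y, hy, e⟩ := heq.ge hx
    have e' : y = x := (MulAut.conj tE).injective e
    exact e' ▸ hy

theorem tE_not_mem : tE ∉ qGrp := by
  intro h
  haveI := finite_J4
  have h3 : tE ^ 3 = 1 := by rw [pow_succ, pow_two, mul_assoc]; exact tE_cube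
  have h2 : (⟨tE, h⟩ : qGrp) ^ (2 ^ 13) = 1 := by rw [← qGrp_facts.1]; exact pow_card_eq_one'
  have h2' : tE ^ (2 ^ 13) = 1 := congrArg Subtype.val h2
  have h1 : tE = 1 := by
    have := pow_gcd_eq_one.2 ⟨h3, h2'⟩
    simpa using this
  have hne : Nat.beq (permW czT) idPk = true ∧ eqB czTMat (oneB 112) = false := by decide +kernel
  have e : toMat 112 czTMat = toMat 112 (oneB 112) := by
    rw [← tE_mat.2, h1, toMat_oneB]; simp
  have hd : ((List.range 112).any fun i => (List.range 112).any fun j =>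
      diffAt czTMat (oneB 112) i j) = true := by decide +kernel
  simp only [List.any_eq_true] at hd
  obtain ⟨i, -, j, -, hij⟩ := hd
  exact toMat_ne hij e

theorem cN_le_normalizer : cN ≤ Subgroup.normalizer (qGrp : Set centZ) := by
  haveI := finite_J4
  have hsub : qGrp ⊔ Subgroup.zpowers tE ≤ cN := sup_le qGrp_le_cN (Subgroup.zpowers_le.2 tE_mem)
  have h1 := Subgroup.card_dvd_of_le (le_sup_left : qGrp ≤ qGrp ⊔ Subgroup.zpowers tE)
  have h2 := Subgroup.card_dvd_of_le hsub
  have h3 : ¬ Nat.card ↥(qGrp ⊔ Subgroup.zpowers tE) ≤ 2 ^ 13 := fun hle => by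
    have := Subgroup.eq_of_le_of_card_ge (le_sup_left : qGrp ≤ qGrp ⊔ Subgroup.zpowers tE)
      (hle.trans qGrp_facts.1.ge)
    exact tE_not_mem (this.ge (Subgroup.mem_sup_right (Subgroup.mem_zpowers tE)))
  rw [qGrp_facts.1] at h1
  rw [card_cN] at h2
  obtain ⟨k, hk⟩ := h1
  rw [hk, mul_comm 3] at h2
  have hk3 : k ∣ 3 := Nat.dvd_of_mul_dvd_mul_left (by norm_num) h2
  have heq : qGrp ⊔ Subgroup.zpowers tE = cN := by
    refine Subgroup.eq_of_le_of_card_ge hsub ?_
    rw [card_cN, hk]
    rcases (Nat.dvd_prime Nat.prime_three).1 hk3 with rfl | rfl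
    · exact absurd (by rw [hk, mul_one]) h3
    · rw [mul_comm]
  rw [← heq]
  exact sup_le Subgroup.le_normalizer (Subgroup.zpowers_le.2 tE_normalizer)

theorem qGrp_normal : qGrp.Normal := by
  haveI := finite_J4
  haveI hN : cN.Normal := MonoidHom.normal_ker _
  haveI hQ : (qGrp.subgroupOf cN).Normal :=
    (Subgroup.normal_subgroupOf_iff_le_normalizer qGrp_le_cN).2 cN_le_normalizer
  have hidx : (qGrp.subgroupOf cN).index = 3 := by
    have h := (qGrp.subgroupOf cN).card_mul_index
    rw [Nat.card_congr (Subgroup.subgroupOfEquivOfLe qGrp_le_cN).toEquiv, qGrp_facts.1, card_cN,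
      mul_comm 3] at h
    exact Nat.eq_of_mul_eq_mul_left (by norm_num) h
  refine ⟨fun q hq c => ?_⟩
  let f := (MulAut.conj c).toMonoidHom
  suffices h : qGrp ≤ qGrp.comap f from h hq
  rw [qGrp, Subgroup.closure_le]
  rintro x hx
  have hsq : x * x = 1 := by
    rcases hx with rfl | ⟨a, ha, rfl⟩
    exacts [zC_sq, qE_sq ha]
  have hy : c * x * c⁻¹ ∈ cN := hN.conj_mem _ (qGrp_le_cN (Subgroup.subset_closure hx)) c
  have h := Subgroup.pow_index_mem (qGrp.subgroupOf cN) ⟨_, hy⟩
  rw [hidx, Subgroup.mem_subgroupOf, SubmonoidClass.coe_pow] at h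
  have e : (c * x * c⁻¹) ^ 3 = c * x * c⁻¹ := by
    rw [pow_succ, pow_two]
    calc c * x * c⁻¹ * (c * x * c⁻¹) * (c * x * c⁻¹) = c * (x * x) * x * c⁻¹ := by group
      _ = c * x * c⁻¹ := by rw [hsq, mul_one]
  change (c * x * c⁻¹) ^ 3 ∈ qGrp at h
  rw [e] at h
  exact h

theorem involution_centralizer : ∃ (G : Type) (_ : Group G) (_ : Finite G), Cfsg.IsJ4 G ∧
    ∃ z : G, orderOf z = 2 ∧ ∃ (Q N M : Subgroup (Subgroup.centralizer ({z} : Set G))),
      Q.Normal ∧ N.Normal ∧ Q ≤ N ∧ N ≤ M ∧ Nat.card Q = 2 ^ 13 ∧ Cfsg.IsExtraspecial 2 Q ∧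
      Nat.card N = 3 * 2 ^ 13 ∧ M.index = 2 ∧
      ∃ (_ : (N.subgroupOf M).Normal), Cfsg.IsM22 (M ⧸ N.subgroupOf M) := by
  haveI hN : cN.Normal := MonoidHom.normal_ker _
  have hNM : (cN.subgroupOf cM).Normal := hN.subgroupOf cM
  exact ⟨J4, inferInstance, finite_J4, isJ4, zz,
    orderOf_eq_prime (by rw [pow_two]; exact zz_sq) zz_ne_one, qGrp, cN, cM, qGrp_normal, hN,
    qGrp_le_cN, cN_le, qGrp_facts.1, qGrp_extraspecial, card_cN, index_cM, hNM, @quot_M22 hNM⟩

end CfsgLib.J4Pres
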