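import Cfsg.Agent.Lib.J4Pres.CentGens

/-!
The checks for the extraspecial subgroup of the centraliser of the central involution.
-/

set_option autoImplicit false

namespace CfsgLib.J4Pres

open Cfsg CfsgLib.CosetEnum CfsgLib.Fi22Mult CfsgLib.J4Rep Cfsg.Spor

/-- the matrices of the generators of the extraspecial subgroup -/
noncomputable def qMats : List (List ℕ) :=
  [czQMat0, czQMat1, czQMat2, czQMat3, czQMat4, czQMat5, czQMat6, czQMat7, czQMat8, czQMat9, czQMat10, czQMat11]

/-- one of the matrices -/
noncomputable def qMat (a : ℕ) : List ℕ := qMats.getD a []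

/-- a power of z after a matrix -/
noncomputable def byZ (e : Bool) (M : List ℕ) : List ℕ := bif e then mulB M (mat5 3) else M

/-- the matrix of a product of the generators -/
noncomputable def qProd (bits : ℕ) : List ℕ :=
  ((List.range 12).filter fun b => bits.testBit b).foldr (fun b M => mulB (qMat b) M) (oneB 112)

/-- the check of one generator -/
noncomputable def qCheck (a : ℕ) : Bool :=
  eqB (gMatW (czQ.getD a [])) (qMat a) && eqB (mulB (qMat a) (qMat a)) (oneB 112) &&
    ((List.range 12).all fun b => Nat.ble b a ||
      eqB (mulB (qMat a) (qMat b)) (byZ ((czB.getD a 0).testBit b) (mulB (qMat b) (qMat a)))) &&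
    eqB (mulB czTMat (qMat a))
      (mulB (byZ (czConj.getD a (0, false)).2 (qProd (czConj.getD a (0, false)).1)) czTMat)

end CfsgLib.J4Pres
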