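import Cfsg.Agent.Lib.J4Pres.CentOrder

/-!
Generators of the centraliser of the central involution, its orbit of 77 vectors and its order.
-/

set_option autoImplicit false
set_option Elab.async false

namespace CfsgLib.J4Pres

open Cfsg CfsgLib.CosetEnum CfsgLib.Fi22Mult CfsgLib.J4Rep Cfsg.Spor

/-- words of the generators outside the abelian subgroup -/
noncomputable def gWord (k : ℕ) : List ℕ := (trioCertZ.subs ++ [czWord]).getD (k - 11) []

/-- the generators -/
noncomputable def gC (k : ℕ) : J4 := if k < 11 then elemOf (2 ^ k) else prodW j5 (gWord k)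

/-- their matrices -/
noncomputable def gMat (k : ℕ) : List ℕ :=
  (eMats ++ [czMat11, czMat12, czMat13, czMat14, czMat15, czMat16]).getD k []

theorem gMat11_ok : eqB (mat5W (gWord 11)) czMat11 = true := by decide +kernel
theorem gMat12_ok : eqB (mat5W (gWord 12)) czMat12 = true := by decide +kernel
theorem gMat13_ok : eqB (mat5W (gWord 13)) czMat13 = true := by decide +kernel
theorem gMat14_ok : eqB (mat5W (gWord 14)) czMat14 = true := by decide +kernel
theorem gMat15_ok : eqB (mat5W (gWord 15)) czMat15 = true := by decide +kernel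
theorem gMat16_ok : eqB (mat5W (gWord 16)) czMat16 = true := by decide +kernel

theorem gMat_spec {k : ℕ} (hk : k < 17) :
    (gMat k).length = 112 ∧ (rho (gC k) : U112).val = toMat 112 (gMat k) := by
  have hlen : eMats.length = 11 := rfl
  by_cases h : k < 11
  · rw [gMat, gC, if_pos h, List.getD_append _ _ _ _ (hlen.symm ▸ h)]
    exact eMat_spec k h
  · have e : eqB (mat5W (gWord k)) (gMat k) = true := by
      interval_cases k
      exacts [gMat11_ok, gMat12_ok, gMat13_ok, gMat14_ok, gMat15_ok, gMat16_ok]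
    rw [gC, if_neg h, ← eqB_eq e]
    exact mat5W_spec _

/-- the matrix of a word in the generators -/
noncomputable def gMatW (w : List ℕ) : List ℕ := w.foldr (fun k M => mulB (gMat k) M) (oneB 112)

theorem gMatW_spec : ∀ {w : List ℕ}, (∀ k ∈ w, k < 17) → (gMatW w).length = 112 ∧
    (rho (prodW gC w) : U112).val = toMat 112 (gMatW w)
  | [], _ => ⟨oneB_length _, by simp [gMatW, toMat_oneB]⟩
  | k :: w, h => by
    rw [List.forall_mem_cons] at h
    obtain ⟨h1, h2⟩ := gMatW_spec h.2
    obtain ⟨h3, h4⟩ := gMat_spec h.1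
    have e : gMatW (k :: w) = mulB (gMat k) (gMatW w) := rfl
    refine ⟨by rw [e, mulB_length, h3], ?_⟩
    rw [e, prodW_cons, map_mul, Units.val_mul, h4, h2, toMat_mulB h3 h1]

theorem mat_eq {a b : J4} {A B : List ℕ} (ha : (rho a : U112).val = toMat 112 A)
    (hb : (rho b : U112).val = toMat 112 B) (h : eqB A B = true) : a = b :=
  rho_injective (Units.ext (by rw [ha, hb, eqB_eq h]))

theorem last_cent_ok : eqB (mulB czMat16 (mat5 3)) (mulB (mat5 3) czMat16) = true := by decide +kernel

theorem subs_ok : (trioCertZ.subs.all okW && Nat.beq trioCertZ.subs.length 5) = true := by decide +kernel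

theorem gWord_sub {k : ℕ} (h1 : 11 ≤ k) (h2 : k < 16) :
    gWord k ∈ trioCertZ.subs ∧ okW (gWord k) = true := by
  have h := subs_ok
  simp only [Bool.and_eq_true, List.all_eq_true] at h
  have hl := Nat.eq_of_beq_eq_true h.2
  have hm : gWord k ∈ trioCertZ.subs := by
    rw [gWord, List.getD_append _ _ _ _ (by omega), List.getD_eq_getElem _ _ (by omega)]
    exact List.getElem_mem _
  exact ⟨hm, h.1 _ hm⟩

theorem gC_cent {k : ℕ} (hk : k < 17) : gC k ∈ centZ := by
  rw [mem_centZ]
  by_cases h : k < 11
  · rw [gC, if_pos h]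
    exact eleven_comm _ (elemOf_mem _) zz zz_mem
  · by_cases h16 : k < 16
    · obtain ⟨hm, hok⟩ := gWord_sub (by omega) h16
      rw [gC, if_neg h, prodW_j5 hok]
      exact mem_centZ.1 (zModel.sub _ hm)
    · obtain rfl : k = 16 := by omega
      obtain ⟨h1, h2⟩ := gMat_spec hk
      obtain ⟨h3, h4⟩ := rho_j5 3
      rw [j5_three] at h4
      refine mat_eq (A := mulB (gMat 16) (mat5 3)) (B := mulB (mat5 3) (gMat 16)) ?_ ?_ last_cent_ok
      · rw [map_mul, Units.val_mul, h2, h4, toMat_mulB h1 h3]
      · rw [map_mul, Units.val_mul, h2, h4, toMat_mulB h3 h1]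

/-- the subgroup they generate -/
noncomputable def centK : Subgroup J4 := Subgroup.closure {y | ∃ k < 17, gC k = y}

theorem gC_mem {k : ℕ} (hk : k < 17) : gC k ∈ centK := Subgroup.subset_closure ⟨k, hk, rfl⟩

theorem centK_le : centK ≤ centZ := by
  rw [centK, Subgroup.closure_le]
  rintro _ ⟨k, hk, rfl⟩
  exact gC_cent hk

theorem prodW_gC_mem {w : List ℕ} (hw : ∀ k ∈ w, k < 17) : prodW gC w ∈ centK :=
  Subgroup.list_prod_mem _ fun x hx => by
    obtain ⟨k, hk, rfl⟩ := List.mem_map.mp hx
    exact gC_mem (hw k hk)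

theorem eleven_le_centK : eleven ≤ centK := by
  intro e he
  obtain ⟨s, hs, rfl⟩ := exists_elemOf he
  have key : ∀ n ≤ 11, ∀ s < 2 ^ n, elemOf s ∈ centK := by
    intro n
    induction n with
    | zero =>
      intro _ s hs
      obtain rfl : s = 0 := by simpa using hs
      exact elemOf_zero ▸ one_mem _
    | succ n ih =>
      intro hn s hs
      rcases split_bit hs with hs' | ⟨t, ht, rfl⟩
      · exact ih (by omega) s hs'
      · rw [elemOf_xor]
        refine mul_mem ?_ (ih (by omega) t ht)
        have := gC_mem (k := n) (by omega)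
        rwa [gC, if_pos (by omega : n < 11)] at this
  exact key 11 le_rfl s hs

theorem centHZ_le : centHZ ≤ centK := by
  intro h hh
  obtain ⟨hX, hz⟩ := Subgroup.mem_inf.1 hh
  obtain ⟨e, he, g, rfl⟩ := XYZ_data.2.2 h hX
  have heK := eleven_le_centK he
  refine mul_mem heK ?_
  have hgz : toJ4 g ∈ centZ := by
    have h' := mul_mem (inv_mem (centK_le heK)) hz
    rwa [inv_mul_cancel_left] at h'
  obtain ⟨w, hw, hwg⟩ := toJ4_word g
  obtain ⟨h1, h2⟩ := zeta_conj trioCertZ_complete.N_pos hw
  have h0 : trioCertZ.run 0 w = 0 := by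
    refine zeta_inj h1 trioCertZ_complete.N_pos ?_
    rw [← h2, zeta_zero, hwg, mul_assoc, ← (mem_centZ.1 hgz).eq, inv_mul_cancel_left]
  have m : Model trioCertZ centK jg := jg_model rfl rfl (by decide +kernel) fun u hu => by
    obtain ⟨i, hi, rfl⟩ := List.getElem_of_mem hu
    have hs := subs_ok
    simp only [Bool.and_eq_true, List.all_eq_true] at hs
    have hl := Nat.eq_of_beq_eq_true hs.2
    have := gC_mem (k := 11 + i) (by omega)
    rwa [gC, if_neg (by omega), gWord, show 11 + i - 11 = i by omega,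
      List.getD_append _ _ _ _ hi, List.getD_eq_getElem _ _ hi,
      prodW_j5 (hs.1 _ (List.getElem_mem hi))] at this
  rw [← hwg]
  exact mem_of_run_eq_zero trioCertZ_complete m hw h0

/-- the orbit -/
noncomputable def vecC (i : ℕ) : ℕ := czOrbit.getD i 0

/-- the preimage of a vector under a generator -/
noncomputable def backC (k i : ℕ) : ℕ := (czBack.getD k []).getD i 0

/-- distinct members -/
noncomputable def nodupB : List ℕ → Bool :=
  fun l => List.rec true (fun a l ih => !(l.any fun b => eqV a b) && ih) l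

theorem nodupB_spec : ∀ {l : List ℕ}, nodupB l = true →
    l.Pairwise fun a b => eqV a b = false
  | [], _ => List.Pairwise.nil
  | a :: l, h => by
    change (!(l.any fun b => eqV a b) && nodupB l) = true at h
    rw [Bool.and_eq_true, Bool.not_eq_true', List.any_eq_false] at h
    exact List.pairwise_cons.2 ⟨fun b hb => by simpa using h.1 b hb, nodupB_spec h.2⟩

/-- the orbit check -/
noncomputable def orbitOK : Bool :=
  nodupB czOrbit && Nat.beq czOrbit.length 77 && Nat.beq (vecC 0) vecH

theorem orbitOK_ok : orbitOK = true := by decide +kernel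

/-- the action check of a generator -/
noncomputable def backOK (k : ℕ) : Bool :=
  (List.range 77).all fun i => strict (backC k i) fun j =>
    Nat.blt j 77 && Nat.beq (vmul (vecC j) (gMat k)) (vecC i)

theorem backOK_ok : (List.range 17).all backOK = true := by decide +kernel

/-- the vector reached by a path -/
noncomputable def pathVec (w : List ℕ) (x : ℕ) : ℕ :=
  List.rec (motive := fun _ => ℕ → ℕ) (fun x => x) (fun k _ ih x => strict (vmul x (gMat k)) ih) w x

theorem path_ok : ((List.range 77).all fun i => strict i fun i =>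
    (czPath.getD i []).all (fun k => Nat.blt k 17) &&
      Nat.beq (pathVec (czPath.getD i []) vecH) (vecC i)) = true := by decide +kernel

theorem actV_gC {k : ℕ} (hk : k < 17) (x : ℕ) : actV (vr x) (gC k) = vr (vmul x (gMat k)) :=
  actV_mat (gMat_spec hk).1 (gMat_spec hk).2 x

theorem pathVec_spec : ∀ {w : List ℕ}, (∀ k ∈ w, k < 17) → ∀ x,
    actV (vr x) (prodW gC w) = vr (pathVec w x)
  | [], _, x => by rw [prodW_nil, actV_one]; rfl
  | k :: w, h, x => by
    rw [List.forall_mem_cons] at h
    have e : pathVec (k :: w) x = pathVec w (vmul x (gMat k)) :=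
      strict_eq (vmul x (gMat k)) (pathVec w)
    rw [e, prodW_cons, actV_mul, actV_gC h.1, pathVec_spec h.2]

theorem vecC_inj {i j : ℕ} (hi : i < 77) (hj : j < 77) (h : vr (vecC i) = vr (vecC j)) : i = j := by
  have hok := orbitOK_ok
  simp only [orbitOK, Bool.and_eq_true] at hok
  have hl := Nat.eq_of_beq_eq_true hok.1.2
  have hp := List.pairwise_iff_getElem.1 (nodupB_spec hok.1.1)
  by_contra hne
  have he := eqV_of_vr h
  have he' := eqV_of_vr h.symm
  have gi : vecC i = czOrbit[i]'(hl.symm ▸ hi) := List.getD_eq_getElem _ _ _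
  have gj : vecC j = czOrbit[j]'(hl.symm ▸ hj) := List.getD_eq_getElem _ _ _
  rw [gi, gj] at he he'
  rcases lt_or_gt_of_ne hne with hlt | hlt
  · exact Bool.noConfusion ((hp i j _ _ hlt).symm.trans he)
  · exact Bool.noConfusion ((hp j i _ _ hlt).symm.trans he')

theorem path_spec (i : Fin 77) : prodW gC (czPath.getD i []) ∈ centK ∧
    actV (vr vecH) (prodW gC (czPath.getD i [])) = vr (vecC i) := by
  have h := path_ok
  simp only [List.all_eq_true, List.mem_range, strict_eq, Bool.and_eq_true, Nat.blt_eq] at h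
  obtain ⟨h1, h2⟩ := h i i.2
  exact ⟨prodW_gC_mem h1, by rw [pathVec_spec h1, Nat.eq_of_beq_eq_true h2]⟩

theorem centZ_facts : centK = centZ ∧ Nat.card centZ = 21799895040 ∧
    ∀ c ∈ centZ, ∃ i < 77, actV (vr vecH) c = vr (vecC i) := by
  classical
  haveI := finite_J4
  let f : Fin 77 × centHZ → centK := fun p =>
    ⟨p.2.1 * prodW gC (czPath.getD p.1 []), mul_mem (centHZ_le p.2.2) (path_spec p.1).1⟩
  have hv : ∀ p, actV (vr vecH) (f p).1 = vr (vecC p.1.val) := fun p => by
    show actV (vr vecH) (p.2.1 * _) = _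
    rw [actV_mul, actV_vecH (Subgroup.mem_inf.1 p.2.2).1, (path_spec p.1).2]
  have hinj : Function.Injective f := by
    rintro ⟨i, c⟩ ⟨j, d⟩ h
    have hij : i = j := Fin.ext (vecC_inj i.2 j.2 (by
      have h1 := hv (i, c); rw [h] at h1; rw [← h1, hv (j, d)]))
    subst hij
    have h' : c.1 * prodW gC (czPath.getD i []) = d.1 * prodW gC (czPath.getD i []) :=
      congrArg Subtype.val h
    exact Prod.ext rfl (Subtype.ext (mul_right_cancel h'))
  have h1 := Nat.card_le_card_of_injective f hinj
  rw [Nat.card_prod, Nat.card_fin] at h1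
  have h2 := Subgroup.card_le_of_le centK_le
  have h3 := card_centZ_le
  have h4 := card_centHZ
  have hK : centK = centZ := Subgroup.eq_of_le_of_card_ge centK_le (h3.trans h1)
  have h5 : Nat.card centHZ = 283115520 :=
    Nat.eq_of_mul_eq_mul_right (by norm_num) (h4.trans (by norm_num))
  have h6 : Nat.card centZ = 77 * Nat.card centHZ := le_antisymm h3 (hK ▸ h1)
  refine ⟨hK, by rw [h6, h5], fun c hc => ?_⟩
  have hb : Function.Bijective f :=
    (Nat.bijective_iff_injective_and_card f).2
      ⟨hinj, by rw [Nat.card_prod, Nat.card_fin, hK, h6]⟩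
  obtain ⟨p, hp⟩ := hb.2 ⟨c, hK ▸ hc⟩
  exact ⟨p.1.val, p.1.2, by rw [← hv p, hp]⟩

end CfsgLib.J4Pres
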