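import Cfsg.Agent.Lib.J4Pres.VecFix
import Cfsg.Agent.Lib.J4Pres.CentZData

/-!
An upper bound for the order of the centraliser of the central involution: its orbit on the
vectors lies in a set of at most 77 vectors, found from the seven double cosets.
-/

set_option autoImplicit false
set_option Elab.async false

namespace CfsgLib.J4Pres

open Cfsg CfsgLib.CosetEnum CfsgLib.Fi22Mult CfsgLib.J4Rep CfsgLib.TwistCoset CfsgLib.DCoset Cfsg.Spor

attribute [local irreducible] eMats czU elemOf vecH actV vmul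

/-- a list without repetition outside a mask -/
noncomputable def freshB : List ℕ → ℕ → Bool :=
  fun l => List.rec (motive := fun _ => ℕ → Bool) (fun _ => true)
    (fun a _ ih m => strict m fun m => !(m.testBit a) && ih (m ||| 2 ^ a)) l

theorem freshB_spec : ∀ {l : List ℕ} {m : ℕ}, freshB l m = true →
    l.Nodup ∧ ∀ a ∈ l, m.testBit a = false
  | [], _, _ => ⟨List.nodup_nil, by simp⟩
  | a :: l, m, h => by
    have h' : (!(m.testBit a) && freshB l (m ||| 2 ^ a)) = true := by
      rw [← h]
      exact (strict_eq m fun m => !(m.testBit a) && freshB l (m ||| 2 ^ a)).symm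
    rw [Bool.and_eq_true, Bool.not_eq_true'] at h'
    obtain ⟨h1, h2⟩ := freshB_spec h'.2
    refine ⟨List.nodup_cons.2 ⟨fun ha => ?_, h1⟩, fun b hb => ?_⟩
    · simpa [Nat.testBit_or, Nat.testBit_two_pow] using h2 a ha
    · rcases List.mem_cons.1 hb with rfl | hb
      · exact h'.1
      · have := h2 b hb
        rw [Nat.testBit_or, Bool.or_eq_false_iff] at this
        exact this.1

/-- the mask of the conjugates of z -/
noncomputable def zMask : ℕ := elevenCoord.foldl (fun m i => m ||| 2 ^ i) 0

theorem foldl_bit : ∀ (l : List ℕ) (m i : ℕ), i ∈ l ∨ m.testBit i = true →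
    (l.foldl (fun m i => m ||| 2 ^ i) m).testBit i = true
  | [], _, _, h => h.resolve_left (by simp)
  | a :: l, m, i, h => by
    refine foldl_bit l _ i ?_
    rw [Nat.testBit_or]
    rcases h with h | h
    · rcases List.mem_cons.1 h with rfl | h
      · exact Or.inr (by simp [Nat.testBit_two_pow_self])
      · exact Or.inl h
    · exact Or.inr (by simp [h])

theorem coord_fresh : freshB elevenCoord 0 = true ∧ Nat.beq elevenCoord.length trioCertZ.N = true ∧
    Nat.beq trioCertZ.N 1771 = true := by decide +kernel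

theorem coord_inj {i j : ℕ} (hi : i < trioCertZ.N) (hj : j < trioCertZ.N)
    (h : coordOf i = coordOf j) : i = j := by
  have hl := Nat.eq_of_beq_eq_true coord_fresh.2.1
  rw [coordOf, coordOf, List.getD_eq_getElem _ _ (hl.symm ▸ hi),
    List.getD_eq_getElem _ _ (hl.symm ▸ hj)] at h
  exact ((freshB_spec coord_fresh.1).1.getElem_inj_iff).1 h

theorem coord_bit {i : ℕ} (hi : i < trioCertZ.N) : zMask.testBit (coordOf i) = true := by
  refine foldl_bit _ _ _ (Or.inl ?_)
  rw [coordOf, List.getD_eq_getElem _ _ (Nat.eq_of_beq_eq_true coord_fresh.2.1 ▸ hi)]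
  exact List.getElem_mem _

theorem coord_lt {i : ℕ} (hi : i < trioCertZ.N) : coordOf i < 2 ^ 11 :=
  Nat.blt_eq.mp (List.all_eq_true.mp coord_lt_ok i (List.mem_range.mpr hi))

theorem zeta_inj {i j : ℕ} (hi : i < trioCertZ.N) (hj : j < trioCertZ.N) (h : zeta i = zeta j) :
    i = j := by
  rw [zeta_coord hi, zeta_coord hj] at h
  exact coord_inj hi hj (elemOf_inj (coord_lt hi) (coord_lt hj) h)

/-- the centraliser of z in the subgroup of x, y and z -/
noncomputable def centHZ : Subgroup J4 := subXYZ ⊓ centZ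

theorem coreRep_XYZ (i : ℕ) : coreRep trioCertZ jg i ∈ subXYZ := by
  obtain ⟨w, hw, e⟩ := jg_coset (coreRep_mem i)
  exact e ▸ prodW_jg_mem hw

theorem toJ4_word (g : M24P) : ∃ w : List ℕ, (∀ c ∈ w, c < 3) ∧ prodW jg w = toJ4 g :=
  jg_coset (range_toJ4_eq ▸ ⟨g, rfl⟩)

theorem XYZ_conj_zz {b : J4} (hb : b ∈ subXYZ) : ∃ i < trioCertZ.N, b⁻¹ * zz * b = zeta i := by
  obtain ⟨e, he, g, rfl⟩ := XYZ_data.2.2 b hb
  obtain ⟨w, hw, hwg⟩ := toJ4_word g
  obtain ⟨h1, h2⟩ := zeta_conj trioCertZ_complete.N_pos hw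
  refine ⟨_, h1, ?_⟩
  rw [← h2, zeta_zero, hwg, mul_inv_rev]
  have : e⁻¹ * zz * e = zz := by
    rw [mul_assoc, ← eleven_comm e he zz zz_mem, inv_mul_cancel_left]
  calc (toJ4 g)⁻¹ * e⁻¹ * zz * (e * toJ4 g) = (toJ4 g)⁻¹ * (e⁻¹ * zz * e) * toJ4 g := by group
    _ = _ := by rw [this]

theorem conj_coreRep (i : ℕ) :
    coreRep trioCertZ jg i * zeta i * (coreRep trioCertZ jg i)⁻¹ = zz := by
  rw [zeta]; group

theorem card_centHZ : Nat.card centHZ * 1771 = 501397585920 := by
  classical
  haveI := finite_J4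
  have hN : trioCertZ.N = 1771 := Nat.eq_of_beq_eq_true coord_fresh.2.2
  let f : centHZ × Fin trioCertZ.N → subXYZ := fun p =>
    ⟨p.1.1 * coreRep trioCertZ jg p.2.val, mul_mem p.1.2.1 (coreRep_XYZ _)⟩
  have hf : Function.Bijective f := by
    constructor
    · rintro ⟨c, i⟩ ⟨d, j⟩ h
      have h' : c.1 * coreRep trioCertZ jg i.val = d.1 * coreRep trioCertZ jg j.val :=
        congrArg Subtype.val h
      have conj : ∀ (c : centHZ) (i : ℕ), (c.1 * coreRep trioCertZ jg i)⁻¹ * zz *
          (c.1 * coreRep trioCertZ jg i) = zeta i := fun c i => by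
        have hc : zz * c.1 = c.1 * zz := (mem_centZ.1 c.2.2).eq.symm
        rw [zeta]
        calc _ = (coreRep trioCertZ jg i)⁻¹ * (c.1⁻¹ * (zz * c.1)) * coreRep trioCertZ jg i := by group
          _ = _ := by rw [hc]; group
      have hij : i = j := Fin.ext (zeta_inj i.2 j.2 (by rw [← conj c i.val, h', conj d j.val]))
      subst hij
      exact Prod.ext (Subtype.ext (mul_right_cancel h')) rfl
    · rintro ⟨b, hb⟩
      obtain ⟨i, hi, e⟩ := XYZ_conj_zz hb
      refine ⟨(⟨b * (coreRep trioCertZ jg i)⁻¹, Subgroup.mem_inf.2 ⟨mul_mem hb (inv_mem (coreRep_XYZ i)), ?_⟩⟩,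
        ⟨i, hi⟩), Subtype.ext (inv_mul_cancel_right _ _)⟩
      refine mem_centZ.2 ?_
      have e' : zz = b * zeta i * b⁻¹ := by rw [← e]; group
      show b * (coreRep trioCertZ jg i)⁻¹ * zz = zz * (b * (coreRep trioCertZ jg i)⁻¹)
      conv_lhs => rw [← conj_coreRep i]
      conv_rhs => rw [e']
      group
  have h := Nat.card_eq_of_bijective f hf
  rw [Nat.card_prod, Nat.card_fin, hN, XYZ_data.2.1] at h
  exact h

theorem vr_inj {a b : ℕ} (h : vr a = vr b) : a % 2 ^ 112 = b % 2 ^ 112 := by
  refine Nat.eq_of_testBit_eq fun i => ?_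
  rw [Nat.testBit_mod_two_pow, Nat.testBit_mod_two_pow]
  by_cases hi : i < 112
  · have := congrFun h ⟨i, hi⟩
    simp only [vr, bitV] at this
    cases ha : a.testBit i <;> cases hb : b.testBit i <;> first
      | rfl
      | (rw [ha, hb] at this; simp at this)
  · simp [hi]

theorem actV_zero (g : J4) : actV 0 g = 0 := by
  rw [actV]; exact Matrix.zero_vecMul _

theorem add_self_vec (x : Fin 112 → ZMod 2) : x + x = 0 :=
  funext fun j => CharTwo.add_self_eq_zero (x j)

theorem zero_or_add {v x : Fin 112 → ZMod 2} {p q : Fin 112 → ZMod 2}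
    (hp : p = 0 ∨ p = v) (hq : q = 0 ∨ q = x) (hvx : v = x) : p + q = 0 ∨ p + q = x := by
  subst hvx
  rcases hp with rfl | rfl <;> rcases hq with rfl | rfl
  · simp
  · exact Or.inr (zero_add _)
  · exact Or.inr (add_zero _)
  · exact Or.inl (add_self_vec _)

/-- a vector fixed by the abelian subgroup modulo the fixed vector -/
def ModFix (u : Fin 112 → ZMod 2) : Prop :=
  ∀ e ∈ eleven, actV u e + u = 0 ∨ actV u e + u = vr vecH

theorem actV_vecH {h : J4} (hh : h ∈ subXYZ) : actV (vr vecH) h = vr vecH :=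
  (stabH_eq.ge hh : h ∈ stabH)

theorem ModFix.act {u : Fin 112 → ZMod 2} (hu : ModFix u) {a : J4} (ha : a ∈ subXYZ) :
    ModFix (actV u a) := by
  intro e he
  have h := hu _ (XYZ_conj ha he)
  have e1 : actV (actV u a) e + actV u a = actV (actV u (a * e * a⁻¹) + u) a := by
    rw [actV_add, ← actV_mul, ← actV_mul, inv_mul_cancel_right]
  rw [e1]
  rcases h with h | h <;> rw [h]
  · exact Or.inl (actV_zero a)
  · exact Or.inr (actV_vecH ha)

/-- the condition satisfied by the elements commuting with z -/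
def Near (g : J4) : Prop :=
  actV (actV (vr vecH) g) zz = actV (vr vecH) g ∧
    ∀ u, ModFix u → actV (actV u g) zz + actV u g = 0 ∨
      actV (actV u g) zz + actV u g = actV (vr vecH) g

theorem near_of_cent {g : J4} (hg : g ∈ centZ) : Near g := by
  have hc : g * zz = zz * g := (mem_centZ.1 hg).eq
  refine ⟨?_, fun u hu => ?_⟩
  · rw [← actV_mul, hc, actV_mul, actV_vecH (eleven_le_XYZ zz_mem)]
  · rw [← actV_mul, hc, actV_mul, ← actV_add]
    rcases hu zz zz_mem with h | h <;> rw [h]
    · exact Or.inl (actV_zero g)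
    · exact Or.inr rfl

theorem Near.left {a g : J4} (ha : a ∈ subXYZ) (h : Near (a * g)) : Near g := by
  have hv : actV (vr vecH) (a * g) = actV (vr vecH) g := by rw [actV_mul, actV_vecH ha]
  refine ⟨by have h1 := h.1; rwa [hv] at h1, fun u hu => ?_⟩
  have hu' := h.2 _ (hu.act (inv_mem ha))
  rwa [hv, ← actV_mul u a⁻¹, inv_mul_cancel_left] at hu'

/-- the vector image under a word -/
noncomputable def wVec (w : List ℕ) (x : ℕ) : ℕ :=
  List.rec (motive := fun _ => ℕ → ℕ) (fun x => x) (fun g _ ih x => strict (vmul x (mat5 g)) ih) w x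

theorem wVec_spec : ∀ (w : List ℕ) (x : ℕ), actV (vr x) (prodW j5 w) = vr (wVec w x)
  | [], x => by rw [prodW_nil, actV_one]; rfl
  | g :: w, x => by
    have e : wVec (g :: w) x = wVec w (vmul x (mat5 g)) :=
      strict_eq (vmul x (mat5 g)) (wVec w)
    obtain ⟨h1, h2⟩ := rho_j5 g
    rw [e, prodW_cons, actV_mul, actV_mat h1 h2, wVec_spec w]

/-- scanning the elements of the abelian subgroup with three vectors -/
noncomputable def scan (ok : ℕ → ℕ → ℕ → ℕ → Bool) : ℕ → ℕ → ℕ → ℕ → ℕ → Bool :=
  fun n => Nat.rec (motive := fun _ => ℕ → ℕ → ℕ → ℕ → Bool) (fun e a b c => ok e a b c)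
    (fun m ih e a b c => ih e a b c && (strict (e ^^^ 2 ^ m) fun e' =>
      strict (vmul a (eMats.getD m [])) fun a' => strict (vmul b (eMats.getD m [])) fun b' =>
      strict (vmul c (eMats.getD m [])) fun c' => ih e' a' b' c')) n

theorem scan_succ (ok : ℕ → ℕ → ℕ → ℕ → Bool) (m e a b c : ℕ) :
    scan ok (m + 1) e a b c = (scan ok m e a b c && scan ok m (e ^^^ 2 ^ m) (vmul a (eMats.getD m []))
      (vmul b (eMats.getD m [])) (vmul c (eMats.getD m []))) := by
  show (_ && strict (e ^^^ 2 ^ m) _) = _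
  rw [strict_eq, strict_eq, strict_eq, strict_eq]
  rfl

theorem actV_eMat {m : ℕ} (hm : m < 11) (x : ℕ) :
    actV (vr x) (elemOf (2 ^ m)) = vr (vmul x (eMats.getD m [])) :=
  actV_mat (eMat_spec m hm).1 (eMat_spec m hm).2 x

theorem split_bit {n s : ℕ} (hs : s < 2 ^ (n + 1)) :
    s < 2 ^ n ∨ ∃ t < 2 ^ n, s = 2 ^ n ^^^ t := by
  by_cases h : s < 2 ^ n
  · exact Or.inl h
  · refine Or.inr ⟨s % 2 ^ n, Nat.mod_lt _ (Nat.two_pow_pos n), ?_⟩
    have hb : s.testBit n = true := by
      rw [Nat.testBit_eq_decide_div_mod_eq, decide_eq_true_eq]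
      have h1 : s / 2 ^ n = 1 := Nat.div_eq_of_lt_le (by omega) (by rw [pow_succ] at hs; omega)
      rw [h1]
    refine Nat.eq_of_testBit_eq fun i => ?_
    rw [Nat.testBit_xor, Nat.testBit_mod_two_pow, Nat.testBit_two_pow]
    rcases lt_trichotomy i n with hi | hi | hi
    · simp [hi, Nat.ne_of_gt hi]
    · subst hi; simp [hb]
    · rw [Nat.testBit_eq_false_of_lt (hs.trans_le (Nat.pow_le_pow_right (by norm_num) hi))]
      simp [Nat.not_lt_of_gt hi, Nat.ne_of_lt hi]

theorem scan_spec {ok : ℕ → ℕ → ℕ → ℕ → Bool} : ∀ {n : ℕ}, n ≤ 11 → ∀ {e a b c : ℕ},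
    scan ok n e a b c = true → ∀ s < 2 ^ n, ∃ a' b' c', ok (e ^^^ s) a' b' c' = true ∧
      actV (vr a) (elemOf s) = vr a' ∧ actV (vr b) (elemOf s) = vr b' ∧
      actV (vr c) (elemOf s) = vr c' := by
  intro n
  induction n with
  | zero =>
    intro _ e a b c h s hs
    obtain rfl : s = 0 := by simpa using hs
    exact ⟨a, b, c, by simpa [scan] using h, by rw [elemOf_zero, actV_one],
      by rw [elemOf_zero, actV_one], by rw [elemOf_zero, actV_one]⟩
  | succ n ih =>
    intro hn e a b c h s hs
    rw [scan_succ, Bool.and_eq_true] at h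
    rcases split_bit hs with hs' | ⟨t, ht, rfl⟩
    · exact ih (by omega) h.1 s hs'
    · obtain ⟨a', b', c', h1, h2, h3, h4⟩ := ih (by omega) h.2 t ht
      have hn' : n < 11 := by omega
      refine ⟨a', b', c', ?_, ?_, ?_, ?_⟩
      · rw [← Nat.xor_assoc]; exact h1
      · rw [elemOf_xor, actV_mul, actV_eMat hn']; exact h2
      · rw [elemOf_xor, actV_mul, actV_eMat hn']; exact h3
      · rw [elemOf_xor, actV_mul, actV_eMat hn']; exact h4

/-- congruence of vectors -/
noncomputable def eqV (a b : ℕ) : Bool := Nat.beq (a % 2 ^ 112) (b % 2 ^ 112)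

theorem eqV_of_vr {a b : ℕ} (h : vr a = vr b) : eqV a b = true := by
  rw [eqV, vr_inj h, Nat.beq_refl]

theorem vr_zero : vr 0 = 0 := funext fun j => by simp [vr, bitV]

/-- one leaf of the scan -/
noncomputable def leafOK (allow : List ℕ) (x y0 y1 : ℕ) (e a b c : ℕ) : Bool :=
  !(zMask.testBit e) || allow.any (fun s => Nat.beq s e) || !(eqV a x) ||
    !(eqV (b ^^^ y0) 0 || eqV (b ^^^ y0) x) || !(eqV (c ^^^ y1) 0 || eqV (c ^^^ y1) x)

/-- the check of a state -/
noncomputable def stateOK (j : ℕ) : Bool :=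
  strict (wVec (czState.getD j []) vecH) fun x => strict (wVec (czState.getD j []) czU.1) fun y0 =>
    strict (wVec (czState.getD j []) czU.2) fun y1 =>
      scan (leafOK (czAllow.getD (j - 1) []) x y0 y1) 11 0 x y0 y1

theorem stateOK1 : stateOK 1 = true := by decide +kernel
theorem stateOK2 : stateOK 2 = true := by decide +kernel
theorem stateOK3 : stateOK 3 = true := by decide +kernel
theorem stateOK4 : stateOK 4 = true := by decide +kernel
theorem stateOK5 : stateOK 5 = true := by decide +kernel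
theorem stateOK6 : stateOK 6 = true := by decide +kernel

/-- the two vectors are fixed modulo the fixed vector -/
noncomputable def modU (u : ℕ) : Bool :=
  (List.range 11).all fun m => Nat.beq (vmul u (eMats.getD m []) ^^^ u) 0 ||
    Nat.beq (vmul u (eMats.getD m []) ^^^ u) vecH

theorem modU_ok : modU czU.1 = true ∧ modU czU.2 = true := by decide +kernel

theorem modU_spec {u : ℕ} (h : modU u = true) : ModFix (vr u) := by
  simp only [modU, List.all_eq_true, List.mem_range, Bool.or_eq_true] at h
  have key : ∀ n ≤ 11, ∀ s < 2 ^ n,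
      actV (vr u) (elemOf s) + vr u = 0 ∨ actV (vr u) (elemOf s) + vr u = vr vecH := by
    intro n
    induction n with
    | zero =>
      intro _ s hs
      obtain rfl : s = 0 := by simpa using hs
      rw [elemOf_zero, actV_one]
      exact Or.inl (add_self_vec _)
    | succ n ih =>
      intro hn s hs
      rcases split_bit hs with hs' | ⟨t, ht, rfl⟩
      · exact ih (by omega) s hs'
      · have h1 := h n (by omega)
        have h2 : actV (vr u) (elemOf (2 ^ n)) + vr u = 0 ∨
            actV (vr u) (elemOf (2 ^ n)) + vr u = vr vecH := by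
          rw [actV_eMat (by omega), ← vr_xor]
          rcases h1 with h1 | h1 <;> rw [Nat.eq_of_beq_eq_true h1]
          · exact Or.inl vr_zero
          · exact Or.inr rfl
        have e : actV (vr u) (elemOf (2 ^ n ^^^ t)) + vr u =
            actV (actV (vr u) (elemOf (2 ^ n)) + vr u) (elemOf t) +
              (actV (vr u) (elemOf t) + vr u) := by
          rw [actV_add, ← actV_mul, ← elemOf_xor, add_assoc, ← add_assoc (actV (vr u) (elemOf t)),
            add_self_vec, zero_add]
        rw [e]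
        refine zero_or_add (v := vr vecH) ?_ (ih (by omega) t ht) rfl
        rcases h2 with h2 | h2 <;> rw [h2]
        · exact Or.inl (actV_zero _)
        · exact Or.inr (actV_vecH (eleven_le_XYZ (elemOf_mem _)))
  intro e he
  obtain ⟨s, hs, rfl⟩ := exists_elemOf he
  exact key 11 le_rfl s hs

/-- the element of a state -/
noncomputable def stEl (j : ℕ) : J4 := prodW j5 (czState.getD j [])

/-- the tree of the states -/
noncomputable def treeOK : Bool :=
  (List.range 7).all fun j => Nat.beq j 0 && (czState.getD j [] == []) ||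
    (Nat.blt (tw.par.getD j (j, [])).1 j && (tw.par.getD j (j, [])).2.all (fun c => Nat.blt c 4) &&
      (czState.getD j [] == czState.getD (tw.par.getD j (j, [])).1 [] ++ (tw.par.getD j (j, [])).2 ++ [4]))

theorem treeOK_ok : treeOK = true := by decide +kernel

theorem wst_eq (j : ℕ) (hj : j < 7) : TData.wst rig j = stEl j := by
  induction j using Nat.strong_induction_on with
  | _ j ih =>
    have h := treeOK_ok
    simp only [treeOK, List.all_eq_true, List.mem_range, Bool.or_eq_true, Bool.and_eq_true,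
      beq_iff_eq, Nat.blt_eq] at h
    rcases h j hj with ⟨h0, h1⟩ | ⟨⟨h1, h2⟩, h3⟩
    · obtain rfl := Nat.eq_of_beq_eq_true h0
      rw [TData.wst_zero, stEl, h1, prodW_nil]
    · rw [TData.wst, dif_pos h1, ih _ h1 (by omega), stEl, stEl, h3, prodW_append, prodW_append,
        prodW_single, j5_four, TData.ev, toH_word]
      congr 2
      refine prodW_congr fun c hc => ?_
      have := h2 c hc
      interval_cases c <;> simp [jz, j5]

theorem decomp (g : J4) : ∃ j < 7, ∃ a ∈ subXYZ, ∃ b ∈ subXYZ, g = a * stEl j * b := by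
  have hns : tw.ns = 7 := by
    have h := tw_misc
    simp only [Bool.and_eq_true] at h
    exact Nat.eq_of_beq_eq_true h.2
  obtain ⟨⟨⟨i, hi⟩, y⟩, h⟩ := toCoset_surj ((g⁻¹ : J4) : J4 ⧸ subXYZ)
  induction y using QuotientGroup.induction_on with
  | _ y =>
    change ((toH y * (TData.wst rig i)⁻¹ : J4) : J4 ⧸ subXYZ) = _ at h
    rw [QuotientGroup.eq, wst_eq i (hns ▸ hi)] at h
    have hy : toH y ∈ subXYZ := toH_range.ge ⟨y, rfl⟩
    refine ⟨i, hns ▸ hi, _, inv_mem h, _, inv_mem hy, ?_⟩
    group

theorem near_state {j : ℕ} (hj : j < 7) (hj0 : j ≠ 0) {b : J4} (hb : b ∈ subXYZ)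
    (h : Near (stEl j * b)) : ∃ s ∈ czAllow.getD (j - 1) [], b * zz * b⁻¹ = elemOf s := by
  obtain ⟨i, hi, e⟩ := XYZ_conj_zz (inv_mem hb)
  rw [inv_inv, zeta_coord hi] at e
  have hst : stateOK j = true := by
    interval_cases j
    exacts [absurd rfl hj0, stateOK1, stateOK2, stateOK3, stateOK4, stateOK5, stateOK6]
  rw [stateOK, strict_eq, strict_eq, strict_eq] at hst
  set w := czState.getD j [] with hw
  obtain ⟨a', b', c', h1, h2, h3, h4⟩ := scan_spec le_rfl hst (coordOf i) (coord_lt hi)
  rw [Nat.zero_xor] at h1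
  have hu : ∀ (u : ℕ) (q : ℕ), modU u = true → actV (vr (wVec w u)) (elemOf (coordOf i)) = vr q →
      eqV (q ^^^ wVec w u) 0 = true ∨ eqV (q ^^^ wVec w u) (wVec w vecH) = true := by
    intro u q hm hq
    have hn := h.2 _ (modU_spec hm)
    have hx : ∀ x : Fin 112 → ZMod 2, actV x (stEl j * b) = actV (actV x (prodW j5 w)) b :=
      fun x => actV_mul _ _ _
    rw [hx, hx, wVec_spec, wVec_spec] at hn
    have e2 : actV (actV (vr (wVec w u)) b) zz + actV (vr (wVec w u)) b =
        actV (vr q + vr (wVec w u)) b := by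
      rw [actV_add, ← hq, ← e, ← actV_mul, ← actV_mul, inv_mul_cancel_right]
    rw [e2] at hn
    have inj : ∀ x y : Fin 112 → ZMod 2, actV x b = actV y b → x = y := fun x y hxy => by
      have := congrArg (fun v => actV v b⁻¹) hxy
      simpa [← actV_mul, actV_one] using this
    rcases hn with hn | hn
    · refine Or.inl (eqV_of_vr ?_)
      rw [vr_xor, vr_zero]
      exact inj _ _ (hn.trans (actV_zero b).symm)
    · refine Or.inr (eqV_of_vr ?_)
      rw [vr_xor]
      exact inj _ _ hn
  have ha : eqV a' (wVec w vecH) = true := by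
    refine eqV_of_vr ?_
    have hn := h.1
    rw [← actV_mul] at hn
    have := congrArg (fun v => actV v b⁻¹) hn
    simp only [← actV_mul] at this
    rw [← h2, ← e, ← wVec_spec, ← actV_mul]
    have e1 : prodW j5 w * (b * zz * b⁻¹) = stEl j * b * zz * b⁻¹ := by
      rw [stEl, ← hw]; simp only [mul_assoc]
    rw [e1, this, mul_inv_cancel_right]
    rfl
  have k1 := hu czU.1 b' modU_ok.1 h3
  have k2 := hu czU.2 c' modU_ok.2 h4
  simp only [leafOK, coord_bit hi, ha, Bool.not_true, Bool.false_or, Bool.or_eq_true,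
    Bool.not_eq_true', List.any_eq_true] at h1
  rw [← Bool.or_eq_true] at k1 k2
  rcases h1 with ((h1 | h1) | h1) | h1
  · obtain ⟨s, hs, hse⟩ := h1
    exact ⟨s, hs, by rw [e, Nat.eq_of_beq_eq_true hse]⟩
  · simp at h1
  · rw [k1] at h1; simp at h1
  · rw [k2] at h1; simp at h1

/-- the vectors reached from the fixed vector by elements commuting with z -/
def centOrbit : Set (Fin 112 → ZMod 2) := {x | ∃ c ∈ centZ, actV (vr vecH) c = x}

/-- the part of a state in the vectors satisfying the condition -/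
def stateSet (j : ℕ) : Set (Fin 112 → ZMod 2) :=
  {x | ∃ b ∈ subXYZ, Near (stEl j * b) ∧ actV (vr vecH) (stEl j * b) = x}

theorem centOrbit_sub : centOrbit ⊆ ⋃ j ∈ Finset.range 7, stateSet j := by
  rintro x ⟨c, hc, rfl⟩
  obtain ⟨j, hj, a, ha, b, hb, rfl⟩ := decomp c
  rw [mul_assoc] at hc ⊢
  exact Set.mem_iUnion₂.2 ⟨j, Finset.mem_range.2 hj, b, hb, (near_of_cent hc).left ha,
    by rw [actV_mul _ a, actV_vecH ha]⟩

theorem stateSet_zero : (stateSet 0).ncard ≤ 1 := by
  have h0 : stEl 0 = 1 := by rw [← wst_eq 0 (by norm_num), TData.wst_zero]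
  refine (Set.ncard_le_ncard (t := {vr vecH}) ?_).trans (by simp)
  rintro x ⟨b, hb, -, rfl⟩
  rw [h0, one_mul, actV_vecH hb]
  rfl

theorem stateSet_bound {j : ℕ} (hj : j < 7) (hj0 : j ≠ 0) :
    (stateSet j).ncard * 1771 ≤ (czAllow.getD (j - 1) []).length * orbSize j := by
  classical
  haveI := finite_J4
  haveI := finite_PZ
  set x := actV (vr vecH) (stEl j)
  let S : Subgroup J4 :=
    { carrier := {y | actV x y = x}
      one_mem' := actV_one _
      mul_mem' := fun {a b} ha hb => by show actV x (a * b) = x; rw [actV_mul, ha, hb]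
      inv_mem' := fun {a} ha => by
        show actV x a⁻¹ = x
        conv_lhs => rw [← show actV x a = x from ha]
        rw [← actV_mul, mul_inv_cancel, actV_one] }
  let T : Subgroup J4 := subXYZ ⊓ S
  have hT : Nat.card (TData.stb rig j) ≤ Nat.card T := by
    let f : TData.stb rig j → T := fun y => ⟨toH y.1, toH_range.ge ⟨_, rfl⟩, by
      have h := (TData.mem_stb j y.1).1 y.2
      rw [Same, wst_eq j hj] at h
      show actV x (toH y.1) = x
      have h' := actV_vecH h
      rw [← actV_mul]
      conv_rhs => rw [show x = actV (vr vecH) (stEl j) from rfl, ← h']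
      rw [← actV_mul, inv_mul_cancel_right]⟩
    refine Nat.card_le_card_of_injective f fun y z h => Subtype.ext (toH_injective ?_)
    exact congrArg Subtype.val h
  set A := czAllow.getD (j - 1) []
  let B := {b : subXYZ // Near (stEl j * b.1)}
  have h1 : (stateSet j).ncard * Nat.card T ≤ Nat.card B := by
    rw [← Nat.card_coe_set_eq, ← Nat.card_prod]
    choose b hb hn hx using fun y : stateSet j => y.2
    refine Nat.card_le_card_of_injective (fun p => (⟨⟨p.2.1 * b p.1, mul_mem p.2.2.1 (hb p.1)⟩, ?_⟩ : B)) ?_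
    · obtain ⟨y, s, hs, hsx⟩ := p
      have e : stEl j * (s * b y) = stEl j * s * (stEl j)⁻¹ * (stEl j * b y) := by group
      have hk : stEl j * s * (stEl j)⁻¹ ∈ subXYZ := by
        rw [← stabH_eq]
        show actV (vr vecH) _ = _
        rw [actV_mul, actV_mul, show actV (actV (vr vecH) (stEl j)) s = x from hsx, ← actV_mul,
          mul_inv_cancel, actV_one]
      refine Near.left (inv_mem hk) ?_
      rw [e, inv_mul_cancel_left]
      exact hn y
    · rintro ⟨y, s⟩ ⟨y', s'⟩ h
      have h' : s.1 * b y = s'.1 * b y' := congrArg (fun q : B => q.1.1) h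
      have hy : y = y' := Subtype.ext <| by
        rw [← hx y, ← hx y', actV_mul, actV_mul]
        have hs : ∀ t : T, actV x t.1 = x := fun t => t.2.2
        calc actV x (b y) = actV (actV x s.1) (b y) := by rw [hs]
          _ = actV (actV x s'.1) (b y') := by rw [← actV_mul, h', actV_mul]
          _ = actV x (b y') := by rw [hs]
      subst hy
      exact Prod.ext rfl (Subtype.ext (mul_right_cancel h'))
  have h2 : Nat.card B ≤ A.length * Nat.card centHZ := by
    choose s hs hse using fun b : B => near_state hj hj0 b.1.2 b.2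
    have hi : ∀ b : B, A.idxOf (s b) < A.length := fun b => List.idxOf_lt_length_iff.2 (hs b)
    let idx : B → Fin A.length := fun b => ⟨_, hi b⟩
    let rep : Fin A.length → subXYZ := fun i =>
      if h : ∃ b : B, idx b = i then h.choose.1 else 1
    have hrep : ∀ b, (rep (idx b)).1⁻¹ * b.1.1 ∈ centHZ := by
      intro b
      have hex : ∃ b' : B, idx b' = idx b := ⟨b, rfl⟩
      simp only [rep, dif_pos hex]
      have hss : s hex.choose = s b := by
        have := congrArg Fin.val hex.choose_spec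
        exact (List.idxOf_inj (hs hex.choose)).1 this
      refine Subgroup.mem_inf.2 ⟨mul_mem (inv_mem hex.choose.1.2) b.1.2, mem_centZ.2 ?_⟩
      have e := (hse hex.choose).trans (hss ▸ (hse b).symm)
      show _ * zz = zz * _
      calc _ = hex.choose.1.1⁻¹ * (b.1.1 * zz * b.1.1⁻¹) * b.1.1 := by group
        _ = hex.choose.1.1⁻¹ * (hex.choose.1.1 * zz * hex.choose.1.1⁻¹) * b.1.1 := by rw [e]
        _ = _ := by group
    rw [← Nat.card_fin A.length, ← Nat.card_prod]
    refine Nat.card_le_card_of_injective (fun b => (idx b, (⟨_, hrep b⟩ : centHZ))) fun b c h => ?_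
    have e1 : idx b = idx c := (Prod.ext_iff.1 h).1
    have e2 := congrArg Subtype.val (Prod.ext_iff.1 h).2
    simp only [e1] at e2
    exact Subtype.ext (Subtype.ext (mul_left_cancel e2))
  have h3 : Nat.card (TData.stb rig j) * orbSize j = 501397585920 := by
    rw [← orb_facts.1 j hj, TData.card_orb, Subgroup.card_mul_index, card_PZ]
  have h4 := card_centHZ
  have h5 : (stateSet j).ncard * Nat.card (TData.stb rig j) ≤ A.length * Nat.card centHZ :=
    (Nat.mul_le_mul_left _ hT).trans (h1.trans h2)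
  have hpos : 0 < 501397585920 := by norm_num
  refine Nat.le_of_mul_le_mul_left ?_ hpos
  calc 501397585920 * ((stateSet j).ncard * 1771)
      = (stateSet j).ncard * Nat.card (TData.stb rig j) * (orbSize j * 1771) := by rw [← h3]; ring
    _ ≤ A.length * Nat.card centHZ * (orbSize j * 1771) := Nat.mul_le_mul_right _ h5
    _ = 501397585920 * (A.length * orbSize j) := by rw [← h4]; ring

theorem centOrbit_card : centOrbit.ncard ≤ 77 := by
  haveI : Finite (Fin 112 → ZMod 2) := inferInstance
  refine (Set.ncard_le_ncard centOrbit_sub (Set.toFinite _)).trans ?_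
  refine (Finset.set_ncard_biUnion_le _ _).trans ?_
  have hb : ∀ j, 0 < j → j < 7 →
      (stateSet j).ncard * 1771 ≤ (czAllow.getD (j - 1) []).length * orbSize j :=
    fun j h0 hj => stateSet_bound hj (by omega)
  have b0 := stateSet_zero
  have b1 := hb 1 (by norm_num) (by norm_num)
  have b2 := hb 2 (by norm_num) (by norm_num)
  have b3 := hb 3 (by norm_num) (by norm_num)
  have b4 := hb 4 (by norm_num) (by norm_num)
  have b5 := hb 5 (by norm_num) (by norm_num)
  have b6 := hb 6 (by norm_num) (by norm_num)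
  norm_num [orbSize, czAllow] at b1 b2 b3 b4 b5 b6
  simp only [Finset.sum_range_succ, Finset.sum_range_zero]
  generalize (stateSet 0).ncard = n0, (stateSet 1).ncard = n1, (stateSet 2).ncard = n2,
    (stateSet 3).ncard = n3, (stateSet 4).ncard = n4, (stateSet 5).ncard = n5,
    (stateSet 6).ncard = n6 at *
  omega

theorem card_centZ_le : Nat.card centZ ≤ 77 * Nat.card centHZ := by
  classical
  haveI := finite_J4
  choose r hr hrx using fun y : centOrbit => y.2
  have hx : ∀ c : centZ, actV (vr vecH) c.1 ∈ centOrbit := fun c => ⟨_, c.2, rfl⟩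
  let q : centZ → centOrbit := fun c => ⟨_, hx c⟩
  have hm : ∀ c : centZ, c.1 * (r (q c))⁻¹ ∈ centHZ := fun c => by
    refine Subgroup.mem_inf.2 ⟨?_, mul_mem c.2 (inv_mem (hr _))⟩
    rw [← stabH_eq]
    show actV (vr vecH) _ = _
    have h := hrx (q c)
    rw [actV_mul, show actV (vr vecH) c.1 = (q c).1 from rfl, ← h, ← actV_mul, mul_inv_cancel, actV_one]
  have hinj : Function.Injective fun c => (q c, (⟨_, hm c⟩ : centHZ)) := fun c d h => by
    have e1 := (Prod.ext_iff.1 h).1
    have e2 := congrArg Subtype.val (Prod.ext_iff.1 h).2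
    simp only [show q c = q d from e1] at e2
    exact Subtype.ext (mul_right_cancel e2)
  refine (Nat.card_le_card_of_injective _ hinj).trans ?_
  rw [Nat.card_prod, Nat.card_coe_set_eq]
  exact Nat.mul_le_mul_right _ centOrbit_card

end CfsgLib.J4Pres
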