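import Cfsg.Agent.Lib.J4Pres.CentGens
import Cfsg.Agent.Lib.Golay.Mathieu

/-!
The centraliser of the central involution acts on 77 vectors as the stabiliser of a pair of points
in the Mathieu group acts on the 77 octads through the pair.
-/

set_option autoImplicit false
set_option Elab.async false

namespace CfsgLib.J4Pres

open Cfsg CfsgLib.CosetEnum CfsgLib.Golay Cfsg.Spor
open scoped Pointwise

/-- an octad through the two points -/
noncomputable def octC (i : ℕ) : ℕ := czOctad.getD i 0

/-- the permutation of a generator -/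
noncomputable def permC (k : ℕ) : ℕ := czPerm.getD k 0

/-- an element and the permutation it induces -/
def Induces (c : J4) (s : Equiv.Perm GolayPt) : Prop :=
  s ∈ M24 ∧ s • dec F22 = dec F22 ∧ ∀ i < 77, ∃ j < 77,
    s • dec (octC i) = dec (octC j) ∧ actV (vr (vecC j)) c = vr (vecC i)

theorem Induces.mul {c d : J4} {s t : Equiv.Perm GolayPt} (h : Induces c s) (h' : Induces d t) :
    Induces (c * d) (s * t) := by
  refine ⟨mul_mem h.1 h'.1, by rw [mul_smul, h'.2.1, h.2.1], fun i hi => ?_⟩
  obtain ⟨j, hj, e1, e2⟩ := h'.2.2 i hi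
  obtain ⟨l, hl, e3, e4⟩ := h.2.2 j hj
  exact ⟨l, hl, by rw [mul_smul, e1, e3], by rw [actV_mul, e4, e2]⟩

theorem Induces.one : Induces 1 1 :=
  ⟨one_mem _, one_smul _ _, fun i hi => ⟨i, hi, one_smul _ _, actV_one _⟩⟩

theorem Induces.inv {c : J4} {s : Equiv.Perm GolayPt} (h : Induces c s) : Induces c⁻¹ s⁻¹ := by
  refine ⟨inv_mem h.1, by rw [inv_smul_eq_iff, h.2.1], fun i hi => ?_⟩
  choose f hf using fun k : Fin 77 => h.2.2 k.val k.2
  let F : Fin 77 → Fin 77 := fun k => ⟨f k, (hf k).1⟩
  have hF : Function.Injective F := fun a b e => Fin.ext (vecC_inj a.2 b.2 (by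
    rw [← (hf a).2.2, ← (hf b).2.2, show f a = f b from congrArg Fin.val e]))
  obtain ⟨k, hk⟩ := (Finite.injective_iff_surjective.1 hF) ⟨i, hi⟩
  have hk' : f k = i := congrArg Fin.val hk
  obtain ⟨-, e1, e2⟩ := hf k
  rw [hk'] at e1 e2
  exact ⟨k.val, k.2, by rw [inv_smul_eq_iff, e1],
    by rw [← e2, ← actV_mul, mul_inv_cancel, actV_one]⟩

/-- the octads separate the points -/
noncomputable def sepOK : Bool :=
  (List.range 24).all fun p => F22.testBit p || Nat.beq
    (czOctad.foldl (fun a o => bif o.testBit p then a &&& o else a) fullMask) (2 ^ p ||| F22)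

theorem sepOK_ok : (sepOK && inC 0x149f && Nat.beq (pop 24 0x149f) 8 &&
    octFor (F22 ^^^ fullMask) 0x149f && Nat.beq czOctad.length 77) = true := by decide +kernel

theorem fold_and_mem {g : Equiv.Perm GolayPt} {p : ℕ} (hp : p < 24) :
    ∀ (l : List ℕ), (∀ o ∈ l, g • dec o = dec o) → ∀ a, g (pt p) ∈ dec a →
      g (pt p) ∈ dec (l.foldl (fun a o => bif o.testBit p then a &&& o else a) a)
  | [], _, _, h => h
  | o :: l, hl, a, h => by
    rw [List.forall_mem_cons] at hl
    refine fold_and_mem hp l hl.2 _ ?_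
    dsimp only
    cases ho : o.testBit p
    · simpa using h
    · simp only [cond_true]
      rw [dec_and, Finset.mem_inter]
      refine ⟨h, ?_⟩
      rw [← hl.1]
      exact Finset.smul_mem_smul_finset (mem_dec.2 (by rwa [idx_pt p hp]))

theorem Induces.eq_one {s : Equiv.Perm GolayPt} (h : Induces 1 s) : s = 1 := by
  have hok := sepOK_ok
  simp only [sepOK, Bool.and_eq_true, List.all_eq_true, List.mem_range, Bool.or_eq_true] at hok
  obtain ⟨⟨⟨⟨hsep, -⟩, -⟩, hoct⟩, hlen⟩ := hok
  have hl := Nat.eq_of_beq_eq_true hlen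
  have hfix : ∀ o ∈ czOctad, s • dec o = dec o := by
    intro o ho
    obtain ⟨i, hi, rfl⟩ := List.getElem_of_mem ho
    obtain ⟨j, hj, e1, e2⟩ := h.2.2 i (hl ▸ hi)
    rw [actV_one] at e2
    obtain rfl := vecC_inj hj (hl ▸ hi) e2
    rwa [octC, List.getD_eq_getElem _ _ hi] at e1
  have hout : ∀ p ∈ dec (F22 ^^^ fullMask), s p = p := by
    intro p hp
    rw [mem_dec, Nat.testBit_xor, testBit_fullMask] at hp
    simp only [idx_lt, decide_true, Bool.bne_true, Bool.not_eq_true'] at hp
    rcases hsep (idx p) (idx_lt p) with h1 | h1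
    · rw [hp] at h1; simp at h1
    · have h2 := fold_and_mem (idx_lt p) czOctad hfix fullMask
        (by rw [dec_fullMask]; exact Finset.mem_univ _)
      rw [Nat.eq_of_beq_eq_true h1, mem_dec_or, mem_dec_two_pow (idx_lt p), pt_idx] at h2
      refine h2.resolve_right fun hF => ?_
      rw [← h.2.1] at hF
      have hp' := (Finset.smul_mem_smul_finset_iff s).1 hF
      rw [mem_dec, hp] at hp'
      exact Bool.noConfusion hp' 
  have ho := octFor_preserved h.1 hoct hout
  have hpair : ∀ p ∈ dec F22, s p = p := by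
    have hd : ∀ p : GolayPt, p ∈ dec F22 → p = pt 0 ∨ p = pt 23 := by decide +kernel
    have h0 : pt 0 ∈ dec F22 ∧ pt 23 ∈ dec F22 ∧ pt 0 ∈ dec 0x149f ∧ pt 23 ∉ dec 0x149f := by
      decide +kernel
    have e0 : s (pt 0) = pt 0 := by
      have a1 := Finset.smul_mem_smul_finset (a := s) h0.2.2.1
      rw [ho] at a1
      have a2 := Finset.smul_mem_smul_finset (a := s) h0.1
      rw [h.2.1] at a2
      rcases hd _ a2 with e | e
      · exact e
      · rw [e] at a1
        exact absurd a1 h0.2.2.2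
    intro p hp
    rcases hd p hp with rfl | rfl
    · exact e0
    · have a2 := Finset.smul_mem_smul_finset (a := s) h0.2.1
      rw [h.2.1] at a2
      rcases hd _ a2 with e | e
      · exact absurd (s.injective ((show s (pt 23) = pt 0 from e).trans e0.symm)) (by decide +kernel)
      · exact e
  refine Equiv.ext fun p => ?_
  by_cases hp : p ∈ dec F22
  · exact hpair p hp
  · refine hout p ?_
    rw [mem_dec] at hp ⊢
    simp [Nat.testBit_xor, testBit_fullMask, idx_lt, hp]

/-- the check of a generator -/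
noncomputable def inducesOK (k : ℕ) : Bool :=
  inM24 (permC k) && Nat.beq (mimg (permC k) F22) F22 &&
    (List.range 77).all fun i => strict (backC k i) fun j =>
      Nat.beq (mimg (permC k) (octC i)) (octC j)

theorem inducesOK_ok : (List.range 17).all inducesOK = true := by decide +kernel

theorem induces_gC {k : ℕ} (hk : k < 17) : Induces (gC k) (toPerm (permC k)) := by
  have h := List.all_eq_true.1 inducesOK_ok k (List.mem_range.2 hk)
  simp only [inducesOK, Bool.and_eq_true, List.all_eq_true, List.mem_range, strict_eq] at h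
  obtain ⟨⟨h1, h2⟩, h3⟩ := h
  have hv : validP (permC k) = true := by simp only [inM24, Bool.and_eq_true] at h1; exact h1.1
  refine ⟨toPerm_mem_M24 h1, by rw [smul_dec hv, Nat.eq_of_beq_eq_true h2], fun i hi => ?_⟩
  have hb := List.all_eq_true.1 backOK_ok k (List.mem_range.2 hk)
  simp only [backOK, List.all_eq_true, List.mem_range, strict_eq, Bool.and_eq_true, Nat.blt_eq] at hb
  obtain ⟨hj, hv'⟩ := hb i hi
  exact ⟨_, hj, by rw [smul_dec hv, Nat.eq_of_beq_eq_true (h3 i hi)],
    by rw [actV_gC hk, Nat.eq_of_beq_eq_true hv']⟩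

theorem exists_induces (c : centZ) : ∃ s, Induces c.1 s := by
  obtain ⟨x, hx⟩ := c
  show ∃ s, Induces x s
  rw [← centZ_facts.1] at hx
  induction hx using Subgroup.closure_induction with
  | mem y hy =>
    obtain ⟨k, hk, rfl⟩ := hy
    exact ⟨_, induces_gC hk⟩
  | one => exact ⟨1, Induces.one⟩
  | mul a b _ _ ha hb =>
    obtain ⟨s, hs⟩ := ha
    obtain ⟨t, ht⟩ := hb
    exact ⟨_, hs.mul ht⟩
  | inv a _ ha =>
    obtain ⟨s, hs⟩ := ha
    exact ⟨_, hs.inv⟩

theorem induces_unique {c : J4} {s t : Equiv.Perm GolayPt} (hs : Induces c s) (ht : Induces c t) :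
    s = t := by
  have h := hs.inv.mul ht
  rw [inv_mul_cancel] at h
  exact inv_mul_eq_one.1 h.eq_one

/-- the permutation induced by an element -/
noncomputable def phi : centZ →* Equiv.Perm GolayPt :=
  MonoidHom.mk' (fun c => (exists_induces c).choose) fun a b =>
    induces_unique (exists_induces (a * b)).choose_spec
      ((exists_induces a).choose_spec.mul (exists_induces b).choose_spec)

theorem phi_spec (c : centZ) : Induces c.1 (phi c) := (exists_induces c).choose_spec

theorem phi_gC {k : ℕ} (hk : k < 17) : phi ⟨gC k, gC_cent hk⟩ = toPerm (permC k) :=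
  induces_unique (phi_spec _) (induces_gC hk)

attribute [local irreducible] phi

/-- composition along a word -/
noncomputable def permW (w : List ℕ) : ℕ := w.foldr (fun k P => mulP (permC k) P) idPk

theorem phi_word : ∀ {w : List ℕ}, (∀ k ∈ w, k < 17) → ∀ (h : prodW gC w ∈ centZ),
    validP (permW w) = true ∧ phi ⟨prodW gC w, h⟩ = toPerm (permW w)
  | [], _, h => ⟨by rw [permW, List.foldr_nil]; exact validP_idPk, by
      rw [show (⟨prodW gC [], h⟩ : centZ) = 1 from Subtype.ext (prodW_nil gC), map_one, permW,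
        List.foldr_nil, toPerm_idPk]⟩
  | k :: w, hw, h => by
    rw [List.forall_mem_cons] at hw
    have hm : prodW gC w ∈ centZ := centK_le (prodW_gC_mem hw.2)
    obtain ⟨hv, he⟩ := phi_word hw.2 hm
    have hk := List.all_eq_true.1 inducesOK_ok k (List.mem_range.2 hw.1)
    simp only [inducesOK, inM24, Bool.and_eq_true] at hk
    have hvk : validP (permC k) = true := hk.1.1.1
    have e : permW (k :: w) = mulP (permC k) (permW w) := by rw [permW, permW, List.foldr_cons]
    refine ⟨by rw [e]; exact validP_mulP hvk hv, ?_⟩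
    rw [show (⟨prodW gC (k :: w), h⟩ : centZ) = ⟨gC k, gC_cent hw.1⟩ * ⟨prodW gC w, hm⟩ from
      Subtype.ext (prodW_cons _ _ _), map_mul, phi_gC hw.1, he, e, toPerm_mulP hvk hv]

theorem chain_ok : ((czChain.all fun e => e.2.all (fun k => Nat.blt k 17) &&
      Nat.beq (permW e.2) e.1) &&
    (levs24.drop 2).all fun L => L.gens.all fun P => czChain.any fun e => Nat.beq e.1 P) = true := by
  decide +kernel

theorem range_le : phi.range ≤ M24 := by
  rintro _ ⟨c, rfl⟩
  exact (phi_spec c).1

theorem range_fix22 : fixH phi.range F22 = fixH M24 F22 := by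
  have hc := chain_ok
  simp only [Bool.and_eq_true, List.all_eq_true, List.any_eq_true, Nat.blt_eq] at hc
  have hcar : ∀ L ∈ levs24.drop 2, Carries phi.range [] L.gens := fun L hL =>
    ⟨range_le, by simp, fun P hP => by
      obtain ⟨e, he, hP'⟩ := hc.2 L hL P hP
      obtain ⟨hw, hperm⟩ := hc.1 e he
      obtain ⟨-, hphi⟩ := phi_word hw (centK_le (prodW_gC_mem hw))
      rw [← Nat.eq_of_beq_eq_true hP', ← Nat.eq_of_beq_eq_true hperm]
      exact ⟨_, hphi⟩⟩
  refine Subgroup.eq_of_le_of_card_ge (fun g hg => ?_) ?_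
  · rw [mem_fixH] at hg ⊢
    exact ⟨range_le hg.1, hg.2⟩
  · rw [card_chain (levs24.drop 2) F22 hcar (by decide +kernel),
      fixH_eq_bot_of_stages range_le (St := stages24) (by decide +kernel),
      Subgroup.card_bot, mul_one, natCard_fix22]
    exact le_of_eq (by decide +kernel)

/-- the kernel -/
noncomputable def cN : Subgroup centZ := phi.ker

/-- the subgroup of index two -/
noncomputable def cM : Subgroup centZ := (fixH M24 F22).comap phi

theorem cN_le : cN ≤ cM := fun c hc => by
  show phi c ∈ fixH M24 F22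
  rw [MonoidHom.mem_ker.1 hc]
  exact one_mem _

theorem phi_pair (c : centZ) :
    phi c (pt 0) = pt 0 ∧ c ∈ cM ∨ phi c (pt 0) = pt 23 ∧ phi c (pt 23) = pt 0 ∧ c ∉ cM := by
  obtain ⟨hM, hpair, -⟩ := phi_spec c
  have hd : ∀ p : GolayPt, p ∈ dec F22 → p = pt 0 ∨ p = pt 23 := by decide +kernel
  have h0 : pt 0 ∈ dec F22 ∧ pt 23 ∈ dec F22 ∧ (pt 23 ≠ pt 0) := by decide +kernel
  have a0 : phi c (pt 0) ∈ dec F22 := hpair ▸ Finset.smul_mem_smul_finset h0.1
  have a1 : phi c (pt 23) ∈ dec F22 := hpair ▸ Finset.smul_mem_smul_finset h0.2.1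
  have hne : phi c (pt 23) ≠ phi c (pt 0) := fun e => h0.2.2 ((phi c).injective e)
  rcases hd _ a0 with e0 | e0 <;> rcases hd _ a1 with e1 | e1
  · exact absurd (e1.trans e0.symm) hne
  · refine Or.inl ⟨e0, mem_fixH.2 ⟨hM, fun p hp => ?_⟩⟩
    rcases hd p hp with rfl | rfl
    exacts [e0, e1]
  · refine Or.inr ⟨e0, e1, fun hc => h0.2.2 ?_⟩
    exact e0.symm.trans ((mem_fixH.1 hc).2 _ h0.1)
  · exact absurd (e1.trans e0.symm) hne

theorem swap_ok : Nat.beq (ap (permC 12) 0) 23 = true := by decide +kernel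

theorem index_cM : cM.index = 2 := by
  rw [Subgroup.index_eq_two_iff]
  refine ⟨⟨gC 12, gC_cent (by norm_num)⟩, fun b => ?_⟩
  set a : centZ := ⟨gC 12, gC_cent (by norm_num)⟩
  have hne : pt 23 ≠ pt 0 := by decide +kernel
  have ha : phi a (pt 0) = pt 23 := by
    have hk := List.all_eq_true.1 inducesOK_ok 12 (by simp)
    simp only [inducesOK, inM24, Bool.and_eq_true] at hk
    rw [phi_gC (by norm_num), toPerm_apply hk.1.1.1, idx_pt 0 (by norm_num),
      Nat.eq_of_beq_eq_true swap_ok]
  have ha' : phi a (pt 23) = pt 0 := by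
    rcases phi_pair a with ⟨e, -⟩ | ⟨-, e, -⟩
    · exact absurd (ha.symm.trans e) hne
    · exact e
  rcases phi_pair b with ⟨e, hm⟩ | ⟨e, e', hm⟩
  · refine Or.inr ⟨hm, fun h => hne ?_⟩
    have h1 := (mem_fixH.1 h).2 (pt 0) (by decide +kernel)
    rw [map_mul, Equiv.Perm.mul_apply, ha] at h1
    rcases phi_pair b with ⟨-, -⟩ | ⟨-, -, hn⟩
    · have h2 : phi b (pt 23) = pt 23 := (mem_fixH.1 hm).2 _ (by decide +kernel)
      exact h2.symm.trans h1
    · exact absurd hm hn
  · refine Or.inl ⟨?_, hm⟩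
    rcases phi_pair (b * a) with ⟨-, h⟩ | ⟨h, -, -⟩
    · exact h
    · rw [map_mul, Equiv.Perm.mul_apply, ha, e'] at h
      exact absurd h.symm hne

/-- the map onto the Mathieu group on 22 points -/
noncomputable def psiM : cM →* (fixH M24 F22 : Subgroup (Equiv.Perm GolayPt)) :=
  (phi.comp cM.subtype).codRestrict _ fun c => c.2

theorem psiM_surj : Function.Surjective psiM := by
  rintro ⟨g, hg⟩
  have h : g ∈ fixH phi.range F22 := range_fix22 ▸ hg
  obtain ⟨c, hc⟩ := (mem_fixH.1 h).1
  exact ⟨⟨c, show phi c ∈ fixH M24 F22 from hc ▸ hg⟩, Subtype.ext hc⟩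

theorem psiM_ker : psiM.ker = cN.subgroupOf cM := by
  ext c
  rw [MonoidHom.mem_ker, Subgroup.mem_subgroupOf, cN, MonoidHom.mem_ker]
  exact Subtype.ext_iff

theorem quot_M22 [(cN.subgroupOf cM).Normal] : Cfsg.IsM22 (cM ⧸ cN.subgroupOf cM) := by
  have e : cM ⧸ cN.subgroupOf cM ≃* (fixH M24 F22 : Subgroup (Equiv.Perm GolayPt)) :=
    (QuotientGroup.quotientMulEquivOfEq psiM_ker.symm).trans
      (QuotientGroup.quotientKerEquivOfSurjective psiM psiM_surj)
  haveI := isSimpleGroup_fix22
  exact ⟨e.isSimpleGroup, by rw [Nat.card_congr e.toEquiv, natCard_fix22]⟩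

theorem card_cN : Nat.card cN = 3 * 2 ^ 13 := by
  haveI := finite_J4
  have h1 := cM.card_mul_index
  have h2 := Subgroup.card_eq_card_quotient_mul_card_subgroup psiM.ker
  rw [Nat.card_congr (QuotientGroup.quotientKerEquivOfSurjective psiM psiM_surj).toEquiv, natCard_fix22,
    psiM_ker, Nat.card_congr (Subgroup.subgroupOfEquivOfLe cN_le).toEquiv] at h2
  rw [index_cM, centZ_facts.2.1, h2] at h1
  generalize Nat.card cN = n at h1 ⊢
  norm_num at h1 ⊢
  omega

end CfsgLib.J4Pres
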