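import Cfsg.Agent.Lib.CosetEnum.Chunks
import Cfsg.Agent.Lib.J4Pres.M24DataG

/-!
Kernel check of one block of facts.
-/

set_option autoImplicit false

namespace CfsgLib.J4Pres
open CfsgLib.CosetEnum

theorem m24CertG_step4 : allUp m24CertG.stepOK' 13 (4 * 2 ^ 13) = true := by decide +kernel

end CfsgLib.J4Pres
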