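import Cfsg.Agent.Lib.J4Pres.CheckM24GStep0
import Cfsg.Agent.Lib.J4Pres.CheckM24GStep1
import Cfsg.Agent.Lib.J4Pres.CheckM24GStep2
import Cfsg.Agent.Lib.J4Pres.CheckM24GStep3
import Cfsg.Agent.Lib.J4Pres.CheckM24GStep4
import Cfsg.Agent.Lib.J4Pres.CheckM24GStep5
import Cfsg.Agent.Lib.J4Pres.CheckM24GStep6
import Cfsg.Agent.Lib.J4Pres.CheckM24GStep7
import Cfsg.Agent.Lib.J4Pres.CheckM24GStep8
import Cfsg.Agent.Lib.CosetEnum.Blocks
import Cfsg.Agent.Lib.J4Pres.M24DataG

/-!
Kernel checks of coset enumeration data.
-/

set_option autoImplicit false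
set_option Elab.async false

namespace CfsgLib.J4Pres
open CfsgLib.CosetEnum

theorem m24CertG_entry0 : allUp m24CertG.entryOK' 13 (0 * 2 ^ 13) = true := by decide +kernel

theorem m24CertG_entry1 : allUp m24CertG.entryOK' 13 (1 * 2 ^ 13) = true := by decide +kernel

theorem m24CertG_entry2 : allUp m24CertG.entryOK' 13 (2 * 2 ^ 13) = true := by decide +kernel

theorem m24CertG_entry3 : allUp m24CertG.entryOK' 13 (3 * 2 ^ 13) = true := by decide +kernel

theorem m24CertG_entry4 : allUp m24CertG.entryOK' 13 (4 * 2 ^ 13) = true := by decide +kernel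

theorem m24CertG_entry5 : allUp m24CertG.entryOK' 13 (5 * 2 ^ 13) = true := by decide +kernel

theorem m24CertG_entry6 : allUp m24CertG.entryOK' 13 (6 * 2 ^ 13) = true := by decide +kernel

theorem m24CertG_entry7 : allUp m24CertG.entryOK' 13 (7 * 2 ^ 13) = true := by decide +kernel

theorem m24CertG_complete : m24CertG.Complete :=
  Cert.complete_of_blocks₂ _ (k := 13) (n := 9) (k₂ := 13) (n₂ := 8) (by decide +kernel)
    (fun j hj => by
      match j, hj with
      | 0, _ => exact m24CertG_step0
      | 1, _ => exact m24CertG_step1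
      | 2, _ => exact m24CertG_step2
      | 3, _ => exact m24CertG_step3
      | 4, _ => exact m24CertG_step4
      | 5, _ => exact m24CertG_step5
      | 6, _ => exact m24CertG_step6
      | 7, _ => exact m24CertG_step7
      | 8, _ => exact m24CertG_step8
      | n + 9, h => omega)
    (by decide +kernel)
    (fun j hj => by
      match j, hj with
      | 0, _ => exact m24CertG_entry0
      | 1, _ => exact m24CertG_entry1
      | 2, _ => exact m24CertG_entry2
      | 3, _ => exact m24CertG_entry3
      | 4, _ => exact m24CertG_entry4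
      | 5, _ => exact m24CertG_entry5
      | 6, _ => exact m24CertG_entry6
      | 7, _ => exact m24CertG_entry7
      | n + 8, h => omega)
    (by decide +kernel)

end CfsgLib.J4Pres
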