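import Cfsg.Agent.Lib.CosetEnum.Chunks
import Cfsg.Agent.Lib.J4Pres.PzDataL

/-!
Kernel check of one block of points of the action.
-/

set_option autoImplicit false

namespace CfsgLib.J4Pres
open CfsgLib.CosetEnum

theorem pzCertL_act4 : allUp pzCertL.actOK' 9 (4 * 2 ^ 9) = true := by decide +kernel

end CfsgLib.J4Pres
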