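import Cfsg.Agent.Lib.J4Pres.CheckPzLStep0
import Cfsg.Agent.Lib.J4Pres.CheckPzLStep1
import Cfsg.Agent.Lib.J4Pres.CheckPzLStep2
import Cfsg.Agent.Lib.J4Pres.CheckPzLStep3
import Cfsg.Agent.Lib.J4Pres.CheckPzLStep4
import Cfsg.Agent.Lib.J4Pres.CheckPzLStep5
import Cfsg.Agent.Lib.J4Pres.CheckPzLStep6
import Cfsg.Agent.Lib.J4Pres.CheckPzLStep7
import Cfsg.Agent.Lib.J4Pres.CheckPzLStep8
import Cfsg.Agent.Lib.J4Pres.CheckPzLStep9
import Cfsg.Agent.Lib.J4Pres.CheckPzLStep10
import Cfsg.Agent.Lib.J4Pres.CheckPzLStep11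
import Cfsg.Agent.Lib.J4Pres.CheckPzLStep12
import Cfsg.Agent.Lib.J4Pres.CheckPzLStep13
import Cfsg.Agent.Lib.J4Pres.CheckPzLAct0
import Cfsg.Agent.Lib.J4Pres.CheckPzLAct1
import Cfsg.Agent.Lib.J4Pres.CheckPzLAct2
import Cfsg.Agent.Lib.J4Pres.CheckPzLAct3
import Cfsg.Agent.Lib.J4Pres.CheckPzLAct4
import Cfsg.Agent.Lib.J4Pres.CheckPzLAct5
import Cfsg.Agent.Lib.J4Pres.CheckPzLAct6
import Cfsg.Agent.Lib.J4Pres.CheckPzLAct7
import Cfsg.Agent.Lib.J4Pres.CheckPzLAct8
import Cfsg.Agent.Lib.J4Pres.CheckPzLAct9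
import Cfsg.Agent.Lib.J4Pres.CheckPzLAct10
import Cfsg.Agent.Lib.J4Pres.CheckPzLAct11
import Cfsg.Agent.Lib.J4Pres.CheckPzLAct12
import Cfsg.Agent.Lib.J4Pres.CheckPzLAct13
import Cfsg.Agent.Lib.J4Pres.CheckPzLAct14
import Cfsg.Agent.Lib.J4Pres.CheckPzLAct15
import Cfsg.Agent.Lib.J4Pres.CheckPzLAct16
import Cfsg.Agent.Lib.J4Pres.CheckPzLAct17
import Cfsg.Agent.Lib.J4Pres.CheckPzLAct18
import Cfsg.Agent.Lib.J4Pres.CheckPzLAct19
import Cfsg.Agent.Lib.J4Pres.CheckPzLAct20
import Cfsg.Agent.Lib.J4Pres.CheckPzLAct21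
import Cfsg.Agent.Lib.J4Pres.CheckPzLAct22
import Cfsg.Agent.Lib.J4Pres.CheckPzLAct23
import Cfsg.Agent.Lib.J4Pres.CheckPzLAct24
import Cfsg.Agent.Lib.J4Pres.CheckPzLAct25
import Cfsg.Agent.Lib.J4Pres.CheckPzLAct26
import Cfsg.Agent.Lib.J4Pres.CheckPzLAct27
import Cfsg.Agent.Lib.J4Pres.CheckPzLAct28
import Cfsg.Agent.Lib.J4Pres.CheckPzLAct29
import Cfsg.Agent.Lib.CosetEnum.Blocks
import Cfsg.Agent.Lib.J4Pres.PzDataL

/-!
Kernel checks of coset enumeration data.
-/

set_option autoImplicit false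

namespace CfsgLib.J4Pres
open CfsgLib.CosetEnum

theorem pzCertL_complete : pzCertL.Complete :=
  Cert.complete_of_blocks _ (k := 12) (n := 14) (k₂ := 14) (by decide +kernel)
    (fun j hj => by
      match j, hj with
      | 0, _ => exact pzCertL_step0
      | 1, _ => exact pzCertL_step1
      | 2, _ => exact pzCertL_step2
      | 3, _ => exact pzCertL_step3
      | 4, _ => exact pzCertL_step4
      | 5, _ => exact pzCertL_step5
      | 6, _ => exact pzCertL_step6
      | 7, _ => exact pzCertL_step7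
      | 8, _ => exact pzCertL_step8
      | 9, _ => exact pzCertL_step9
      | 10, _ => exact pzCertL_step10
      | 11, _ => exact pzCertL_step11
      | 12, _ => exact pzCertL_step12
      | 13, _ => exact pzCertL_step13
      | n + 14, h => omega)
    (by decide +kernel) (by decide +kernel) (by decide +kernel)

theorem pzCertL_action : pzCertL.IsAction :=
  Cert.isAction_of_blocks _ (k₁ := 15) (n₁ := 1) (k₂ := 9) (n₂ := 30) (by decide +kernel) (by decide +kernel)
    (fun j hj => by
      match j, hj with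
      | 0, _ => exact pzCertL_act0
      | 1, _ => exact pzCertL_act1
      | 2, _ => exact pzCertL_act2
      | 3, _ => exact pzCertL_act3
      | 4, _ => exact pzCertL_act4
      | 5, _ => exact pzCertL_act5
      | 6, _ => exact pzCertL_act6
      | 7, _ => exact pzCertL_act7
      | 8, _ => exact pzCertL_act8
      | 9, _ => exact pzCertL_act9
      | 10, _ => exact pzCertL_act10
      | 11, _ => exact pzCertL_act11
      | 12, _ => exact pzCertL_act12
      | 13, _ => exact pzCertL_act13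
      | 14, _ => exact pzCertL_act14
      | 15, _ => exact pzCertL_act15
      | 16, _ => exact pzCertL_act16
      | 17, _ => exact pzCertL_act17
      | 18, _ => exact pzCertL_act18
      | 19, _ => exact pzCertL_act19
      | 20, _ => exact pzCertL_act20
      | 21, _ => exact pzCertL_act21
      | 22, _ => exact pzCertL_act22
      | 23, _ => exact pzCertL_act23
      | 24, _ => exact pzCertL_act24
      | 25, _ => exact pzCertL_act25
      | 26, _ => exact pzCertL_act26
      | 27, _ => exact pzCertL_act27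
      | 28, _ => exact pzCertL_act28
      | 29, _ => exact pzCertL_act29
      | m + 30, h => omega)
    (fun j hj => List.all_eq_true.mp (show ((List.range 30).all fun j =>
      allUp pzCertL.ndImgOK' 9 (j * 2 ^ 9)) = true by decide +kernel) j (List.mem_range.mpr hj))
    (by decide +kernel)
    (fun j hj => by
      obtain rfl : j = 0 := by omega
      decide +kernel)
    (by decide +kernel)

end CfsgLib.J4Pres
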