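import Mathlib.Data.List.Basic

/-!
Certificate for the derivations of the Mathieu group into the elementary abelian subgroup.
-/

set_option autoImplicit false
set_option linter.style.longLine false

namespace CfsgLib.J4Pres

/-- the derivation that is not inner -/
def cocBeta : ℕ := 2012

/-- inner derivations of the unit vectors and the other one -/
def cocBasis : List ℕ := [2010, 2300141, 3346669, 1193, 205993, 2846323, 3971968, 2561645, 553837, 554240, 3203949, 2012]

/-- first part of the certificate -/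
def cocC : List ℕ := [0, 0, 0, 0, 0, 0, 0, 0, 0, 0, 0, 2049, 0, 0, 16392, 0, 0, 0, 0, 90208, 71691, 4169, 0, 0, 0, 0, 0, 0, 0, 0, 0, 0, 0, 0, 0, 0, 0, 0, 0, 0, 0, 0, 0, 0, 0, 0, 0, 0, 0, 0, 0, 0, 0, 0, 0, 0, 0, 0, 0, 0, 0, 0, 0, 0, 0, 34, 0, 0, 0, 0, 43, 0, 0, 0, 40, 107, 41]

/-- second part of the certificate -/
def cocK : List ℕ := [0, 0, 2049, 0, 3786, 0, 0, 2602, 4064, 291, 2594, 0, 0, 0, 0, 245, 0, 24, 425, 1986, 6, 561]

end CfsgLib.J4Pres
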