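import Cfsg.Agent.Lib.J4Pres.ElemUnique
import Cfsg.Agent.Lib.J4Pres.CocycleData
import Cfsg.Agent.Lib.J4Pres.FixPairData

/-!
Derivations of the Mathieu group into the elementary abelian subgroup: one outer class.
-/

set_option autoImplicit false

namespace CfsgLib.J4Pres

open Cfsg CfsgLib.CosetEnum CfsgLib.Schur Cfsg.Spor

/-- the value of a pair on a letter -/
def cVal (u g : ℕ) : ℕ :=
  bif Nat.beq g 0 then u % 2 ^ 11 else bif Nat.beq g 1 then u / 2 ^ 11 % 2 ^ 11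
    else elevenSplit.op 1 (u / 2 ^ 11 % 2 ^ 11)

/-- the inverse letter -/
def invL (g : ℕ) : ℕ := [0, 2, 1].getD g 0

/-- the value of a pair on a word -/
def dVal (u : ℕ) : List ℕ → ℕ
  | [] => 0
  | g :: w => cVal u g ^^^ elevenSplit.op (invL g) (dVal u w)

/-- all values on the relators, packed -/
def dEnc (u : ℕ) : List (List ℕ) → ℕ
  | [] => 0
  | r :: rs => dVal u r ^^^ dEnc u rs <<< 11

/-- the inner derivation of a vector -/
def dCob (e : ℕ) : ℕ :=
  (e ^^^ elevenSplit.op 0 e) ^^^ (e ^^^ elevenSplit.op 2 e) <<< 11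

theorem mod_xor (a b : ℕ) : (a ^^^ b) % 2 ^ 11 = a % 2 ^ 11 ^^^ b % 2 ^ 11 :=
  Nat.eq_of_testBit_eq fun i => by
    simp only [Nat.testBit_mod_two_pow, Nat.testBit_xor]
    by_cases h : i < 11 <;> simp [h]

theorem div_xor (a b : ℕ) : (a ^^^ b) / 2 ^ 11 = a / 2 ^ 11 ^^^ b / 2 ^ 11 :=
  Nat.eq_of_testBit_eq fun i => by simp only [Nat.testBit_div_two_pow, Nat.testBit_xor]

theorem shl_xor (a b : ℕ) : (a ^^^ b) <<< 11 = a <<< 11 ^^^ b <<< 11 :=
  Nat.eq_of_testBit_eq fun i => by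
    simp only [Nat.testBit_shiftLeft, Nat.testBit_xor]
    by_cases h : 11 ≤ i <;> simp [h]

theorem cVal_lt (u g : ℕ) : cVal u g < 2 ^ 11 := by
  unfold cVal
  cases Nat.beq g 0 <;> cases Nat.beq g 1
  · exact op_lt _ _
  all_goals exact Nat.mod_lt _ (by norm_num)

theorem cVal_xor (u v g : ℕ) : cVal (u ^^^ v) g = cVal u g ^^^ cVal v g := by
  unfold cVal
  cases Nat.beq g 0 <;> cases Nat.beq g 1 <;> simp only [cond_true, cond_false] <;>
    first
    | rw [div_xor, mod_xor, elevenSplit.op_xor]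
    | rw [div_xor, mod_xor]
    | rw [mod_xor]

theorem dVal_lt (u : ℕ) : ∀ w, dVal u w < 2 ^ 11
  | [] => Nat.two_pow_pos _
  | _ :: _ => Nat.xor_lt_two_pow (cVal_lt _ _) (op_lt _ _)

theorem xor_four (a b c d : ℕ) : a ^^^ b ^^^ (c ^^^ d) = a ^^^ c ^^^ (b ^^^ d) := by
  simp [Nat.xor_assoc, Nat.xor_comm, Nat.xor_left_comm]

theorem dVal_xor (u v : ℕ) : ∀ w, dVal (u ^^^ v) w = dVal u w ^^^ dVal v w
  | [] => by simp [dVal]
  | g :: w => by
    rw [dVal, dVal, dVal, cVal_xor, dVal_xor u v w, elevenSplit.op_xor, xor_four]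

theorem dEnc_xor (u v : ℕ) : ∀ rs, dEnc (u ^^^ v) rs = dEnc u rs ^^^ dEnc v rs
  | [] => by simp [dEnc]
  | r :: rs => by rw [dEnc, dEnc, dEnc, dVal_xor, dEnc_xor u v rs, shl_xor, xor_four]

theorem dEnc_zero (u : ℕ) : ∀ rs, (∀ r ∈ rs, dVal u r = 0) → dEnc u rs = 0
  | [], _ => rfl
  | r :: rs, h => by
    rw [List.forall_mem_cons] at h
    rw [dEnc, h.1, dEnc_zero u rs h.2]
    rfl

theorem dCob_xor (a b : ℕ) : dCob (a ^^^ b) = dCob a ^^^ dCob b := by
  simp only [dCob, elevenSplit.op_xor]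
  rw [xor_four a b, xor_four a b, shl_xor, xor_four]

theorem lin_zero (A : List ℕ) (n : ℕ) : ModuleSplit.lin n A 0 = 0 := by
  have h := ModuleSplit.lin_xor A n 0 0
  rwa [Nat.xor_self, Nat.xor_self] at h

/-- the checks on the certificate -/
noncomputable def cocOK : Bool :=
  ((List.range 11).all fun i => Nat.beq (cocBasis.getD i 0) (dCob (2 ^ i))) &&
    Nat.beq (cocBasis.getD 11 0) cocBeta && Nat.beq cocBasis.length 12 &&
    ((List.range 22).all fun j => Nat.blt (cocK.getD j 0) (2 ^ 12) &&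
      Nat.beq (ModuleSplit.lin 77 cocC (dEnc (2 ^ j) m24CertG.rels) ^^^
        ModuleSplit.lin 12 cocBasis (cocK.getD j 0)) (2 ^ j)) &&
    Nat.beq cocK.length 22 && Nat.beq (dVal cocBeta pairB.1.2) pairB.1.1 &&
    Nat.beq (dVal cocBeta pairB.2.2) pairB.2.1

theorem cocOK_ok : cocOK = true := by decide +kernel

/-- every derivation is inner or differs from the other one by an inner one -/
theorem coc_cases {u : ℕ} (hu : u < 2 ^ 22) (h : ∀ r ∈ m24CertG.rels, dVal u r = 0) :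
    ∃ e < 2 ^ 11, u ^^^ dCob e = 0 ∨ u ^^^ dCob e = cocBeta := by
  have hok := cocOK_ok
  simp only [cocOK, Bool.and_eq_true, List.all_eq_true, List.mem_range, Nat.blt_eq] at hok
  obtain ⟨⟨⟨⟨⟨⟨hB, hβ⟩, -⟩, hK⟩, hKl⟩, -⟩, -⟩ := hok
  have e := xor_fun_eq
    (fun x => ModuleSplit.lin 77 cocC (dEnc x m24CertG.rels) ^^^
      ModuleSplit.lin 12 cocBasis (ModuleSplit.lin 22 cocK x)) id
    (fun x y => by simp only [dEnc_xor, ModuleSplit.lin_xor]; exact xor_four _ _ _ _)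
    (fun x y => rfl) 22 (fun j hj => by
      show _ = 2 ^ j
      rw [lin_unit _ 22 j hj]
      exact Nat.eq_of_beq_eq_true (hK j hj).2) u hu
  simp only [id, dEnc_zero u _ h, lin_zero, Nat.zero_xor] at e
  set k := ModuleSplit.lin 22 cocK u
  refine ⟨k % 2 ^ 11, Nat.mod_lt _ (by norm_num), ?_⟩
  have h11 : ModuleSplit.lin 11 cocBasis k = dCob (k % 2 ^ 11) := by
    have key : ∀ m ≤ 11, ModuleSplit.lin m cocBasis k = ModuleSplit.lin m cocBasis (k % 2 ^ 11) := by
      intro m hm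
      induction m with
      | zero => rfl
      | succ m ih =>
        rw [ModuleSplit.lin, ModuleSplit.lin, ih (by omega), Nat.testBit_mod_two_pow]
        simp [show m < 11 by omega]
    rw [key 11 le_rfl]
    exact xor_fun_eq (ModuleSplit.lin 11 cocBasis) dCob (ModuleSplit.lin_xor _ _) dCob_xor 11
      (fun i hi => by rw [lin_unit _ 11 i hi]; exact Nat.eq_of_beq_eq_true (hB i hi)) _
      (Nat.mod_lt _ (by norm_num))
  rw [ModuleSplit.lin, h11, Nat.eq_of_beq_eq_true hβ] at e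
  rcases Bool.eq_false_or_eq_true (k.testBit 11) with hk | hk <;> rw [hk] at e <;>
    simp only [Bool.false_eq_true, if_true, if_false, Nat.xor_zero] at e
  · exact Or.inr (by rw [← e, Nat.xor_comm (dCob _) cocBeta, Nat.xor_assoc, Nat.xor_self, Nat.xor_zero])
  · exact Or.inl (by rw [← e, Nat.xor_self])

theorem beta_pair : dVal cocBeta pairB.1.2 = pairB.1.1 ∧ dVal cocBeta pairB.2.2 = pairB.2.1 := by
  have hok := cocOK_ok
  simp only [cocOK, Bool.and_eq_true] at hok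
  exact ⟨Nat.eq_of_beq_eq_true hok.1.2, Nat.eq_of_beq_eq_true hok.2⟩

end CfsgLib.J4Pres
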