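import Cfsg.Agent.Lib.J4Pres.PzRels
import Cfsg.Agent.Lib.J4Pres.RepWords

/-!
The matrices of the letters x, y, z and t of the presented fourth Janko group.
-/

set_option autoImplicit false

namespace CfsgLib.J4Pres

open Cfsg CfsgLib.CosetEnum CfsgLib.Fi22Mult CfsgLib.J4Rep Cfsg.Spor

/-- the matrix of one of the five letters -/
def mat5 : ℕ → List ℕ
  | 0 => matX
  | 1 => matY
  | 2 => matYinv
  | 3 => matZ
  | 4 => matT
  | _ => oneB 112

theorem mat5_five : mat5 5 = oneB 112 := by simp only [mat5]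

/-- the matrix of a word in the five letters -/
noncomputable def mat5W (w : List ℕ) : List ℕ :=
  w.foldr (fun g M => mulB (mat5 g) M) (oneB 112)

theorem rho_gen6 (w : List ℕ) :
    (rho (prodW gen6 w) : U112).val = toMat 112 (wordMat w) := by
  rw [← (wordMat_spec w).2]
  refine congrArg Units.val ?_
  rw [show prodW gen6 w =
      PresentedGroup.mk (coxRelators J4.edges ∪ {r | r ∈ J4.extra}) (prodW free6 w) from
    (map_prodW _ _ _).symm]
  rfl

/-- z in the six letters -/
def zSix : List ℕ := thrice ([1] ++ trioCertT.revInv zdW ++ [3] ++ zdW)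

theorem zSix_eq : prodW gen6 zSix = zz := by
  have hw : okW zdW = true := by decide +kernel
  have hr : okW (trioCertT.revInv zdW) = true := by decide +kernel
  have hm : Model trioCertT (⊤ : Subgroup J4) jg :=
    jg_model rfl rfl (by decide +kernel) (fun _ _ => trivial)
  have conv : ∀ v : List ℕ, okW v = true → prodW gen6 v = prodW jg v := fun v hv =>
    prodW_congr fun g hg => (jg_gen6 g (okW_lt hv g hg)).symm
  rw [← cube_eq, pow_three']
  simp only [zSix, thrice, prodW_append, conv [1] rfl, conv _ hw, conv _ hr, hm.revInv_eq,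
    prodW_single, gen6_three, mul_assoc]

theorem matZ_ok : eqB (wordMat zSix) matZ = true ∧ matZ.length = 112 := by decide +kernel

theorem rho_j5 (g : ℕ) : (mat5 g).length = 112 ∧
    (rho (j5 g) : U112).val = toMat 112 (mat5 g) := by
  obtain ⟨h1, h2, h3, h4⟩ := mat_data.1
  match g with
  | 0 => exact ⟨h1, by simp [j5, jg_zero, rho_of, fGen, mat5, uX]⟩
  | 1 => exact ⟨h2, by simp [j5, jg_one, rho_of, fGen, mat5, uY]⟩
  | 2 => exact ⟨h3, by simp [j5, jg_two, rho_of, fGen, mat5, uY]⟩
  | 3 =>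
    refine ⟨matZ_ok.2, ?_⟩
    rw [j5_three, ← zSix_eq, rho_gen6, eqB_eq matZ_ok.1]
    simp only [mat5]
  | 4 => exact ⟨h4, by simp [j5, tt, rho_of, fGen, mat5, uT]⟩
  | n + 5 => exact ⟨oneB_length _, by simp [j5, mat5, toMat_oneB, show ¬ n + 5 < 3 by omega]⟩

theorem mat5W_spec : ∀ w : List ℕ, (mat5W w).length = 112 ∧
    (rho (prodW j5 w) : U112).val = toMat 112 (mat5W w)
  | [] => ⟨oneB_length _, by simp [mat5W, toMat_oneB]⟩
  | g :: w => by
    obtain ⟨h1, h2⟩ := mat5W_spec w
    obtain ⟨h3, h4⟩ := rho_j5 g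
    have e : mat5W (g :: w) = mulB (mat5 g) (mat5W w) := rfl
    refine ⟨by rw [e, mulB_length, h3], ?_⟩
    rw [prodW_cons, map_mul, Units.val_mul, h4, h2, e, toMat_mulB h3 h1]

/-- two matrices differ at a place -/
noncomputable def diffAt (A B : List ℕ) (i j : ℕ) : Bool :=
  Nat.blt i 112 && Nat.blt j 112 && (Nat.testBit (A.getD i 0) j != Nat.testBit (B.getD i 0) j)

theorem toMat_ne {A B : List ℕ} {i j : ℕ} (h : diffAt A B i j = true) :
    toMat 112 A ≠ toMat 112 B := by
  simp only [diffAt, Bool.and_eq_true, Nat.blt_eq, bne_iff_ne, ne_eq] at h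
  obtain ⟨⟨hi, hj⟩, hne⟩ := h
  intro e
  have := congrFun (congrFun e ⟨i, hi⟩) ⟨j, hj⟩
  refine hne ?_
  simp only [toMat, bitV] at this
  cases ha : (A.getD i 0).testBit j <;> cases hb : (B.getD i 0).testBit j <;>
    first | rfl | (rw [ha, hb] at this; simp at this)

end CfsgLib.J4Pres
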