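import Cfsg.Agent.Lib.J4Pres.ElevenData
import Cfsg.Agent.Lib.J4Pres.RepLetters
import Cfsg.Agent.Lib.Golay.MathieuFacts

/-!
The elementary abelian subgroup of order `2^11`: its conjugation in coordinates, irreducibility,
order, and its intersection with the Mathieu group.
-/

set_option autoImplicit false
set_option Elab.async false

namespace CfsgLib.J4Pres

open Cfsg CfsgLib.CosetEnum CfsgLib.TwistCoset CfsgLib.Fi22Mult CfsgLib.J4Rep Cfsg.Spor

theorem zz_ne_one : zz ≠ 1 := by
  intro e
  have h := (rho_j5 3).2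
  rw [j5_three, e, map_one, Units.val_one, ← toMat_oneB] at h
  have hd : ((List.range 112).any fun i =>
      diffAt (mat5 3) (oneB 112) i i || diffAt (mat5 3) (oneB 112) i ((i + 1) % 112)) = true := by
    decide +kernel
  simp only [List.any_eq_true, Bool.or_eq_true] at hd
  obtain ⟨i, -, h2 | h2⟩ := hd <;> exact toMat_ne h2 h.symm

theorem spanBasis_facts : spanBasis.length = 11 ∧ ∀ i : Fin 11, spanBasis.getD i.val 0 < trioCertZ.N := by
  refine ⟨by decide +kernel, ?_⟩
  decide +kernel

/-- the element with given coordinates -/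
noncomputable def elemOf (v : ℕ) : J4 := basisProd (fun i => v.testBit i) (List.finRange 11)

theorem zeta_mem_eleven (i : Fin 11) : zeta (spanBasis.getD i.val 0) ∈ eleven :=
  Subgroup.subset_closure ⟨_, spanBasis_facts.2 i, rfl⟩

theorem basisProd_mem (u : Fin 11 → Bool) : ∀ l : List (Fin 11), basisProd u l ∈ eleven
  | [] => one_mem _
  | a :: l => by
    have e : basisProd u (a :: l) =
        (bif u a then zeta (spanBasis.getD a.val 0) else 1) * basisProd u l := rfl
    rw [e]
    refine mul_mem ?_ (basisProd_mem u l)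
    cases u a
    · exact one_mem _
    · exact zeta_mem_eleven a

theorem basisProd_mul (u v : Fin 11 → Bool) : ∀ l : List (Fin 11),
    basisProd u l * basisProd v l = basisProd (fun i => xor (u i) (v i)) l
  | [] => mul_one _
  | a :: l => by
    have e : ∀ u : Fin 11 → Bool, basisProd u (a :: l) =
        (bif u a then zeta (spanBasis.getD a.val 0) else 1) * basisProd u l := fun u => rfl
    rw [e, e, e, ← basisProd_mul u v l]
    have hm : basisProd u l * (bif v a then zeta (spanBasis.getD a.val 0) else 1) =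
        (bif v a then zeta (spanBasis.getD a.val 0) else 1) * basisProd u l := by
      cases v a
      · simp
      · exact eleven_comm _ (basisProd_mem u l) _ (zeta_mem_eleven a)
    rw [mul_assoc, ← mul_assoc (basisProd u l), hm]
    cases u a <;> cases v a <;> simp [← mul_assoc, zeta_sq]

theorem elemOf_xor (u v : ℕ) : elemOf (u ^^^ v) = elemOf u * elemOf v := by
  rw [elemOf, elemOf, elemOf, basisProd_mul]
  congr 1
  funext i
  exact Nat.testBit_xor u v i

theorem elemOf_zero : elemOf 0 = 1 := by simp [elemOf, basisProd]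

theorem elemOf_mem (v : ℕ) : elemOf v ∈ eleven := basisProd_mem _ _

theorem elemOf_pow (i : Fin 11) : elemOf (2 ^ i.val) = zeta (spanBasis.getD i.val 0) := by
  have h := ((basisProd_flip spanBasis_facts.2 (fun _ => false) i (List.finRange 11)
    (List.nodup_finRange 11)).2 (List.mem_finRange i))
  have e : basisProd (fun _ => false) (List.finRange 11) = 1 := by simp [basisProd]
  rw [e, mul_one] at h
  rw [← h, elemOf]
  congr 1
  funext j
  by_cases hj : j = i
  · subst hj; simp [Nat.testBit_two_pow]
  · rw [Function.update_of_ne hj, Nat.testBit_two_pow, decide_eq_false_iff_not]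
    exact fun e => hj (Fin.ext e.symm)

/-- the coordinates of a conjugate of z -/
noncomputable def coordOf (i : ℕ) : ℕ := elevenCoord.getD i 0

theorem coordOf_eq (i : ℕ) : coordOf i = elevenCoord.getD i 0 := rfl

/-- the coordinates fit the spanning schedule -/
noncomputable def coordOK : Bool :=
  ((List.range 11).all fun m => Nat.beq (coordOf (spanBasis.getD m 0)) (2 ^ m)) &&
    spanSteps.all fun e => Nat.beq (coordOf e.2.2.1) (Nat.xor (coordOf e.1) (coordOf e.2.1))

theorem coord_span : ∀ {l : List (ℕ × ℕ × ℕ × ℕ)} {m m' : ℕ}, spanOK l m = some m' →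
    (∀ e ∈ l, Nat.beq (coordOf e.2.2.1) (Nat.xor (coordOf e.1) (coordOf e.2.1)) = true) →
    (∀ i, m.testBit i = true → zeta i = elemOf (coordOf i)) →
    ∀ i, m'.testBit i = true → zeta i = elemOf (coordOf i)
  | [], m, m', h, _, hm, i, hi => by
    rw [spanOK_nil, Option.some.injEq] at h
    exact hm i (h ▸ hi)
  | (a, b, c, p) :: l, m, m', h, hl, hm, i, hi => by
    simp only [spanOK] at h
    split at h
    case isFalse => simp at h
    rename_i hc
    simp only [Bool.and_eq_true, Bool.not_eq_true', ← Bool.not_eq_true, Nat.beq_eq] at hc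
    obtain ⟨⟨⟨⟨⟨ha, hb⟩, hp⟩, h1⟩, h2⟩, h3⟩ := hc
    rw [List.forall_mem_cons] at hl
    obtain ⟨e, -⟩ := triple_prod hp h1 h2 h3
    refine coord_span h hl.2 (fun k hk => ?_) i hi
    rw [Nat.testBit_or, Bool.or_eq_true, Nat.testBit_two_pow, decide_eq_true_eq] at hk
    rcases hk with hk | rfl
    · exact hm k hk
    · rw [e, hm a ha, hm b hb, ← elemOf_xor]
      exact congrArg elemOf (Nat.eq_of_beq_eq_true hl.1).symm

theorem coordOK_base : ((List.range 11).all fun m => Nat.beq (coordOf (spanBasis.getD m 0)) (2 ^ m)) = true := by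
  decide +kernel

theorem coordOK_0 : ((spanSteps.take 512).all (fun e => Nat.beq (coordOf e.2.2.1) (Nat.xor (coordOf e.1) (coordOf e.2.1)))) = true := by decide +kernel

theorem coordOK_1 : (((spanSteps.drop 512).take 512).all (fun e => Nat.beq (coordOf e.2.2.1) (Nat.xor (coordOf e.1) (coordOf e.2.1)))) = true := by decide +kernel

theorem coordOK_2 : (((spanSteps.drop 1024).take 512).all (fun e => Nat.beq (coordOf e.2.2.1) (Nat.xor (coordOf e.1) (coordOf e.2.1)))) = true := by decide +kernel

theorem coordOK_3 : ((spanSteps.drop 1536).all (fun e => Nat.beq (coordOf e.2.2.1) (Nat.xor (coordOf e.1) (coordOf e.2.1)))) = true := by decide +kernel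

theorem coordOK_ok : coordOK = true := by
  rw [coordOK, coordOK_base, ← List.take_append_drop 512 spanSteps, List.all_append, coordOK_0,
    ← List.take_append_drop 512 (spanSteps.drop 512), List.all_append, coordOK_1, List.drop_drop,
    ← List.take_append_drop 512 (spanSteps.drop 1024), List.all_append, coordOK_2, List.drop_drop, coordOK_3]
  rfl

theorem span_ok : spanOK spanSteps (spanBasis.foldl (fun m i => m ||| 2 ^ i) 0) =
    some (2 ^ trioCertZ.N - 1) := by decide +kernel

theorem coord_lt_0 : ((List.range trioCertZ.N).take 512).all (fun i => Nat.blt (coordOf i) (2 ^ 11)) = true := by decide +kernel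

theorem coord_lt_1 : (((List.range trioCertZ.N).drop 512).take 512).all (fun i => Nat.blt (coordOf i) (2 ^ 11)) = true := by decide +kernel

theorem coord_lt_2 : (((List.range trioCertZ.N).drop 1024).take 512).all (fun i => Nat.blt (coordOf i) (2 ^ 11)) = true := by decide +kernel

theorem coord_lt_3 : ((List.range trioCertZ.N).drop 1536).all (fun i => Nat.blt (coordOf i) (2 ^ 11)) = true := by decide +kernel

theorem coord_lt_ok : (List.range trioCertZ.N).all (fun i => Nat.blt (coordOf i) (2 ^ 11)) = true := by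
  rw [← List.take_append_drop 512 (List.range trioCertZ.N), List.all_append, coord_lt_0,
    ← List.take_append_drop 512 ((List.range trioCertZ.N).drop 512), List.all_append, coord_lt_1, List.drop_drop,
    ← List.take_append_drop 512 ((List.range trioCertZ.N).drop 1024), List.all_append, coord_lt_2, List.drop_drop, coord_lt_3]
  rfl

theorem zeta_coord {i : ℕ} (hi : i < trioCertZ.N) : zeta i = elemOf (coordOf i) := by
  have h := coordOK_ok
  have hs := span_ok
  rw [coordOK, Bool.and_eq_true, List.all_eq_true, List.all_eq_true] at h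
  refine coord_span hs h.2 (fun k hk => ?_) i
    (by rw [Nat.testBit_two_pow_sub_one, decide_eq_true_eq]; exact hi)
  refine foldl_mask (fun i => zeta i = elemOf (coordOf i)) spanBasis 0 (by simp) (fun j hj => ?_) k hk
  obtain ⟨m, hm, rfl⟩ := List.getElem_of_mem hj
  have hm11 : m < 11 := spanBasis_facts.1 ▸ hm
  have e := Nat.eq_of_beq_eq_true (h.1 m (List.mem_range.mpr hm11))
  rw [List.getD_eq_getElem _ _ hm] at e
  have e2 := elemOf_pow ⟨m, hm11⟩
  rw [List.getD_eq_getElem _ _ hm] at e2
  rw [e, e2]

/-- the coordinates of the conjugate under a letter -/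
noncomputable def imgBits (g v : ℕ) : List (Fin 11) → ℕ
  | [] => 0
  | i :: l => Nat.xor (bif v.testBit i.val then coordOf (trioCertZ.run (spanBasis.getD i.val 0) [g]) else 0)
      (imgBits g v l)

/-- the linear map of a letter -/
noncomputable def imgE (g v : ℕ) : ℕ := imgBits g v (List.finRange 11)

theorem elemOf_conj {g : ℕ} (hg : g < 3) (v : ℕ) :
    (jg g)⁻¹ * elemOf v * jg g = elemOf (imgE g v) := by
  have key : ∀ l : List (Fin 11), (jg g)⁻¹ * basisProd (fun i => v.testBit i) l * jg g =
      elemOf (imgBits g v l) := by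
    intro l
    induction l with
    | nil => simp [basisProd, imgBits, elemOf_zero]
    | cons a l ih =>
      have e : basisProd (fun i : Fin 11 => v.testBit i) (a :: l) =
          (bif v.testBit a.val then zeta (spanBasis.getD a.val 0) else 1) *
            basisProd (fun i => v.testBit i) l := rfl
      rw [e, imgBits, show ∀ p q : ℕ, Nat.xor p q = p ^^^ q from fun _ _ => rfl, elemOf_xor, ← ih]
      have hw : ∀ c ∈ [g], c < 3 := by simpa using hg
      obtain ⟨h1, h2⟩ := zeta_conj (spanBasis_facts.2 a) hw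
      rw [prodW_single] at h2
      cases v.testBit a.val
      · simp [elemOf_zero, mul_assoc]
      · simp only [cond_true]
        rw [← zeta_coord h1, ← h2]
        group
  exact key _

attribute [local irreducible] elemOf imgE coordOf

/-- the schedule: each vector has an earlier image, or sum with its image -/
noncomputable def goodFrom : List ℕ → ℕ → Option ℕ
  | [], m => some m
  | e :: l, m => strict m fun m => strict (e % 2 ^ 11) fun v => strict (e / 2 ^ 11 % 4) fun g =>
    if Nat.blt g 3 && Nat.testBit m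
        (bif Nat.beq (e / 2 ^ 13) 0 then imgE g v else Nat.xor v (imgE g v)) then
      goodFrom l (Nat.lor m (2 ^ v))
    else none

/-- closed under conjugation by x and y -/
def XYStable (K : Subgroup J4) : Prop := ∀ x ∈ K, ∀ g < 3, (jg g)⁻¹ * x * jg g ∈ K

theorem goodFrom_spec {K : Subgroup J4} (hK : XYStable K) : ∀ {l : List ℕ} {m m' : ℕ},
    goodFrom l m = some m' → (∀ v, m.testBit v = true → elemOf v ∈ K → zz ∈ K) →
    ∀ v, m'.testBit v = true → elemOf v ∈ K → zz ∈ K
  | [], m, m', h, hm, v, hv => by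
    simp only [goodFrom, Option.some.injEq] at h
    exact hm v (h ▸ hv)
  | e :: l, m, m', h, hm, v, hv => by
    rw [goodFrom, strict_eq, strict_eq, strict_eq, Option.ite_none_right_eq_some, Bool.and_eq_true,
      Nat.blt_eq] at h
    obtain ⟨⟨hg, hbit⟩, h⟩ := h
    refine goodFrom_spec hK h (fun u hu hmem => ?_) v hv
    rw [show ∀ a b : ℕ, Nat.lor a b = a ||| b from fun _ _ => rfl, Nat.testBit_or, Bool.or_eq_true,
      Nat.testBit_two_pow, decide_eq_true_eq] at hu
    rcases hu with hu | rfl
    · exact hm u hu hmem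
    · refine hm _ hbit ?_
      have hc := hK _ hmem _ hg
      rw [elemOf_conj hg] at hc
      cases Nat.beq (e / 2 ^ 13) 0
      · rw [cond_false, show ∀ p q : ℕ, Nat.xor p q = p ^^^ q from fun _ _ => rfl, elemOf_xor]
        exact mul_mem hmem hc
      · exact hc

theorem good_all : goodFrom elevenGood (2 ^ coordOf 0) = some ((2 ^ 2047 - 1) <<< 1) := by decide +kernel

theorem zz_mem_of_ne {K : Subgroup J4} (hK : XYStable K) {v : ℕ} (h0 : v ≠ 0) (hv : v < 2 ^ 11)
    (h : elemOf v ∈ K) : zz ∈ K := by
  refine goodFrom_spec hK good_all (fun u hu hmem => ?_) v ?_ h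
  · rw [Nat.testBit_two_pow, decide_eq_true_eq] at hu
    subst hu
    rwa [← zeta_coord trioCertZ_complete.N_pos, zeta_zero] at hmem
  · rw [Nat.testBit_shiftLeft, Nat.testBit_two_pow_sub_one]
    simp only [ge_iff_le, Bool.and_eq_true, decide_eq_true_eq]
    omega

theorem exists_elemOf {x : J4} (hx : x ∈ eleven) : ∃ v < 2 ^ 11, elemOf v = x := by
  induction hx using Subgroup.closure_induction with
  | mem y hy =>
    obtain ⟨i, hi, rfl⟩ := hy
    have h := coord_lt_ok
    exact ⟨coordOf i, Nat.blt_eq.mp (List.all_eq_true.mp h i (List.mem_range.mpr hi)), (zeta_coord hi).symm⟩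
  | one => exact ⟨0, by norm_num, elemOf_zero⟩
  | mul a b _ _ ha hb =>
    obtain ⟨u, hu, rfl⟩ := ha
    obtain ⟨v, hv, rfl⟩ := hb
    exact ⟨u ^^^ v, Nat.xor_lt_two_pow hu hv, elemOf_xor u v⟩
  | inv a _ ha =>
    obtain ⟨u, hu, rfl⟩ := ha
    refine ⟨u, hu, eq_inv_of_mul_eq_one_left ?_⟩
    rw [← elemOf_xor, Nat.xor_self, elemOf_zero]

/-- the elementary abelian subgroup is irreducible -/
theorem eleven_le {K : Subgroup J4} (hK : XYStable K) {x : J4} (hx : x ∈ K) (hxe : x ∈ eleven)
    (h1 : x ≠ 1) : eleven ≤ K := by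
  obtain ⟨v, hv, rfl⟩ := exists_elemOf hxe
  have h0 : v ≠ 0 := fun e => h1 (e ▸ elemOf_zero)
  have hz := zz_mem_of_ne hK h0 hv hx
  rw [eleven, Subgroup.closure_le]
  rintro _ ⟨i, hi, rfl⟩
  show zeta i ∈ K
  have conj : ∀ w : List ℕ, (∀ g ∈ w, g < 3) → ∀ y ∈ K, (prodW jg w)⁻¹ * y * prodW jg w ∈ K := by
    intro w hw
    induction w with
    | nil => intro y hy; simpa using hy
    | cons g w ih =>
      rw [List.forall_mem_cons] at hw
      intro y hy
      have := ih hw.2 _ (hK y hy g hw.1)
      simpa [mul_assoc] using this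
  obtain ⟨w, hw, e⟩ := jg_coset (coreRep_mem i)
  have := conj w hw zz hz
  rw [e] at this
  simpa [zeta, mul_assoc] using this

theorem elemOf_ne_one {v : ℕ} (h0 : v ≠ 0) (hv : v < 2 ^ 11) : elemOf v ≠ 1 := by
  intro e
  have := zz_mem_of_ne (K := ⊥) (fun x hx g _ => by
    rw [Subgroup.mem_bot] at hx ⊢
    simp [hx]) h0 hv (Subgroup.mem_bot.mpr e)
  exact zz_ne_one (Subgroup.mem_bot.mp this)

theorem eleven_card_eq : Nat.card eleven = 2 ^ 11 := by
  haveI := eleven_card.1
  refine le_antisymm eleven_card.2 ?_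
  let f : Fin (2 ^ 11) → eleven := fun v => ⟨elemOf v.val, elemOf_mem _⟩
  have hf : Function.Injective f := by
    intro u v huv
    by_contra hne
    have e : elemOf u.val = elemOf v.val := congrArg Subtype.val huv
    refine elemOf_ne_one (v := u.val ^^^ v.val) ?_ (Nat.xor_lt_two_pow u.2 v.2) ?_
    · exact fun h => hne (Fin.ext (Nat.xor_eq_zero_iff.mp h))
    · rw [elemOf_xor, e, ← elemOf_xor, Nat.xor_self, elemOf_zero]
  simpa using Nat.card_le_card_of_injective f hf

theorem toJ4_conj (g : M24P) {x : J4} (hx : x ∈ eleven) :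
    toJ4 g * x * (toJ4 g)⁻¹ ∈ eleven := by
  have hg : toJ4 g⁻¹ ∈ Subgroup.closure {y | ∃ g < 3, jg g = y} := by
    have h : toJ4.range ≤ Subgroup.closure {y | ∃ g < 3, jg g = y} := by
      rw [MonoidHom.range_eq_map, ← PresentedGroup.closure_range_of, MonoidHom.map_closure,
        Subgroup.closure_le]
      rintro _ ⟨_, ⟨i, rfl⟩, rfl⟩
      fin_cases i
      exacts [Subgroup.subset_closure ⟨0, by norm_num, rfl⟩, Subgroup.subset_closure ⟨1, by norm_num, rfl⟩]
    exact h ⟨g⁻¹, rfl⟩
  obtain ⟨w, hw, e⟩ := jg_coset hg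
  have := eleven_conj hw hx
  rwa [e, map_inv, inv_inv] at this

theorem eleven_inf_toJ4 {x : J4} (hx : x ∈ eleven) (hr : x ∈ toJ4.range) : x = 1 := by
  obtain ⟨g, rfl⟩ := hr
  obtain ⟨e⟩ := m24P_iso
  haveI := CfsgLib.Golay.isSimpleGroup_M24
  haveI : IsSimpleGroup M24P := e.isSimpleGroup
  let K : Subgroup M24P := eleven.comap toJ4
  have hn : K.Normal := ⟨fun a ha b => by
    show toJ4 (b * a * b⁻¹) ∈ eleven
    rw [map_mul, map_mul, map_inv]
    exact toJ4_conj b ha⟩
  have hm : g ∈ K := hx
  rcases hn.eq_bot_or_eq_top with h | h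
  · rw [h, Subgroup.mem_bot] at hm
    rw [hm, map_one]
  · exfalso
    have hy : jg 1 ∈ eleven := show m24Gen 1 ∈ K by rw [h]; trivial
    obtain ⟨v, -, hv⟩ := exists_elemOf hy
    have h2 : jg 1 * jg 1 = 1 := by rw [← hv, ← elemOf_xor, Nat.xor_self, elemOf_zero]
    have h3 := y_cube
    rw [h2, one_mul] at h3
    have h4 := (rho_j5 1).2
    rw [show j5 1 = jg 1 from if_pos (by norm_num), h3, map_one, Units.val_one, ← toMat_oneB] at h4
    have hd : ((List.range 112).any fun i =>
        diffAt (mat5 1) (oneB 112) i i || diffAt (mat5 1) (oneB 112) i ((i + 1) % 112)) = true := by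
      decide +kernel
    simp only [List.any_eq_true, Bool.or_eq_true] at hd
    obtain ⟨k, -, h5 | h5⟩ := hd <;> exact toMat_ne h5 h4.symm

end CfsgLib.J4Pres
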