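import Cfsg.Agent.Lib.J4Pres.SegCheck
import Mathlib.GroupTheory.PGroup

/-!
Primes dividing the order of the presented fourth Janko group.
-/

set_option autoImplicit false
set_option Elab.async false

namespace CfsgLib.J4Pres

open Cfsg CfsgLib.CosetEnum CfsgLib.Fi22Mult CfsgLib.J4Rep Cfsg.Spor

/-- a word whose matrix has the given order and is not one -/
noncomputable def ordMat (A : List ℕ) (p : ℕ) : Bool :=
  eqB (powMat A p) (oneB 112) &&
    (List.range 112).any fun i => diffAt A (oneB 112) i i || diffAt A (oneB 112) i ((i + 1) % 112)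

theorem ordMat_spec {A : List ℕ} {u : U112} {p : ℕ} (hl : A.length = 112)
    (hv : u.val = toMat 112 A) (h : ordMat A p = true) : u ^ p = 1 ∧ u ≠ 1 := by
  rw [ordMat] at h
  simp only [Bool.and_eq_true, List.any_eq_true, Bool.or_eq_true] at h
  obtain ⟨h1, i, -, h2⟩ := h
  refine ⟨Units.ext ?_, fun e => ?_⟩
  · rw [(powMat_spec hl hv p).2, eqB_eq h1, toMat_oneB, Units.val_one]
  · rw [e, Units.val_one, ← toMat_oneB] at hv
    rcases h2 with h2 | h2 <;> exact toMat_ne h2 hv.symm

/-- the matrix of a short word with the given order -/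
noncomputable def ordOK (w : List ℕ) (p : ℕ) : Bool := forceW (mat5W w) fun A => ordMat A p

theorem ordOK_spec {w : List ℕ} {p : ℕ} (h : ordOK w p = true) :
    (rho (prodW j5 w)) ^ p = 1 ∧ rho (prodW j5 w) ≠ 1 := by
  rw [ordOK, forceW_eq] at h
  exact ordMat_spec (mat5W_spec w).1 (mat5W_spec w).2 h

theorem ord29_ok : ordOK word29 29 = true := by decide +kernel

theorem ord31_ok : ordOK word31 31 = true := by decide +kernel

theorem ord37_ok : ordOK word37 37 = true := by decide +kernel

theorem ord43_ok : ordOK word43 43 = true := by decide +kernel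

theorem ordA_ok : ordMat matA11 11 = true := by decide +kernel

theorem ordB_ok : ordMat matB11 11 = true := by decide +kernel

/-- the commutator of the two elements of order eleven is central and not one -/
noncomputable def comCentral : Bool :=
  forceW matA11 fun A => forceW matB11 fun B =>
    forceW (mulB (mulB A B) (mulB (powMat A 10) (powMat B 10))) fun C =>
      ((List.range 112).any fun i => diffAt C (oneB 112) i i || diffAt C (oneB 112) i ((i + 1) % 112)) &&
        eqB (mulB C A) (mulB A C) && eqB (mulB C B) (mulB B C)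

theorem comCentral_ok : comCentral = true := by decide +kernel

theorem dvd_card_of_ord {w : List ℕ} {p : ℕ} [Fact p.Prime] (h : ordOK w p = true) :
    p ∣ Nat.card J4 := by
  obtain ⟨h1, h2⟩ := ordOK_spec h
  rw [← orderOf_eq_prime h1 h2]
  exact (orderOf_map_dvd rho _).trans (orderOf_dvd_natCard _)

theorem zpowers_isP {G : Type*} [Group G] {p : ℕ} {x : G} (hx : x ^ p = 1) :
    IsPGroup p (Subgroup.zpowers x) := by
  rintro ⟨g, k, rfl⟩
  refine ⟨1, Subtype.ext ?_⟩
  show (x ^ k) ^ p ^ 1 = 1
  rw [pow_one, ← zpow_natCast, ← zpow_mul, mul_comm, zpow_mul, zpow_natCast, hx, one_zpow]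

/-- two elements of order p with a central commutator other than one -/
theorem cube_dvd_of_pair {G : Type*} [Group G] [Finite G] {p : ℕ} [hp : Fact p.Prime] {u v : G}
    (hu : u ^ p = 1) (hv : v ^ p = 1) (hc : u * v * u⁻¹ * v⁻¹ ≠ 1)
    (hcu : Commute (u * v * u⁻¹ * v⁻¹) u) (hcv : Commute (u * v * u⁻¹ * v⁻¹) v) :
    p ^ 3 ∣ Nat.card G := by
  set c := u * v * u⁻¹ * v⁻¹ with hcdef
  have huv : u * v * u⁻¹ = c * v := by rw [hcdef]; group
  have hcp : c ^ p = 1 := by
    have h : (u * v * u⁻¹) ^ p = 1 := by rw [conj_pow, hv, mul_one, mul_inv_cancel]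
    rwa [huv, hcv.mul_pow, hv, mul_one] at h
  let N := Subgroup.zpowers c ⊔ Subgroup.zpowers v
  have hN : IsPGroup p N := by
    refine (zpowers_isP hcp).to_sup_of_normal_left' (zpowers_isP hv) ?_
    rw [Subgroup.zpowers_le, Subgroup.mem_normalizer_iff]
    intro h
    have key : ∀ k : ℤ, v * c ^ k * v⁻¹ = c ^ k := fun k => by
      rw [((hcv.symm).zpow_right k).eq, mul_inv_cancel_right]
    constructor
    · rintro ⟨k, rfl⟩
      exact ⟨k, (key k).symm⟩
    · rintro ⟨k, hk⟩
      refine ⟨k, ?_⟩
      have := key k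
      calc c ^ k = v⁻¹ * (v * c ^ k * v⁻¹) * v := by group
        _ = v⁻¹ * c ^ k * v := by rw [this]
        _ = h := by rw [show c ^ k = v * h * v⁻¹ from hk]; group
  have hcN : c ∈ N := le_sup_left (a := Subgroup.zpowers c) (Subgroup.mem_zpowers c)
  have hvN : v ∈ N := le_sup_right (b := Subgroup.zpowers v) (Subgroup.mem_zpowers v)
  have hS : IsPGroup p (N ⊔ Subgroup.zpowers u : Subgroup G) := by
    refine hN.to_sup_of_normal_left' (zpowers_isP hu) ?_
    rw [Subgroup.zpowers_le]
    have h1 : ∀ x ∈ N, u * x * u⁻¹ ∈ N := by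
      intro x hx
      have hle : N ≤ N.comap (MulAut.conj u).toMonoidHom := by
        refine sup_le (Subgroup.zpowers_le.2 ?_) (Subgroup.zpowers_le.2 ?_)
        · show u * c * u⁻¹ ∈ N
          rw [← hcu.eq, mul_inv_cancel_right]
          exact hcN
        · show u * v * u⁻¹ ∈ N
          rw [huv]
          exact mul_mem hcN hvN
      exact hle hx
    have hpow : ∀ n : ℕ, ∀ x ∈ N, u ^ n * x * (u ^ n)⁻¹ ∈ N := by
      intro n
      induction n with
      | zero => intro x hx; simpa using hx
      | succ n ih =>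
        intro x hx
        have := h1 _ (ih x hx)
        rw [pow_succ']
        simpa [mul_assoc] using this
    rw [Subgroup.mem_normalizer_iff]
    intro x
    refine ⟨h1 x, fun hx => ?_⟩
    have := hpow (p - 1) _ hx
    have e : u ^ (p - 1) = u⁻¹ := eq_inv_of_mul_eq_one_left (by
      rw [← pow_succ, Nat.sub_add_cancel hp.out.one_le, hu])
    rw [e] at this
    simpa [mul_assoc] using this
  set S : Subgroup G := N ⊔ Subgroup.zpowers u
  obtain ⟨n, hn⟩ := hS.exists_card_eq
  have huS : u ∈ S := le_sup_right (b := Subgroup.zpowers u) (Subgroup.mem_zpowers u)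
  have hvS : v ∈ S := le_sup_left (a := N) hvN
  have h3 : 3 ≤ n := by
    by_contra h
    have hcomm : ∀ a b : S, a * b = b * a := by
      rcases (by omega : n = 0 ∨ n = 1 ∨ n = 2) with rfl | rfl | rfl
      · haveI := (Nat.card_eq_one_iff_unique.1 (by rw [hn, pow_zero])).1
        intro a b; exact Subsingleton.elim _ _
      · haveI := isCyclic_of_prime_card (α := S) (by rw [hn, pow_one])
        exact isMulCommutative_iff.mp IsCyclic.commutative
      · haveI := IsPGroup.isMulCommutative_of_card_eq_prime_sq hn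
        exact isMulCommutative_iff.mp inferInstance
    refine hc ?_
    have e : u * v = v * u := congrArg Subtype.val (hcomm ⟨u, huS⟩ ⟨v, hvS⟩)
    rw [hcdef, e]; group
  calc p ^ 3 ∣ p ^ n := pow_dvd_pow p h3
    _ = Nat.card S := hn.symm
    _ ∣ Nat.card G := Subgroup.card_subgroup_dvd_card S

attribute [local irreducible] wordA11 wordB11 matA11 matB11 mat5W

theorem eleven_cube_dvd [Finite J4] : 11 ^ 3 ∣ Nat.card J4 := by
  haveI : Fact (Nat.Prime 11) := ⟨by norm_num⟩
  obtain ⟨hA, -⟩ := ordMat_spec matA11_spec.1 matA11_spec.2 ordA_ok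
  obtain ⟨hB, -⟩ := ordMat_spec matB11_spec.1 matB11_spec.2 ordB_ok
  haveI : Finite rho.range := Finite.of_surjective _ rho.rangeRestrict_surjective
  have hu : (rho.rangeRestrict (prodW j5 wordA11)) ^ 11 = 1 := by
    apply Subtype.ext
    rw [SubmonoidClass.coe_pow]
    exact hA
  have hv : (rho.rangeRestrict (prodW j5 wordB11)) ^ 11 = 1 := by
    apply Subtype.ext
    rw [SubmonoidClass.coe_pow]
    exact hB
  refine dvd_trans (cube_dvd_of_pair hu hv ?_ ?_ ?_)
    (Subgroup.card_range_dvd rho)
  all_goals have h := comCentral_ok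
  all_goals simp only [comCentral, forceW_eq, Bool.and_eq_true, List.any_eq_true, Bool.or_eq_true] at h
  all_goals obtain ⟨⟨⟨i, -, hne⟩, hCA⟩, hCB⟩ := h
  all_goals obtain ⟨lA, vA⟩ := matA11_spec
  all_goals obtain ⟨lB, vB⟩ := matB11_spec
  all_goals set a := rho (prodW j5 wordA11) with ha
  all_goals set b := rho (prodW j5 wordB11) with hb
  all_goals obtain ⟨lA', vA'⟩ := powMat_spec lA vA 10
  all_goals obtain ⟨lB', vB'⟩ := powMat_spec lB vB 10
  all_goals
    have ea : a⁻¹ = a ^ 10 := inv_eq_of_mul_eq_one_right (by rw [← pow_succ']; exact hA)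
  all_goals
    have eb : b⁻¹ = b ^ 10 := inv_eq_of_mul_eq_one_right (by rw [← pow_succ']; exact hB)
  all_goals
    have ec : (a * b * a⁻¹ * b⁻¹ : U112).val =
        toMat 112 (mulB (mulB matA11 matB11)
          (mulB (powMat matA11 10) (powMat matB11 10))) := by
      rw [ea, eb, mul_assoc (a * b), Units.val_mul, Units.val_mul, Units.val_mul, vA, vB, vA', vB',
        toMat_mulB (by rw [mulB_length, lA]) (by rw [mulB_length, lA']), toMat_mulB lA lB,
        toMat_mulB lA' lB']
  all_goals
    have lC : (mulB (mulB matA11 matB11)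
        (mulB (powMat matA11 10) (powMat matB11 10))).length = 112 := by
      rw [mulB_length, mulB_length, lA]
  · intro e
    have e' := congrArg Subtype.val e
    simp only [Subgroup.coe_mul, InvMemClass.coe_inv, MonoidHom.coe_rangeRestrict,
      OneMemClass.coe_one, ← ha, ← hb] at e'
    rw [e', Units.val_one, ← toMat_oneB] at ec
    rcases hne with h2 | h2 <;> exact toMat_ne h2 ec.symm
  · rw [Commute, SemiconjBy]
    apply Subtype.ext
    simp only [Subgroup.coe_mul, InvMemClass.coe_inv, MonoidHom.coe_rangeRestrict, ← ha, ← hb]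
    apply Units.ext
    rw [Units.val_mul, Units.val_mul a (a * b * a⁻¹ * b⁻¹), ec, vA, ← toMat_mulB lC lA,
      ← toMat_mulB lA lC, eqB_eq hCA]
  · rw [Commute, SemiconjBy]
    apply Subtype.ext
    simp only [Subgroup.coe_mul, InvMemClass.coe_inv, MonoidHom.coe_rangeRestrict, ← ha, ← hb]
    apply Units.ext
    rw [Units.val_mul, Units.val_mul b (a * b * a⁻¹ * b⁻¹), ec, vB, ← toMat_mulB lC lB,
      ← toMat_mulB lB lC, eqB_eq hCB]

end CfsgLib.J4Pres
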