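import Cfsg.Agent.Lib.J4Pres.PzIndex
import Cfsg.Agent.Lib.J4Pres.Irred
import Cfsg.Agent.Lib.J4Pres.Primes
import Cfsg.Agent.Lib.Golay.M24

/-!
The exact index of the subgroup of x, y, z and the order of the presented fourth Janko group.
-/

set_option autoImplicit false

namespace CfsgLib.J4Pres

open Cfsg CfsgLib.CosetEnum CfsgLib.TwistCoset Cfsg.Spor

theorem jg_mem_XYZ {g : ℕ} (hg : g < 3) : jg g ∈ subXYZ := by
  have h0 : jg 0 ∈ subXYZ := Subgroup.subset_closure (by simp)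
  have h1 : jg 1 ∈ subXYZ := Subgroup.subset_closure (by simp)
  interval_cases g
  · exact h0
  · exact h1
  · rw [jg_two, ← jg_one]
    exact inv_mem h1

theorem prodW_jg_mem {w : List ℕ} (hw : ∀ g ∈ w, g < 3) : prodW jg w ∈ subXYZ :=
  Subgroup.list_prod_mem _ fun x hx => by
    obtain ⟨g, hg, rfl⟩ := List.mem_map.mp hx
    exact jg_mem_XYZ (hw g hg)

theorem eleven_le_XYZ : eleven ≤ subXYZ := by
  rw [eleven, Subgroup.closure_le]
  rintro _ ⟨i, hi, rfl⟩
  obtain ⟨w, hw, e⟩ := jg_coset (coreRep_mem i)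
  have h := mul_mem (mul_mem (inv_mem (prodW_jg_mem hw))
    (show zz ∈ subXYZ from Subgroup.subset_closure (by simp))) (prodW_jg_mem hw)
  rw [e] at h
  exact h

theorem toJ4_le_XYZ : toJ4.range ≤ subXYZ := by
  rw [MonoidHom.range_eq_map, ← PresentedGroup.closure_range_of, MonoidHom.map_closure,
    Subgroup.closure_le]
  rintro _ ⟨_, ⟨i, rfl⟩, rfl⟩
  fin_cases i
  exacts [jg_mem_XYZ (g := 0) (by norm_num), jg_mem_XYZ (g := 1) (by norm_num)]

theorem card_M24P : Nat.card M24P = 244823040 := by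
  obtain ⟨e⟩ := m24P_iso
  rw [Nat.card_congr e.toEquiv, CfsgLib.Golay.natCard_M24]

theorem XYZ_data : Finite subXYZ ∧ Nat.card subXYZ = 501397585920 ∧
    ∀ x ∈ subXYZ, ∃ e ∈ eleven, ∃ g : M24P, x = e * toJ4 g := by
  haveI := finite_PZ
  haveI := eleven_card.1
  haveI := m24P_card_le.1
  haveI : Finite toH.range := Finite.of_surjective _ toH.rangeRestrict_surjective
  haveI hfin : Finite subXYZ := by rw [toH_range]; infer_instance
  let f : eleven × M24P → subXYZ := fun p =>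
    ⟨p.1.1 * toJ4 p.2, mul_mem (eleven_le_XYZ p.1.2) (toJ4_le_XYZ ⟨p.2, rfl⟩)⟩
  have hf : Function.Injective f := by
    rintro ⟨a, g⟩ ⟨b, h⟩ e
    have e' : a.1 * toJ4 g = b.1 * toJ4 h := congrArg Subtype.val e
    have e2 : b.1⁻¹ * a.1 = toJ4 (h * g⁻¹) := by
      rw [map_mul, map_inv, eq_mul_inv_iff_mul_eq, mul_assoc, e', inv_mul_cancel_left]
    have h1 := eleven_inf_toJ4 (mul_mem (inv_mem b.2) a.2) ⟨_, e2.symm⟩
    have hab : a.1 = b.1 := (inv_mul_eq_one.mp h1).symm
    rw [h1] at e2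
    have hg : h * g⁻¹ = 1 := toJ4_injective (by rw [← e2, map_one])
    exact Prod.ext (Subtype.ext hab) (mul_inv_eq_one.mp hg).symm
  have hge := Nat.card_le_card_of_injective f hf
  rw [Nat.card_prod, eleven_card_eq, card_M24P] at hge
  have hle : Nat.card subXYZ ≤ 501397585920 := by
    rw [toH_range, ← card_PZ]
    exact Nat.card_le_card_of_surjective _ toH.rangeRestrict_surjective
  have hc : Nat.card subXYZ = 501397585920 := le_antisymm hle (le_trans (by norm_num) hge)
  refine ⟨hfin, hc, fun x hx => ?_⟩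
  have hbij : Function.Bijective f := (Nat.bijective_iff_injective_and_card f).mpr
    ⟨hf, by rw [Nat.card_prod, eleven_card_eq, card_M24P, hc]; norm_num⟩
  obtain ⟨⟨a, g⟩, e⟩ := hbij.2 ⟨x, hx⟩
  exact ⟨a.1, a.2, g, (congrArg Subtype.val e).symm⟩

theorem index_eq : subXYZ.index = 173067389 := by
  haveI := finite_J4
  haveI : Fact (Nat.Prime 29) := ⟨by norm_num⟩
  haveI : Fact (Nat.Prime 31) := ⟨by norm_num⟩
  haveI : Fact (Nat.Prime 37) := ⟨by norm_num⟩
  haveI : Fact (Nat.Prime 43) := ⟨by norm_num⟩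
  have hmul := Subgroup.card_mul_index subXYZ
  rw [XYZ_data.2.1] at hmul
  have key : ∀ p, p ∣ Nat.card J4 → Nat.Coprime p 501397585920 → p ∣ subXYZ.index :=
    fun p h hc => hc.dvd_of_dvd_mul_left (hmul ▸ h)
  have h29 := key 29 (dvd_card_of_ord ord29_ok) (by norm_num)
  have h31 := key 31 (dvd_card_of_ord ord31_ok) (by norm_num)
  have h37 := key 37 (dvd_card_of_ord ord37_ok) (by norm_num)
  have h43 := key 43 (dvd_card_of_ord ord43_ok) (by norm_num)
  have h121 : 121 ∣ subXYZ.index := by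
    have h := hmul ▸ eleven_cube_dvd
    rw [show 501397585920 = 11 * 45581598720 by norm_num, show (11 : ℕ) ^ 3 = 11 * 121 by norm_num,
      mul_assoc] at h
    exact (show Nat.Coprime 121 45581598720 by norm_num).dvd_of_dvd_mul_left
      (Nat.dvd_of_mul_dvd_mul_left (by norm_num) h)
  have hd : 173067389 ∣ subXYZ.index := by
    rw [show 173067389 = 121 * 29 * 31 * 37 * 43 by norm_num]
    refine Nat.Coprime.mul_dvd_of_dvd_of_dvd (by norm_num) (Nat.Coprime.mul_dvd_of_dvd_of_dvd (by norm_num)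
      (Nat.Coprime.mul_dvd_of_dvd_of_dvd (by norm_num) (Nat.Coprime.mul_dvd_of_dvd_of_dvd (by norm_num)
        h121 h29) h31) h37) h43
  have hne : subXYZ.index ≠ 0 := Subgroup.index_ne_zero_of_finite
  exact le_antisymm finite_index_le.2 (Nat.le_of_dvd (Nat.pos_of_ne_zero hne) hd)

theorem card_J4 : Nat.card J4 = 86775571046077562880 := by
  rw [← subXYZ.card_mul_index, XYZ_data.2.1, index_eq]

theorem toH_injective : Function.Injective toH := by
  haveI := finite_PZ
  have h : Nat.card PZ = Nat.card toH.range := by rw [← toH_range, XYZ_data.2.1, card_PZ]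
  intro a b e
  exact ((Nat.bijective_iff_surjective_and_card toH.rangeRestrict).mpr
    ⟨toH.rangeRestrict_surjective, h⟩).1 (Subtype.ext e)

theorem word_subgroup_eq :
    (Subgroup.closure ({J4.x, J4.y, (J4.y * ((J4.y * J4.x) ^ 4 * J4.y⁻¹ * J4.x)⁻¹ * J4.t *
      ((J4.y * J4.x) ^ 4 * J4.y⁻¹ * J4.x)) ^ 3} : Set (FreeGroup J4.Gen))).map
      (PresentedGroup.mk (coxRelators J4.edges ∪ {r | r ∈ J4.extra})) = subXYZ := by
  rw [MonoidHom.map_closure, subXYZ]
  congr 1
  simp only [Set.image_insert_eq, Set.image_singleton]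
  have hw : prodW jg zdW = PresentedGroup.mk (coxRelators J4.edges ∪ {r | r ∈ J4.extra})
      ((J4.y * J4.x) ^ 4 * J4.y⁻¹ * J4.x) := by
    simp only [zdW, prodW_cons, prodW_nil, mul_one, jg_zero, jg_one, jg_two, map_mul, map_pow, map_inv,
      pow_succ, pow_zero, one_mul, mul_assoc]
    rfl
  have hz := cube_eq
  rw [hw, jg_one] at hz
  have e : PresentedGroup.mk (coxRelators J4.edges ∪ {r | r ∈ J4.extra})
      ((J4.y * ((J4.y * J4.x) ^ 4 * J4.y⁻¹ * J4.x)⁻¹ * J4.t *
        ((J4.y * J4.x) ^ 4 * J4.y⁻¹ * J4.x)) ^ 3) = zz := by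
    rw [← hz, map_pow, map_mul, map_mul, map_mul, map_inv]
    simp only [mul_assoc]
    rfl
  rw [e, jg_zero, jg_one]
  rfl

end CfsgLib.J4Pres
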