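import Cfsg.Agent.Lib.J4Pres.MultTwo
import Cfsg.Agent.Lib.J4Pres.Lower

/-!
Coordinates in the subgroup of x, y and z: an element of the elementary abelian subgroup times an
element of the Mathieu group, and the linear action of words.
-/

set_option autoImplicit false

namespace CfsgLib.J4Pres

open Cfsg CfsgLib.CosetEnum CfsgLib.Schur Cfsg.Spor

/-- the linear map of a word -/
def opW (w : List ℕ) (v : ℕ) : ℕ := w.foldl (fun a g => elevenSplit.op g a) v

theorem op_lt (g a : ℕ) : elevenSplit.op g a < 2 ^ 11 := by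
  have hA : (elevenSplit.A.all fun l => l.all fun v => Nat.blt v (2 ^ 11)) = true := by decide +kernel
  simp only [List.all_eq_true, Nat.blt_eq] at hA
  refine ModuleSplit.lin_lt _ (fun i => ?_) _ _
  rcases lt_or_ge g elevenSplit.A.length with hg | hg
  · rw [List.getD_eq_getElem _ _ hg]
    rcases lt_or_ge i elevenSplit.A[g].length with hi | hi
    · rw [List.getD_eq_getElem _ _ hi]; exact hA _ (List.getElem_mem hg) _ (List.getElem_mem hi)
    · rw [List.getD_eq_default _ _ hi]; exact Nat.two_pow_pos _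
  · rw [List.getD_eq_default _ _ hg]; simp

theorem opW_lt : ∀ (w : List ℕ) {v : ℕ}, v < 2 ^ 11 → opW w v < 2 ^ 11
  | [], _, h => h
  | g :: w, _, _ => opW_lt w (op_lt g _)

theorem opW_xor : ∀ (w : List ℕ) (a b : ℕ), opW w (a ^^^ b) = opW w a ^^^ opW w b
  | [], _, _ => rfl
  | g :: w, a, b => by
    show opW w (elevenSplit.op g (a ^^^ b)) = _
    rw [elevenSplit.op_xor, opW_xor w]
    rfl

theorem elemOf_word : ∀ {w : List ℕ}, (∀ g ∈ w, g < 3) → ∀ {v : ℕ}, v < 2 ^ 11 →
    (prodW jg w)⁻¹ * elemOf v * prodW jg w = elemOf (opW w v)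
  | [], _, v, _ => by simp [opW]
  | g :: w, hw, v, hv => by
    rw [List.forall_mem_cons] at hw
    have h := elemOf_word hw.2 (op_lt g v)
    rw [← jg_op hw.1 hv] at h
    show _ = elemOf (opW w (elevenSplit.op g v))
    rw [← h, prodW_cons]
    group

theorem elemOf_inj {u v : ℕ} (hu : u < 2 ^ 11) (hv : v < 2 ^ 11) (h : elemOf u = elemOf v) : u = v := by
  by_contra hne
  refine elemOf_ne_one (v := u ^^^ v) (fun e => hne (Nat.xor_eq_zero_iff.mp e))
    (Nat.xor_lt_two_pow hu hv) ?_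
  rw [elemOf_xor, h, ← elemOf_xor, Nat.xor_self, elemOf_zero]

theorem split_unique {e e' : J4} (he : e ∈ eleven) (he' : e' ∈ eleven) {m m' : M24P}
    (h : e * toJ4 m = e' * toJ4 m') : e = e' ∧ m = m' := by
  have h1 : e'⁻¹ * e = toJ4 (m' * m⁻¹) := by
    rw [map_mul, map_inv, eq_mul_inv_iff_mul_eq, mul_assoc, h, inv_mul_cancel_left]
  have h2 := eleven_inf_toJ4 (mul_mem (inv_mem he') he) ⟨_, h1.symm⟩
  have h3 : e = e' := (inv_mul_eq_one.mp h2).symm
  exact ⟨h3, toJ4_injective (mul_left_cancel (h3 ▸ h))⟩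

theorem toJ4_conj' (g : M24P) {x : J4} (hx : x ∈ eleven) : (toJ4 g)⁻¹ * x * toJ4 g ∈ eleven := by
  simpa using toJ4_conj g⁻¹ hx

end CfsgLib.J4Pres
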