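import Cfsg.Agent.Lib.J4Pres.ElemTable

/-!
No large elementary abelian subgroup of the Sylow subgroup fixes enough vectors.
-/

set_option autoImplicit false

namespace CfsgLib.J4Pres

open Cfsg CfsgLib.CosetEnum CfsgLib.Schur CfsgLib.Golay CfsgLib.TwistCoset

theorem topOne_part0 : (List.range' 0 20).all topOne = true := by decide +kernel

theorem topOne_part1 : (List.range' 20 30).all topOne = true := by decide +kernel

theorem topOne_part2 : (List.range' 50 40).all topOne = true := by decide +kernel

theorem topOne_part3 : (List.range' 90 101).all topOne = true := by decide +kernel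

theorem topOne_ok {a : ℕ} (ha : a < 191) : topOne a = true := by
  have h : ∀ (s n : ℕ), (List.range' s n).all topOne = true → s ≤ a → a < s + n → topOne a = true :=
    fun s n h h1 h2 => List.all_eq_true.1 h a (List.mem_range'_1.2 ⟨h1, h2⟩)
  by_cases h0 : a < 20
  · exact h _ _ topOne_part0 (by omega) (by omega)
  by_cases h1 : a < 50
  · exact h _ _ topOne_part1 (by omega) (by omega)
  by_cases h2 : a < 90
  · exact h _ _ topOne_part2 (by omega) (by omega)
  exact h _ _ topOne_part3 (by omega) (by omega)

end CfsgLib.J4Pres
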