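import Cfsg.Agent.Lib.J4Pres.ElemTable

/-!
The steps of the table.
-/

set_option autoImplicit false

namespace CfsgLib.J4Pres

open Cfsg CfsgLib.CosetEnum CfsgLib.Schur CfsgLib.Golay CfsgLib.TwistCoset

theorem stepOK_ok : stepOK = true := by decide +kernel

end CfsgLib.J4Pres
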