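import Cfsg.Agent.Lib.J4Pres.Coord
import Cfsg.Agent.Lib.J4Pres.SylowData

/-!
Checks of the table of a Sylow 2-subgroup of the Mathieu group.
-/

set_option autoImplicit false

namespace CfsgLib.J4Pres

open Cfsg CfsgLib.CosetEnum CfsgLib.Schur CfsgLib.Golay CfsgLib.TwistCoset

/-- two-step lookup -/
noncomputable def get2 (L : List (List ℕ)) (i : ℕ) : ℕ := (L.getD (i / 32) []).getD (i % 32) 0

/-- a permutation of the table -/
noncomputable def sPerm (i : ℕ) : ℕ := get2 sylPerm i

/-- a matrix of the table as rows -/
noncomputable def sRows (i : ℕ) : List ℕ :=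
  (List.range 11).map fun b => get2 sylMat i / 2 ^ (11 * b) % 2 ^ 11

/-- a step of the table -/
noncomputable def sNext (i k : ℕ) : ℕ := get2 sylStep i / 2 ^ (10 * k) % 2 ^ 10

/-- a position as an index of the table -/
noncomputable def sInv (a : ℕ) : ℕ := get2 sylInv a

/-- all values of a linear map in order -/
def spanL (A : List ℕ) : ℕ → List ℕ
  | 0 => [0]
  | n + 1 => spanL A n ++ (spanL A n).map fun x => x ^^^ A.getD n 0

/-- all pairs from a list have different entries -/
noncomputable def distinctL : List ℕ → Bool
  | [] => true
  | x :: l => (l.all fun y => !Nat.beq x y) && distinctL l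

/-- the checks of the generators and of the steps -/
noncomputable def stepOK : Bool :=
  Nat.beq (sPerm 0) idPk &&
    ((List.range 11).all fun b => Nat.beq ((sRows 0).getD b 0) (2 ^ b)) &&
    ((List.range 5).all fun k =>
      (sylWords.getD k []).all (fun g => Nat.blt g 3) &&
        Nat.beq (sPerm (sNext 0 k)) (imgW (sylWords.getD k [])) &&
        ((List.range 11).all fun b => Nat.beq ((sRows (sNext 0 k)).getD b 0) (opW (sylWords.getD k []) (2 ^ b)))) &&
    ((List.range 1024).all fun i => (List.range 5).all fun k =>
      strict (sNext i k) fun t =>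
        Nat.beq (sPerm t) (mulP (sPerm i) (sPerm (sNext 0 k))) &&
          ((List.range 11).all fun b =>
            Nat.beq ((sRows t).getD b 0) (ModuleSplit.lin 11 (sRows (sNext 0 k)) ((sRows i).getD b 0))))

/-- the elements of the table are different and all reached -/
noncomputable def countOK : Bool :=
  ((List.range 1023).all fun i =>
    strict (get2 sylPar (i + 1)) fun e => Nat.blt (e / 8) (i + 1) && Nat.blt (e % 8) 5 &&
      Nat.beq (sNext (e / 8) (e % 8)) (i + 1)) &&
    ((List.range 1024).all fun i => Nat.blt (sPerm i) (2 ^ 120)) && distinctL sylPerm.flatten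

theorem countOK_ok : countOK = true := by decide +kernel

/-- every element of order two is among the involutions -/
noncomputable def invListOK : Bool :=
  (List.range 1024).all fun i => Nat.beq i 0 || strict (sPerm i) fun P => strict (mulP P P) fun R =>
    (!Nat.beq R idPk && Nat.blt R (2 ^ 120)) || sylInv.flatten.any (Nat.beq i)

theorem invListOK_ok : invListOK = true := by decide +kernel

/-- the list of involutions agrees with the table -/
noncomputable def invPermOK : Bool :=
  Nat.beq sylInv.flatten.length 191 && Nat.beq sylInvPerm.flatten.length 191 &&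
    ((List.range 191).all fun a => Nat.beq (sylInvPerm.flatten.getD a 0) (sPerm (sInv a)) &&
      Nat.beq (sylInv.flatten.getD a 0) (sInv a))

theorem invPermOK_ok : invPermOK = true := by decide +kernel

/-- commuting involutions are marked -/
noncomputable def sComOK : Bool :=
  ((List.range 191).zip sylInvPerm.flatten).all fun p => strict (get2 sylCom p.1) fun c =>
    ((List.range 191).zip sylInvPerm.flatten).all fun q => c.testBit q.1 ||
      (List.range 24).any fun j => !Nat.beq (ap p.2 (ap q.2 j)) (ap q.2 (ap p.2 j))

theorem sComOK_ok : sComOK = true := by decide +kernel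

/-- the dimension of the fixed vectors -/
noncomputable def sDim (a : ℕ) : ℕ := get2 sylFixBasis a / 2 ^ 130

/-- eleven rows from a packed number -/
noncomputable def rowsOf (M : ℕ) : List ℕ := (List.range 11).map fun b => M / 2 ^ (11 * b) % 2 ^ 11

/-- the fixed vectors -/
noncomputable def fixList (a : ℕ) : List ℕ := spanL (rowsOf (get2 sylFixBasis a)) (sDim a)

/-- fixed vectors are in the lists and marked -/
noncomputable def sFixOK : Bool :=
  (List.range 191).all fun a =>
    strict (get2 sylFix a) (fun f => (fixList a).all fun v => Nat.blt v 2048 && f.testBit v) &&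
      let A := sRows (sInv a)
      let C := rowsOf (get2 sylFixC a)
      let K := rowsOf (get2 sylFixK a)
      let B := rowsOf (get2 sylFixBasis a)
      (List.range 11).all fun b => Nat.blt (K.getD b 0) (2 ^ sDim a) &&
        Nat.beq (ModuleSplit.lin 11 C (A.getD b 0 ^^^ 2 ^ b) ^^^ ModuleSplit.lin (sDim a) B (K.getD b 0)) (2 ^ b)

theorem sFixOK_ok : sFixOK = true := by decide +kernel

/-- the largest power of two up to a bound -/
def fl (n : ℕ) : ℕ := (List.range 12).foldl (fun r e => if 2 ^ e ≤ n then 2 ^ e else r) 0

theorem le_fl {e n : ℕ} (h : 2 ^ e ≤ n) (he : e < 12) : 2 ^ e ≤ fl n := by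
  have key : ∀ l : List ℕ, l.Pairwise (· < ·) → ∀ r, (e ∈ l ∨ 2 ^ e ≤ r ∧ ∀ x ∈ l, e < x) →
      2 ^ e ≤ l.foldl (fun r e => if 2 ^ e ≤ n then 2 ^ e else r) r := by
    intro l
    induction l with
    | nil => intro _ r hr; exact (hr.resolve_left List.not_mem_nil).1
    | cons x l ih =>
      intro hp r hr
      rw [List.pairwise_cons] at hp
      rw [List.foldl_cons]
      refine ih hp.2 _ ?_
      rcases hr with hm | ⟨hr, hall⟩
      · rcases List.mem_cons.1 hm with rfl | hm
        · exact Or.inr ⟨by rw [if_pos h], hp.1⟩
        · exact Or.inl hm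
      · refine Or.inr ⟨?_, fun y hy => hall y (List.mem_cons_of_mem _ hy)⟩
        split
        · exact Nat.pow_le_pow_right (by norm_num) (hall x List.mem_cons_self).le
        · exact hr
  exact key _ List.pairwise_lt_range 0 (Or.inl (List.mem_range.2 he))

/-- no set of commuting involutions from the candidates fixes enough -/
noncomputable def noBig : ℕ → ℕ → List ℕ → List ℕ → Bool
  | 0, _, _, _ => false
  | n + 1, k, cand, F =>
    Nat.blt (fl (1 + k + cand.length) * F.length) 2048 ||
      match cand with
      | [] => false
      | j :: rest =>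
        strict (get2 sylCom j) (fun c => strict (get2 sylFix j) fun f =>
          noBig n (k + 1) (rest.filter fun q => c.testBit q) (F.filter fun v => f.testBit v)) &&
          noBig n k rest F

/-- the search from one first involution -/
noncomputable def topOne (a : ℕ) : Bool :=
  strict (get2 sylCom a) fun c =>
    noBig 200 1 ((List.range 191).filter fun q => Nat.blt a q && c.testBit q) (fixList a)

end CfsgLib.J4Pres
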