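import Cfsg.Agent.Lib.J4Pres.ElemStep
import Cfsg.Agent.Lib.J4Pres.ElemSearch
import Mathlib.GroupTheory.Sylow

/-!
The subgroup of x, y, z has only one elementary abelian subgroup of order 2^11.
-/

set_option autoImplicit false
set_option linter.style.haveILetI false

namespace CfsgLib.J4Pres

open Cfsg CfsgLib.CosetEnum CfsgLib.Schur CfsgLib.Golay CfsgLib.TwistCoset Cfsg.Spor

theorem noBig_spec : ∀ (n k : ℕ) (cand F : List ℕ), noBig n k cand F = true →
    ∀ (T C : Finset ℕ), (∀ a ∈ T, a ∈ cand) → (∀ a ∈ T, ∀ b ∈ T, a ≠ b → (get2 sylCom a).testBit b) →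
      (∀ v ∈ C, v ∈ F) → (∀ a ∈ T, ∀ v ∈ C, (get2 sylFix a).testBit v) →
      ∀ e, e < 12 → k + T.card + 1 = 2 ^ e → (k + T.card + 1) * C.card < 2048 := by
  intro n
  induction n with
  | zero => intro k cand F h; simp [noBig] at h
  | succ n ih =>
    intro k cand F h T C hT hTT hC hTC e he hpow
    unfold noBig at h
    rw [Bool.or_eq_true, Nat.blt_eq] at h
    rcases h with h | h
    · have h1 : T.card ≤ cand.length :=
        (Finset.card_le_card fun a ha => List.mem_toFinset.2 (hT a ha)).trans (List.toFinset_card_le _)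
      have h2 : C.card ≤ F.length :=
        (Finset.card_le_card fun a ha => List.mem_toFinset.2 (hC a ha)).trans (List.toFinset_card_le _)
      have h3 : k + T.card + 1 ≤ fl (1 + k + cand.length) := by
        rw [hpow]; exact le_fl (by omega) he
      exact (Nat.mul_le_mul h3 h2).trans_lt h
    · cases cand with
      | nil => simp at h
      | cons j rest =>
        simp only [Bool.and_eq_true, strict_eq] at h
        by_cases hj : j ∈ T
        · have hc : (T.erase j).card + 1 = T.card := Finset.card_erase_add_one hj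
          have := ih (k + 1) _ _ h.1 (T.erase j) C ?_ ?_ ?_ ?_ e he (by omega)
          · rwa [show k + 1 + (T.erase j).card + 1 = k + T.card + 1 by omega] at this
          · intro a ha
            rw [Finset.mem_erase] at ha
            exact List.mem_filter.2 ⟨(List.mem_cons.1 (hT a ha.2)).resolve_left ha.1,
              hTT j hj a ha.2 ha.1.symm⟩
          · exact fun a ha b hb => hTT a (Finset.mem_of_mem_erase ha) b (Finset.mem_of_mem_erase hb)
          · exact fun v hv => List.mem_filter.2 ⟨hC v hv, hTC j hj v hv⟩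
          · exact fun a ha => hTC a (Finset.mem_of_mem_erase ha)
        · exact ih k rest F h.2 T C
            (fun a ha => (List.mem_cons.1 (hT a ha)).resolve_left fun e => hj (e ▸ ha)) hTT hC hTC e he hpow

theorem topOne_spec (T C : Finset ℕ) (hne : T.Nonempty) (hT : ∀ a ∈ T, a < 191)
    (hTT : ∀ a ∈ T, ∀ b ∈ T, a ≠ b → (get2 sylCom a).testBit b)
    (hC : ∀ a ∈ T, ∀ v ∈ C, v ∈ fixList a) (hTC : ∀ a ∈ T, ∀ v ∈ C, (get2 sylFix a).testBit v)
    (e : ℕ) (he : e < 12) (hpow : T.card + 1 = 2 ^ e) : (T.card + 1) * C.card < 2048 := by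
  set j := T.min' hne
  have hj : j ∈ T := T.min'_mem hne
  have h := topOne_ok (hT j hj)
  rw [topOne, strict_eq] at h
  have hc : (T.erase j).card + 1 = T.card := Finset.card_erase_add_one hj
  have := noBig_spec 200 1 _ _ h (T.erase j) C ?_ ?_ ?_ ?_ e he (by omega)
  · rwa [show 1 + (T.erase j).card + 1 = T.card + 1 by omega] at this
  · intro a ha
    rw [Finset.mem_erase] at ha
    have hlt : j < a := lt_of_le_of_ne (T.min'_le a ha.2) ha.1.symm
    exact List.mem_filter.2 ⟨List.mem_range.2 (hT a ha.2),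
      Bool.and_eq_true_iff.2 ⟨Nat.blt_eq.mpr hlt, hTT j hj a ha.2 ha.1.symm⟩⟩
  · exact fun a ha b hb => hTT a (Finset.mem_of_mem_erase ha) b (Finset.mem_of_mem_erase hb)
  · exact fun v hv => hC j hj v hv
  · exact fun a ha => hTC a (Finset.mem_of_mem_erase ha)

attribute [local irreducible] sylPerm sylMat sylStep sylInv sylInvPerm sylFix sylCom sylPar elemOf opW imgW

/-- an element of the table -/
def Tab (i : ℕ) (s : M24P) : Prop :=
  i < 1024 ∧ validP (sPerm i) = true ∧ m24Hom s = toPerm (sPerm i) ∧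
    ∀ v < 2 ^ 11, (toJ4 s)⁻¹ * elemOf v * toJ4 s = elemOf (ModuleSplit.lin 11 (sRows i) v)

/-- the generators of the Sylow subgroup -/
noncomputable def sylGen (k : ℕ) : M24P := prodW m24Gen (sylWords.getD k [])

/-- the Sylow subgroup -/
noncomputable def sylTwo : Subgroup M24P := Subgroup.closure {s | ∃ k < 5, sylGen k = s}

theorem lin_unit (A : List ℕ) : ∀ n i, i < n → ModuleSplit.lin n A (2 ^ i) = A.getD i 0 := by
  intro n
  induction n with
  | zero => intro i h; omega
  | succ n ih =>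
    intro i h
    rw [ModuleSplit.lin, Nat.testBit_two_pow]
    rcases lt_trichotomy i n with h' | h' | h'
    · simp [ih i h', Nat.ne_of_lt h']
    · subst h'
      have hz : ∀ m ≤ i, ModuleSplit.lin m A (2 ^ i) = 0 := by
        intro m hm
        induction m with
        | zero => rfl
        | succ m ihm =>
          rw [ModuleSplit.lin, ihm (by omega), Nat.testBit_two_pow]
          simp [show i ≠ m by omega]
      simp [hz i le_rfl]
    · omega

theorem rows_lt (i : ℕ) (b : ℕ) : (sRows i).getD b 0 < 2 ^ 11 := by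
  rcases lt_or_ge b (sRows i).length with h | h
  · rw [List.getD_eq_getElem _ _ h]
    simp only [sRows, List.getElem_map]
    exact Nat.mod_lt _ (Nat.two_pow_pos _)
  · rw [List.getD_eq_default _ _ h]; exact Nat.two_pow_pos _

theorem next_lt (i k : ℕ) : sNext i k < 1024 := Nat.mod_lt _ (by norm_num)

theorem tab_one : Tab 0 1 := by
  have h := stepOK_ok
  simp only [stepOK, Bool.and_eq_true, List.all_eq_true, List.mem_range] at h
  have hP := Nat.eq_of_beq_eq_true h.1.1.1
  refine ⟨by norm_num, hP ▸ validP_idPk, by rw [map_one, hP, toPerm_idPk], fun v hv => ?_⟩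
  refine xor_maps_eq (fun v => (toJ4 1)⁻¹ * elemOf v * toJ4 1)
    (fun v => elemOf (ModuleSplit.lin 11 (sRows 0) v))
    (fun a b => by rw [elemOf_xor]; group) (fun a b => by rw [ModuleSplit.lin_xor, elemOf_xor]) 11
    (fun b hb => ?_) v hv
  rw [lin_unit _ 11 b hb, Nat.eq_of_beq_eq_true (h.1.1.2 b hb)]
  simp

theorem tab_gen {k : ℕ} (hk : k < 5) : Tab (sNext 0 k) (sylGen k) := by
  have h := stepOK_ok
  simp only [stepOK, Bool.and_eq_true, List.all_eq_true, List.mem_range, Nat.blt_eq] at h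
  obtain ⟨⟨hw, hP⟩, hM⟩ := h.1.2 k hk
  have hP' := Nat.eq_of_beq_eq_true hP
  obtain ⟨hv, hp⟩ := imgW_spec hw
  refine ⟨next_lt _ _, hP' ▸ hv, ?_, fun v hv => ?_⟩
  · rw [hP', sylGen, m24Hom_word (List.all_eq_true.2 fun g hg => Nat.blt_eq.mpr (hw g hg))]
  · rw [sylGen, ← jg_word]
    refine xor_maps_eq (fun v => (prodW jg (sylWords.getD k []))⁻¹ * elemOf v * prodW jg (sylWords.getD k []))
      (fun v => elemOf (ModuleSplit.lin 11 (sRows (sNext 0 k)) v))
      (fun a b => by rw [elemOf_xor]; group) (fun a b => by rw [ModuleSplit.lin_xor, elemOf_xor]) 11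
      (fun b hb => ?_) v hv
    rw [lin_unit _ 11 b hb, Nat.eq_of_beq_eq_true (hM b hb),
      elemOf_word hw (Nat.pow_lt_pow_right (by norm_num) hb)]

theorem tab_mul {i k : ℕ} {s : M24P} (hs : Tab i s) (hk : k < 5) :
    Tab (sNext i k) (s * sylGen k) := by
  have h := stepOK_ok
  simp only [stepOK, Bool.and_eq_true, List.all_eq_true, List.mem_range, strict_eq] at h
  obtain ⟨hP, hM⟩ := h.2 i hs.1 k hk
  have hP' := Nat.eq_of_beq_eq_true hP
  obtain ⟨-, g1, g2, g3⟩ := tab_gen hk
  obtain ⟨-, s1, s2, s3⟩ := hs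
  refine ⟨next_lt _ _, hP' ▸ validP_mulP s1 g1, by rw [map_mul, hP', toPerm_mulP s1 g1, s2, g2],
    fun v hv => ?_⟩
  refine xor_maps_eq (fun v => (toJ4 (s * sylGen k))⁻¹ * elemOf v * toJ4 (s * sylGen k))
    (fun v => elemOf (ModuleSplit.lin 11 (sRows (sNext i k)) v))
    (fun a b => by rw [elemOf_xor]; group) (fun a b => by rw [ModuleSplit.lin_xor, elemOf_xor]) 11
    (fun b hb => ?_) v hv
  show _ = elemOf (ModuleSplit.lin 11 (sRows (sNext i k)) (2 ^ b))
  rw [lin_unit _ 11 b hb, Nat.eq_of_beq_eq_true (hM b hb), ← g3 _ (rows_lt i b),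
    ← lin_unit (sRows i) 11 b hb, ← s3 _ (Nat.pow_lt_pow_right (by norm_num) hb), map_mul]
  group

theorem tab_of_mem {s : M24P} (hs : s ∈ sylTwo) : ∃ i, Tab i s := by
  haveI : Finite M24P := m24P_card_le.1
  rw [sylTwo, ← Subgroup.mem_toSubmonoid, Subgroup.closure_toSubmonoid_of_finite] at hs
  induction hs using Submonoid.closure_induction_right with
  | one => exact ⟨0, tab_one⟩
  | mul_right a _ g hg ih =>
    obtain ⟨i, hi⟩ := ih
    obtain ⟨k, hk, rfl⟩ := hg
    exact ⟨_, tab_mul hi hk⟩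

theorem tab_inj {i : ℕ} {s t : M24P} (hs : Tab i s) (ht : Tab i t) : s = t :=
  m24Hom_injective (hs.2.2.1.trans ht.2.2.1.symm)

theorem reach : ∀ i < 1024, ∃ s ∈ sylTwo, Tab i s := by
  intro i
  induction i using Nat.strong_induction_on with
  | _ i ih =>
    intro hi
    rcases i with _ | i
    · exact ⟨1, one_mem _, tab_one⟩
    have h := countOK_ok
    simp only [countOK, Bool.and_eq_true, List.all_eq_true, List.mem_range, strict_eq, Nat.blt_eq] at h
    obtain ⟨⟨h1, h2⟩, h3⟩ := h.1.1 i (by omega)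
    obtain ⟨s, hs, hT⟩ := ih _ h1 (by omega)
    refine ⟨s * sylGen (get2 sylPar (i + 1) % 8), mul_mem hs (Subgroup.subset_closure ⟨_, h2, rfl⟩), ?_⟩
    have := tab_mul hT h2
    rwa [Nat.eq_of_beq_eq_true h3] at this

theorem packed_eq {P Q : ℕ} (hP : P < 2 ^ 120) (hQ : Q < 2 ^ 120) (vP : validP P = true)
    (vQ : validP Q = true) (h : toPerm P = toPerm Q) : P = Q := by
  refine Nat.eq_of_testBit_eq fun i => ?_
  rcases lt_or_ge i 120 with hi | hi
  · have hb : ∀ R, (ap R (i / 5)).testBit (i % 5) = R.testBit i := fun R => by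
      rw [ap, show (32 : ℕ) = 2 ^ 5 from rfl, Nat.testBit_mod_two_pow, Nat.testBit_shiftRight,
        show 5 * (i / 5) + i % 5 = i by omega]
      simp [show i % 5 < 5 by omega]
    have ht : i / 5 < 24 := by omega
    have e := idx_toPerm vP (pt (i / 5))
    rw [h, idx_toPerm vQ, idx_pt _ ht] at e
    rw [← hb P, ← hb Q, e]
  · rw [Nat.testBit_eq_false_of_lt (hP.trans_le (Nat.pow_le_pow_right (by norm_num) hi)),
      Nat.testBit_eq_false_of_lt (hQ.trans_le (Nat.pow_le_pow_right (by norm_num) hi))]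

theorem distinctL_spec : ∀ {l : List ℕ}, distinctL l = true → l.Nodup
  | [], _ => List.nodup_nil
  | x :: l, h => by
    simp only [distinctL, Bool.and_eq_true, List.all_eq_true] at h
    refine List.nodup_cons.2 ⟨fun hx => ?_, distinctL_spec h.2⟩
    have := h.1 x hx
    simp at this

theorem get2_flatten : ∀ (L : List (List ℕ)) (i : ℕ), (∀ l ∈ L, l.length = 32) →
    i < L.flatten.length → L.flatten.getD i 0 = get2 L i
  | [], i, _, h => by simp at h
  | l :: L, i, hl, h => by
    rw [List.forall_mem_cons] at hl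
    rcases lt_or_ge i 32 with hi | hi
    · rw [List.flatten_cons, List.getD_append _ _ _ _ (hl.1 ▸ hi), get2, Nat.div_eq_of_lt hi,
        Nat.mod_eq_of_lt hi, List.getD_cons_zero]
    · rw [List.flatten_cons, List.getD_append_right _ _ _ _ (hl.1 ▸ hi), hl.1]
      rw [List.flatten_cons, List.length_append, hl.1] at h
      rw [get2_flatten L (i - 32) hl.2 (by omega), get2, get2,
        show i / 32 = (i - 32) / 32 + 1 by omega, List.getD_cons_succ, show i % 32 = (i - 32) % 32 by omega]

theorem perm_flatten : ∃ h : sylPerm.flatten.length = 1024,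
    ∀ i (hi : i < 1024), sylPerm.flatten[i]'(h ▸ hi) = sPerm i := by
  have h1 : ((sylPerm.all fun l => Nat.beq l.length 32) && Nat.beq sylPerm.flatten.length 1024) = true := by
    decide +kernel
  simp only [Bool.and_eq_true, List.all_eq_true] at h1
  refine ⟨Nat.eq_of_beq_eq_true h1.2, fun i hi => ?_⟩
  rw [← List.getD_eq_getElem _ 0, get2_flatten sylPerm i (fun l hl => Nat.eq_of_beq_eq_true (h1.1 l hl))
    (by rw [Nat.eq_of_beq_eq_true h1.2]; exact hi), sPerm]

theorem card_sylTwo : Nat.card sylTwo = 2 ^ 10 := by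
  haveI : Finite M24P := m24P_card_le.1
  choose s hs hT using reach
  let f : Fin 1024 → sylTwo := fun i => ⟨s i.val i.2, hs i.val i.2⟩
  have hinj : Function.Injective f := by
    intro a b e
    have e' : s a.val a.2 = s b.val b.2 := congrArg Subtype.val e
    have h := countOK_ok
    simp only [countOK, Bool.and_eq_true, List.all_eq_true, List.mem_range, strict_eq] at h
    have hd := distinctL_spec h.2
    have key : sPerm a.val = sPerm b.val := by
      obtain ⟨-, va, pa, -⟩ := hT a.val a.2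
      obtain ⟨-, vb, pb, -⟩ := hT b.val b.2
      rw [e', pb] at pa
      exact (packed_eq (Nat.blt_eq.mp (h.1.2 a.val a.2)) (Nat.blt_eq.mp (h.1.2 b.val b.2)) va vb pa.symm)
    obtain ⟨hlen, hget⟩ := perm_flatten
    rw [← hget a.val a.2, ← hget b.val b.2] at key
    exact Fin.ext ((List.Nodup.getElem_inj_iff hd).1 key)
  have hsurj : Function.Surjective f := by
    rintro ⟨x, hx⟩
    obtain ⟨i, hi⟩ := tab_of_mem hx
    exact ⟨⟨i, hi.1⟩, Subtype.ext (tab_inj (hT i hi.1) hi)⟩
  rw [← Nat.card_eq_of_bijective f ⟨hinj, hsurj⟩, Nat.card_fin]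
  norm_num

theorem spanL_spec (A : List ℕ) : ∀ n, (spanL A n).length = 2 ^ n ∧
    ∀ x < 2 ^ n, (spanL A n).getD x 0 = ModuleSplit.lin n A x
  | 0 => ⟨rfl, fun x hx => by obtain rfl : x = 0 := by simpa using hx
                              rfl⟩
  | n + 1 => by
    obtain ⟨hl, hg⟩ := spanL_spec A n
    refine ⟨by rw [spanL, List.length_append, List.length_map, hl, pow_succ]; ring, fun x hx => ?_⟩
    rw [pow_succ] at hx
    rcases lt_or_ge x (2 ^ n) with h | h
    · rw [spanL, List.getD_append _ _ _ _ (hl.symm ▸ h), hg x h, ModuleSplit.lin,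
        Nat.testBit_eq_false_of_lt h]
      simp
    · obtain ⟨y, rfl⟩ : ∃ y, x = 2 ^ n + y := ⟨x - 2 ^ n, by omega⟩
      have hy : y < 2 ^ n := by omega
      have hlow : ModuleSplit.lin n A (2 ^ n + y) = ModuleSplit.lin n A y := by
        have key : ∀ m ≤ n, ModuleSplit.lin m A (2 ^ n + y) = ModuleSplit.lin m A y := by
          intro m hm
          induction m with
          | zero => rfl
          | succ m ih =>
            rw [ModuleSplit.lin, ModuleSplit.lin, ih (by omega), Nat.testBit_two_pow_add_gt (by omega)]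
        exact key n le_rfl
      rw [spanL, List.getD_append_right _ _ _ _ (hl.symm ▸ (Nat.le_add_right _ _)), hl,
        show 2 ^ n + y - 2 ^ n = y by omega, List.getD_eq_getElem _ _ (by rw [List.length_map, hl]; exact hy),
        List.getElem_map, ← List.getD_eq_getElem _ 0 (hl.symm ▸ hy), hg y hy, ModuleSplit.lin,
        Nat.testBit_two_pow_add_eq, Nat.testBit_eq_false_of_lt hy, hlow]
      simp

/-- two additive maps on masks agreeing on the unit vectors -/
theorem xor_fun_eq (p q : ℕ → ℕ) (hp : ∀ a b, p (a ^^^ b) = p a ^^^ p b)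
    (hq : ∀ a b, q (a ^^^ b) = q a ^^^ q b) : ∀ n, (∀ i < n, p (2 ^ i) = q (2 ^ i)) →
      ∀ a < 2 ^ n, p a = q a
  | 0, _, a, ha => by
    obtain rfl : a = 0 := by simpa using ha
    have h1 := hp 0 0
    have h2 := hq 0 0
    rw [Nat.xor_self, Nat.xor_self] at h1 h2
    rw [h1, h2]
  | n + 1, h, a, ha => by
    have ih := xor_fun_eq p q hp hq n (fun i hi => h i (hi.trans n.lt_succ_self))
    have ea : a = a % 2 ^ n ^^^ (if a.testBit n then 2 ^ n else 0) := by
      refine Nat.eq_of_testBit_eq fun i => ?_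
      rw [Nat.testBit_xor, Nat.testBit_mod_two_pow]
      rcases lt_trichotomy i n with hi | hi | hi
      · split <;> simp [hi, Nat.testBit_two_pow, Nat.ne_of_gt hi]
      · subst hi; cases h : a.testBit i <;> simp
      · have : a.testBit i = false :=
          Nat.testBit_eq_false_of_lt (ha.trans_le (Nat.pow_le_pow_right (by norm_num) hi))
        split <;> simp [this, Nat.not_lt_of_gt hi, Nat.testBit_two_pow, Nat.ne_of_lt hi]
    rw [ea, hp, hq, ih _ (Nat.mod_lt _ (Nat.two_pow_pos n))]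
    congr 1
    split
    · exact h n n.lt_succ_self
    · exact ih 0 (Nat.two_pow_pos n)

theorem rows_lin_lt (i v : ℕ) : ModuleSplit.lin 11 (sRows i) v < 2 ^ 11 :=
  ModuleSplit.lin_lt _ (rows_lt i) _ _

/-- a fixed vector is in the list -/
theorem fix_mem {a v : ℕ} (ha : a < 191) (hv : v < 2 ^ 11)
    (h : ModuleSplit.lin 11 (sRows (sInv a)) v = v) :
    v ∈ fixList a ∧ (get2 sylFix a).testBit v = true := by
  have hok := sFixOK_ok
  simp only [sFixOK, Bool.and_eq_true, List.all_eq_true, List.mem_range, strict_eq, Nat.blt_eq] at hok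
  obtain ⟨hbit, hcert⟩ := hok a ha
  set A := sRows (sInv a)
  set C := rowsOf (get2 sylFixC a)
  set K := rowsOf (get2 sylFixK a)
  set B := rowsOf (get2 sylFixBasis a)
  have e := xor_fun_eq
    (fun x => ModuleSplit.lin 11 C (ModuleSplit.lin 11 A x ^^^ x) ^^^
      ModuleSplit.lin (sDim a) B (ModuleSplit.lin 11 K x)) id
    (fun x y => by
      simp only [ModuleSplit.lin_xor]
      simp [Nat.xor_assoc, Nat.xor_comm, Nat.xor_left_comm])
    (fun x y => rfl) 11 (fun b hb => by
      show _ = 2 ^ b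
      rw [lin_unit _ 11 b hb, lin_unit _ 11 b hb]
      exact Nat.eq_of_beq_eq_true (hcert b hb).2) v hv
  simp only [h, Nat.xor_self, id] at e
  have hz : ModuleSplit.lin 11 C 0 = 0 := by
    have := ModuleSplit.lin_xor C 11 0 0
    rw [Nat.xor_self] at this
    rw [this, Nat.xor_self]
  rw [hz, Nat.zero_xor] at e
  have hk : ModuleSplit.lin 11 K v < 2 ^ sDim a := by
    refine ModuleSplit.lin_lt _ (fun b => ?_) _ _
    rcases lt_or_ge b 11 with hb | hb
    · exact (hcert b hb).1
    · rw [List.getD_eq_default _ _ (by show (rowsOf _).length ≤ b; rw [rowsOf, List.length_map, List.length_range]; exact hb)]; exact Nat.two_pow_pos _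
  obtain ⟨hl, hg⟩ := spanL_spec B (sDim a)
  have hmem : v ∈ fixList a := by
    show v ∈ spanL B (sDim a)
    rw [← e, ← hg _ hk, List.getD_eq_getElem _ _ (hl.symm ▸ hk)]
    exact List.getElem_mem _
  exact ⟨hmem, (hbit v hmem).2⟩

theorem list_flatten_get {L : List (List ℕ)} {n : ℕ} (hl : Nat.beq L.flatten.length n = true) {a : ℕ}
    (ha : a < n) : L.flatten.getD a 0 ∈ L.flatten := by
  rw [List.getD_eq_getElem _ _ (by rw [Nat.eq_of_beq_eq_true hl]; exact ha)]
  exact List.getElem_mem _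

/-- the position of an involution of the Sylow subgroup -/
theorem exists_pos {s : M24P} (hs : s ∈ sylTwo) (h1 : s ≠ 1) (h2 : s * s = 1) :
    ∃ a < 191, Tab (sInv a) s := by
  obtain ⟨i, hi⟩ := tab_of_mem hs
  have h0 : i ≠ 0 := by rintro rfl; exact h1 (tab_inj hi tab_one)
  have hok := invListOK_ok
  simp only [invListOK, List.all_eq_true, List.mem_range, Bool.or_eq_true, strict_eq, Bool.and_eq_true,
    Bool.not_eq_true', Nat.blt_eq, List.any_eq_true] at hok
  obtain ⟨-, hv, hp, -⟩ := id hi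
  have hR : toPerm (mulP (sPerm i) (sPerm i)) = toPerm idPk := by
    rw [toPerm_mulP hv hv, ← hp, ← map_mul, h2, map_one, toPerm_idPk]
  rcases hok i hi.1 with h | ⟨h, hlt⟩ | ⟨x, hx, hxi⟩
  · exact absurd (Nat.eq_of_beq_eq_true h) h0
  · rw [packed_eq hlt (by decide +kernel) (validP_mulP hv hv) validP_idPk hR] at h
    simp at h
  · obtain rfl := Nat.eq_of_beq_eq_true hxi
    have hp' := invPermOK_ok
    simp only [invPermOK, Bool.and_eq_true, List.all_eq_true, List.mem_range] at hp'
    obtain ⟨a, ha, e⟩ := List.getElem_of_mem hx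
    have ha' : a < 191 := by rwa [Nat.eq_of_beq_eq_true hp'.1.1] at ha
    refine ⟨a, ha', ?_⟩
    rw [← Nat.eq_of_beq_eq_true (hp'.2 a ha').2, List.getD_eq_getElem _ _ ha, e]
    exact hi

theorem com_bit {a b : ℕ} {s t : M24P} (ha : a < 191) (hb : b < 191) (hs : Tab (sInv a) s)
    (ht : Tab (sInv b) t) (h : s * t = t * s) : (get2 sylCom a).testBit b = true := by
  have hp := invPermOK_ok
  simp only [invPermOK, Bool.and_eq_true, List.all_eq_true, List.mem_range] at hp
  have hlen := Nat.eq_of_beq_eq_true hp.1.2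
  have hmem : ∀ c, c < 191 → (c, sPerm (sInv c)) ∈ (List.range 191).zip sylInvPerm.flatten := by
    intro c hc
    rw [List.mem_iff_getElem]
    refine ⟨c, by simp [hlen, hc], ?_⟩
    rw [List.getElem_zip, List.getElem_range, ← List.getD_eq_getElem _ 0,
      Nat.eq_of_beq_eq_true (hp.2 c hc).1]
  have hok := sComOK_ok
  simp only [sComOK, List.all_eq_true, strict_eq, Bool.or_eq_true, List.any_eq_true, List.mem_range,
    Bool.not_eq_true'] at hok
  rcases hok _ (hmem a ha) _ (hmem b hb) with h' | ⟨j, hj, h'⟩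
  · exact h'
  · exfalso
    obtain ⟨-, va, pa, -⟩ := hs
    obtain ⟨-, vb, pb, -⟩ := ht
    have e : idx ((m24Hom s * m24Hom t) (pt j)) = idx ((m24Hom t * m24Hom s) (pt j)) := by
      rw [← map_mul, ← map_mul, h]
    rw [pa, pb, Equiv.Perm.mul_apply, Equiv.Perm.mul_apply, idx_toPerm va, idx_toPerm vb,
      idx_toPerm vb, idx_toPerm va, idx_pt j hj] at e
    rw [e] at h'
    simp at h'

theorem range_le_XYZ : toJ4.range ≤ subXYZ := toJ4_le_XYZ

/-- the projection to the Mathieu group -/
noncomputable def proj (x : subXYZ) : M24P := (XYZ_data.2.2 x.1 x.2).choose_spec.2.choose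

theorem proj_eq (x : subXYZ) : ∃ e ∈ eleven, x.1 = e * toJ4 (proj x) :=
  ⟨_, (XYZ_data.2.2 x.1 x.2).choose_spec.1, (XYZ_data.2.2 x.1 x.2).choose_spec.2.choose_spec⟩

/-- the projection as a homomorphism -/
noncomputable def projHom : subXYZ →* M24P :=
  MonoidHom.mk' proj fun x y => by
    obtain ⟨e, he, hx⟩ := proj_eq x
    obtain ⟨f, hf, hy⟩ := proj_eq y
    obtain ⟨g, hg, hxy⟩ := proj_eq (x * y)
    refine (split_unique hg (mul_mem he (toJ4_conj (proj x) hf)) ?_).2
    rw [← hxy, Subgroup.coe_mul, hx, hy, map_mul]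
    group

theorem elem_aux {A : Subgroup J4} (hA : A ≤ subXYZ) (hexp : ∀ a ∈ A, a * a = 1)
    (hcard : Nat.card A = 2 ^ 11) (hsyl : ((A.subgroupOf subXYZ).map projHom) ≤ sylTwo) :
    A = eleven := by
  classical
  haveI := finite_J4
  haveI : Finite M24P := m24P_card_le.1
  set A' := A.subgroupOf subXYZ with hA'
  set Ab := A'.map projHom with hAb
  have hcA : Nat.card A' = 2 ^ 11 := by
    rw [hA', Nat.card_congr (Subgroup.subgroupOfEquivOfLe hA).toEquiv, hcard]
  let r : A' →* Ab := projHom.subgroupMap A'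
  have hr : Function.Surjective r := MonoidHom.subgroupMap_surjective _ _
  have hprod : Nat.card Ab * Nat.card r.ker = 2 ^ 11 := by
    rw [← hcA, Subgroup.card_eq_card_quotient_mul_card_subgroup r.ker,
      Nat.card_congr (QuotientGroup.quotientKerEquivOfSurjective r hr).toEquiv]
  have hsq : ∀ s ∈ Ab, s * s = 1 := by
    rintro _ ⟨x, hx, rfl⟩
    rw [← map_mul, show x * x = 1 from Subtype.ext (hexp x.1 hx), map_one]
  have hcomm : ∀ s ∈ Ab, ∀ t ∈ Ab, s * t = t * s := by
    intro s hs t ht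
    have e := hsq _ (mul_mem hs ht)
    calc s * t = s * (s * t * (s * t)) * t := by rw [e, mul_one]
      _ = (s * s) * (t * s) * (t * t) := by group
      _ = t * s := by rw [hsq s hs, hsq t ht, one_mul, mul_one]
  -- the vectors in the kernel
  set C : Finset ℕ := (Finset.range (2 ^ 11)).filter (fun v => elemOf v ∈ A) with hC
  have hker : Nat.card r.ker ≤ C.card := by
    have key : ∀ x : r.ker, ∃ v ∈ C, elemOf v = x.1.1.1 := by
      intro x
      obtain ⟨e, he, hx⟩ := proj_eq x.1.1
      have h1 : proj x.1.1 = 1 := congrArg Subtype.val (MonoidHom.mem_ker.1 x.2)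
      rw [h1, map_one, mul_one] at hx
      obtain ⟨v, hv, rfl⟩ := exists_elemOf he
      exact ⟨v, Finset.mem_filter.2 ⟨Finset.mem_range.2 hv, hx ▸ x.1.2⟩, hx.symm⟩
    choose v hv hve using key
    let f : r.ker → C := fun x => ⟨v x, hv x⟩
    have hf : Function.Injective f := fun x y e => by
      have : x.1.1.1 = y.1.1.1 := by rw [← hve x, ← hve y, show v x = v y from congrArg Subtype.val e]
      exact Subtype.ext (Subtype.ext (Subtype.ext this))
    simpa using Nat.card_le_card_of_injective f hf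
  by_cases hbot : Ab = ⊥
  · refine Subgroup.eq_of_le_of_card_ge (fun a ha => ?_) ?_
    · obtain ⟨e, he, hx⟩ := proj_eq ⟨a, hA ha⟩
      have : projHom ⟨a, hA ha⟩ ∈ Ab := ⟨_, ha, rfl⟩
      rw [hbot, Subgroup.mem_bot] at this
      rw [show proj ⟨a, hA ha⟩ = 1 from this, map_one, mul_one] at hx
      exact (show a = e from hx) ▸ he
    · rw [eleven_card_eq, hcard]
  exfalso
  -- the positions of the involutions
  set S : Finset M24P := (Set.toFinite (Ab : Set M24P)).toFinset.erase 1 with hS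
  have hSm : ∀ s, s ∈ S ↔ s ≠ 1 ∧ s ∈ Ab := fun s => by simp [hS]
  choose! p hp hpT using fun s (hs : s ∈ S) =>
    exists_pos (hsyl ((hSm s).1 hs).2) ((hSm s).1 hs).1 (hsq s ((hSm s).1 hs).2)
  set T := S.image p with hTdef
  have hinj : Set.InjOn p S := fun s hs t ht e => tab_inj (hpT s hs) (e ▸ hpT t ht)
  have hTcard : T.card + 1 = Nat.card Ab := by
    rw [hTdef, Finset.card_image_of_injOn hinj, hS, Finset.card_erase_add_one (by simp),
      ← Set.ncard_eq_toFinset_card _ (Set.toFinite (Ab : Set M24P)), ← Nat.card_coe_set_eq]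
    rfl
  have hfix : ∀ a ∈ T, ∀ v ∈ C, v ∈ fixList a ∧ (get2 sylFix a).testBit v = true := by
    intro a ha v hv
    obtain ⟨s, hs, rfl⟩ := Finset.mem_image.1 ha
    obtain ⟨hv1, hv2⟩ := Finset.mem_filter.1 hv
    have hv' := Finset.mem_range.1 hv1
    refine fix_mem (hp s hs) hv' (elemOf_inj (rows_lin_lt _ _) hv' ?_)
    obtain ⟨x, hx, hxs⟩ := ((hSm s).1 hs).2
    obtain ⟨e, he, hxe⟩ := proj_eq x
    rw [← (hpT s hs).2.2.2 v hv', ← show proj x = s from hxs]
    have hab : ∀ u ∈ A, ∀ w ∈ A, u * w = w * u := fun u hu w hw => by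
      have e := hexp _ (mul_mem hu hw)
      calc u * w = u * (u * w * (u * w)) * w := by rw [e, mul_one]
        _ = (u * u) * (w * u) * (w * w) := by group
        _ = w * u := by rw [hexp u hu, hexp w hw, one_mul, mul_one]
    have h1 : x.1 * elemOf v = elemOf v * x.1 := hab _ hx _ hv2
    rw [hxe] at h1
    have h2 : e * elemOf v = elemOf v * e := eleven_comm e he _ (elemOf_mem v)
    have h3 : toJ4 (proj x) * elemOf v = elemOf v * toJ4 (proj x) := by
      refine mul_left_cancel (a := e) ?_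
      rw [← mul_assoc, h1, ← mul_assoc e, h2, mul_assoc]
    rw [mul_assoc, ← h3, inv_mul_cancel_left]
  obtain ⟨n, hn, hcn⟩ : ∃ n ≤ 11, Nat.card Ab = 2 ^ n :=
    (Nat.dvd_prime_pow Nat.prime_two).1 ⟨_, hprod.symm⟩
  have hne : T.Nonempty := by
    rw [← Finset.card_pos]
    have : Nat.card Ab ≠ 1 := fun h => hbot (Subgroup.eq_bot_of_card_eq _ h)
    have := Nat.card_pos (α := Ab)
    omega
  have hlt := topOne_spec T C hne (fun a ha => by
      obtain ⟨s, hs, rfl⟩ := Finset.mem_image.1 ha; exact hp s hs)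
    (fun a ha b hb _ => by
      obtain ⟨s, hs, rfl⟩ := Finset.mem_image.1 ha
      obtain ⟨t, ht, rfl⟩ := Finset.mem_image.1 hb
      exact com_bit (hp s hs) (hp t ht) (hpT s hs) (hpT t ht)
        (hcomm s ((hSm s).1 hs).2 t ((hSm t).1 ht).2))
    (fun a ha v hv => (hfix a ha v hv).1) (fun a ha v hv => (hfix a ha v hv).2) n (by omega)
    (hTcard.trans hcn)
  rw [hTcard] at hlt
  have := Nat.mul_le_mul_left (Nat.card Ab) hker
  omega

theorem eleven_normal_conj {x : J4} (g : M24P) :
    x ∈ eleven ↔ toJ4 g * x * (toJ4 g)⁻¹ ∈ eleven :=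
  ⟨toJ4_conj g, fun h => by simpa [mul_assoc] using toJ4_conj' g h⟩

/-- The only elementary abelian subgroup of order 2^11. -/
theorem eleven_unique {A : Subgroup J4} (hA : A ≤ subXYZ) (hexp : ∀ a ∈ A, a * a = 1)
    (hcard : Nat.card A = 2 ^ 11) : A = eleven := by
  haveI := finite_J4
  haveI : Finite M24P := m24P_card_le.1
  haveI : Fact (Nat.Prime 2) := ⟨Nat.prime_two⟩
  set Ab := (A.subgroupOf subXYZ).map projHom
  have hp : IsPGroup 2 Ab := by
    rintro ⟨_, x, hx, rfl⟩
    exact ⟨1, Subtype.ext (by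
      rw [pow_one, sq]
      show projHom x * projHom x = 1
      rw [← map_mul, show x * x = 1 from Subtype.ext (hexp x.1 hx), map_one])⟩
  obtain ⟨P, hP⟩ := hp.exists_le_sylow
  have hS : Nat.card sylTwo = 2 ^ (Nat.card M24P).factorization 2 := by
    rw [card_sylTwo, card_M24P]
    congr 1
    rw [show 244823040 = 2 ^ 10 * 239085 by norm_num,
      Nat.factorization_mul (by norm_num) (by norm_num), Nat.Prime.factorization_pow Nat.prime_two]
    simp [Nat.factorization_eq_zero_of_not_dvd (show ¬ 2 ∣ 239085 by norm_num)]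
  obtain ⟨g, hg⟩ := MulAction.exists_smul_eq M24P P (Sylow.ofCard sylTwo hS)
  set B : Subgroup J4 := A.map (MulAut.conj (toJ4 g)).toMonoidHom with hB
  have hmem : ∀ y, y ∈ B ↔ ∃ a ∈ A, toJ4 g * a * (toJ4 g)⁻¹ = y := fun y => by
    simp [hB, Subgroup.mem_map]
  have hgX : toJ4 g ∈ subXYZ := toJ4_le_XYZ ⟨g, rfl⟩
  have hBX : B ≤ subXYZ := fun y hy => by
    obtain ⟨a, ha, rfl⟩ := (hmem y).1 hy
    exact mul_mem (mul_mem hgX (hA ha)) (inv_mem hgX)
  have key : B = eleven := by
    refine elem_aux hBX (fun y hy => ?_) ?_ ?_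
    · obtain ⟨a, ha, rfl⟩ := (hmem y).1 hy
      rw [show toJ4 g * a * (toJ4 g)⁻¹ * (toJ4 g * a * (toJ4 g)⁻¹) = toJ4 g * (a * a) * (toJ4 g)⁻¹ by group,
        hexp a ha, mul_one, mul_inv_cancel]
    · rw [hB, ← hcard]
      exact (Nat.card_congr (A.equivMapOfInjective _ (MulEquiv.injective _)).toEquiv).symm
    · rintro _ ⟨⟨y, hy'⟩, hy, rfl⟩
      obtain ⟨a, ha, e⟩ := (hmem y).1 hy
      have e2 : projHom ⟨y, hy'⟩ = g * projHom ⟨a, hA ha⟩ * g⁻¹ := by
        have hgp : projHom ⟨toJ4 g, hgX⟩ = g := by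
          obtain ⟨f, hf, hx⟩ := proj_eq ⟨toJ4 g, hgX⟩
          exact (split_unique hf (one_mem _) (show f * toJ4 (proj _) = 1 * toJ4 g by rw [← hx, one_mul])).2
        rw [← hgp, ← map_inv, ← map_mul, ← map_mul]
        exact congrArg projHom (Subtype.ext e.symm)
      have h1 : projHom ⟨a, hA ha⟩ ∈ (P : Subgroup M24P) := hP ⟨_, ha, rfl⟩
      rw [e2]
      have h2 : g * projHom ⟨a, hA ha⟩ * g⁻¹ ∈ ((g • P : Sylow 2 M24P) : Subgroup M24P) := by
        rw [Sylow.coe_subgroup_smul]
        exact Subgroup.mem_map.2 ⟨_, h1, rfl⟩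
      rw [hg] at h2
      exact h2
  ext x
  rw [eleven_normal_conj g, ← key, hmem]
  constructor
  · exact fun hx => ⟨x, hx, rfl⟩
  · rintro ⟨a, ha, e⟩
    rwa [← mul_left_cancel (mul_right_cancel e)]

end CfsgLib.J4Pres
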