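import Cfsg.Agent.Lib.J4Pres.VecFix
import Cfsg.Agent.Lib.J4Pres.ElemUnique

/-!
Involutions centralising the two pairs.
-/

set_option autoImplicit false
set_option Elab.async false

namespace CfsgLib.J4Pres

open Cfsg CfsgLib.CosetEnum CfsgLib.Fi22Mult CfsgLib.J4Rep CfsgLib.Golay Cfsg.Spor

open Matrix (vecMul vecMul_vecMul vecMul_one)

/-- sum of two matrices -/
noncomputable def addB (A B : List ℕ) : List ℕ :=
  forceW A fun A' => forceW B fun B' => (List.range 112).map fun i => A'.getD i 0 ^^^ B'.getD i 0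

theorem addB_spec (A B : List ℕ) : (addB A B).length = 112 ∧
    toMat 112 (addB A B) = toMat 112 A + toMat 112 B := by
  refine ⟨by simp [addB, forceW_eq], ?_⟩
  ext i j
  simp only [toMat, Matrix.add_apply, addB, forceW_eq]
  rw [List.getD_eq_getElem _ _ (by simp), List.getElem_map, List.getElem_range, bitV_xor]

/-- rows combining the vector and its image -/
noncomputable def spanRows (a b : ℕ) : List ℕ :=
  (List.range 112).map fun i => (bif a.testBit i then vecH else 0) ^^^ (bif b.testBit i then vecT else 0)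

theorem spanRows_spec (a b : ℕ) : toMat 112 (spanRows a b) =
    Matrix.vecMulVec (vr a) (vr vecH) + Matrix.vecMulVec (vr b) (vr vecT) := by
  ext i j
  simp only [toMat, Matrix.add_apply, Matrix.vecMulVec_apply, spanRows]
  rw [List.getD_eq_getElem _ _ (by simp), List.getElem_map, List.getElem_range, bitV_xor]
  congr 1
  · cases h : a.testBit i.val <;> simp [vr, bitV, h]
  · cases h : b.testBit i.val <;> simp [vr, bitV, h]

/-- the certificate that the fixed vectors lie in the span -/
noncomputable def fixCert (p : (ℕ × List ℕ) × (ℕ × List ℕ)) (C D : List ℕ) (a b : ℕ) : Bool :=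
  Nat.beq C.length 112 && Nat.beq D.length 112 &&
    forceW (hMat p.1) fun G1 => forceW (hMat p.2) fun G2 =>
      eqB (addB (addB (mulB (addB G1 (oneB 112)) C) (mulB (addB G2 (oneB 112)) D)) (spanRows a b))
        (oneB 112)

theorem fixR_ok : fixCert pairR fixRC fixRD fixRa fixRb = true := by decide +kernel

theorem fixB_ok : fixCert pairB fixBC fixBD fixBa fixBb = true := by decide +kernel

theorem fixCert_spec {p : (ℕ × List ℕ) × (ℕ × List ℕ)} {C D : List ℕ} {a b : ℕ}
    (hw1 : wfPair p.1 = true) (hw2 : wfPair p.2 = true) (h : fixCert p C D a b = true)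
    {x : Fin 112 → ZMod 2} (h1 : actV x (elH p.1) = x) (h2 : actV x (elH p.2) = x) :
    ∃ s t : ZMod 2, x = s • vr vecH + t • vr vecT := by
  simp only [fixCert, forceW_eq, Bool.and_eq_true] at h
  obtain ⟨⟨hC, hD⟩, h⟩ := h
  obtain ⟨l1, v1⟩ := hMat_spec hw1
  obtain ⟨l2, v2⟩ := hMat_spec hw2
  have hC' := Nat.eq_of_beq_eq_true hC
  have hD' := Nat.eq_of_beq_eq_true hD
  obtain ⟨k1, e1⟩ := addB_spec (hMat p.1) (oneB 112)
  obtain ⟨k2, e2⟩ := addB_spec (hMat p.2) (oneB 112)
  obtain ⟨-, e3⟩ := addB_spec (addB (mulB (addB (hMat p.1) (oneB 112)) C)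
    (mulB (addB (hMat p.2) (oneB 112)) D)) (spanRows a b)
  obtain ⟨-, e4⟩ := addB_spec (mulB (addB (hMat p.1) (oneB 112)) C) (mulB (addB (hMat p.2) (oneB 112)) D)
  rw [eqB_eq h, toMat_oneB, e4, toMat_mulB k1 hC', toMat_mulB k2 hD', e1, e2, spanRows_spec,
    toMat_oneB] at e3
  have z1 : vecMul x (toMat 112 (hMat p.1) + 1) = 0 := by
    rw [Matrix.vecMul_add, ← v1, vecMul_one, show vecMul x (rho (elH p.1) : U112).val = x from h1]
    exact funext fun j => CharTwo.add_self_eq_zero (x j)
  have z2 : vecMul x (toMat 112 (hMat p.2) + 1) = 0 := by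
    rw [Matrix.vecMul_add, ← v2, vecMul_one, show vecMul x (rho (elH p.2) : U112).val = x from h2]
    exact funext fun j => CharTwo.add_self_eq_zero (x j)
  refine ⟨x ⬝ᵥ vr a, x ⬝ᵥ vr b, ?_⟩
  conv_lhs => rw [← vecMul_one x, e3]
  rw [Matrix.vecMul_add, Matrix.vecMul_add, ← vecMul_vecMul, ← vecMul_vecMul, z1, z2, Matrix.zero_vecMul,
    Matrix.zero_vecMul, Matrix.vecMul_add, Matrix.vecMul_vecMulVec, Matrix.vecMul_vecMulVec, zero_add,
    zero_add]

/-- the pair fixes the image of the vector -/
noncomputable def fixesT (p : (ℕ × List ℕ) × (ℕ × List ℕ)) : Bool :=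
  wfPair p.1 && wfPair p.2 && Nat.beq (vmul vecT (hMat p.1)) vecT && Nat.beq (vmul vecT (hMat p.2)) vecT

theorem fixesT_R : fixesT pairR = true := by decide +kernel

theorem fixesT_B : fixesT pairB = true := by decide +kernel

theorem elH_mem (p : ℕ × List ℕ) (h : wfPair p = true) : elH p ∈ subXYZ := by
  simp only [wfPair, Bool.and_eq_true, List.all_eq_true, Nat.blt_eq] at h
  exact mul_mem (eleven_le_XYZ (elemOf_mem _)) (prodW_jg_mem h.1.2)

/-- an involution centralising a pair lies in one of three cosets -/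
theorem invol_cases {p : (ℕ × List ℕ) × (ℕ × List ℕ)} {C D : List ℕ} {a b : ℕ}
    (hp : fixesT p = true) (h : fixCert p C D a b = true) {u : J4} (hu : u * u = 1)
    (c1 : u * elH p.1 = elH p.1 * u) (c2 : u * elH p.2 = elH p.2 * u) :
    u ∈ subXYZ ∨ u * tt ∈ subXYZ ∨ tt * u * tt ∈ subXYZ := by
  rw [← stabH_eq]
  simp only [fixesT, Bool.and_eq_true] at hp
  obtain ⟨⟨⟨hw1, hw2⟩, -⟩, -⟩ := hp
  have hv : ∀ q, wfPair q = true → actV (vr vecH) (elH q) = vr vecH := fun q hq => by
    have := elH_mem q hq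
    rwa [← stabH_eq] at this
  have hx : ∀ q, wfPair q = true → u * elH q = elH q * u →
      actV (actV (vr vecH) u) (elH q) = actV (vr vecH) u := fun q hq hc => by
    rw [← actV_mul, hc, actV_mul, hv q hq]
  obtain ⟨s, t, e⟩ := fixCert_spec hw1 hw2 h (hx _ hw1 c1) (hx _ hw2 c2)
  have hback : actV (actV (vr vecH) u) u = vr vecH := by rw [← actV_mul, hu, actV_one]
  obtain ⟨ht1, ht2⟩ := act_tt
  have hz : ∀ z : ZMod 2, z = 0 ∨ z = 1 := by decide
  rcases hz s with rfl | rfl <;> rcases hz t with rfl | rfl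
  · exfalso
    rw [e] at hback
    simp [actV] at hback
    exact vec_ne.2 hback.symm
  · refine Or.inr (Or.inl ?_)
    show actV (vr vecH) (u * tt) = _
    rw [actV_mul, e, zero_smul, one_smul, zero_add, ht2]
  · refine Or.inl ?_
    show actV (vr vecH) u = _
    rw [e, zero_smul, one_smul, add_zero]
  · refine Or.inr (Or.inr ?_)
    rw [one_smul, one_smul] at e
    show actV (vr vecH) (tt * u * tt) = _
    rw [e, actV_add, e, add_assoc, add_eq_left] at hback
    have hfix : actV (vr vecT) u = vr vecT := by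
      funext j
      have := congrFun hback j
      simp only [Pi.add_apply, Pi.zero_apply] at this
      exact (CharTwo.add_eq_zero.1 this).symm
    rw [actV_mul, actV_mul, ht1, hfix, ht2]

/-- follow a path under a pair -/
noncomputable def follow (p : ℕ × ℕ) (j : ℕ) (path : List ℕ) : ℕ :=
  path.foldl (fun i c => ap (bif Nat.beq c 0 then p.1 else p.2) i) j

/-- no permutation carries the first pair of permutations to the second, except one fixing the first point -/
noncomputable def noHom (q p : ℕ × ℕ) (paths : List (List ℕ)) (ex : Bool) : Bool :=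
  ((List.range 24).all fun i => Nat.beq (follow q 0 (paths.getD i [])) i) &&
    (List.range 24).all fun j => (ex && Nat.beq j 0) || (List.range 24).any fun i =>
      !Nat.beq (follow p j (paths.getD (ap q.1 i) [])) (ap p.1 (follow p j (paths.getD i []))) ||
        !Nat.beq (follow p j (paths.getD (ap q.2 i) [])) (ap p.2 (follow p j (paths.getD i [])))

theorem noHom_spec {q p : ℕ × ℕ} {paths : List (List ℕ)} {ex : Bool} (h : noHom q p paths ex = true)
    (vq1 : validP q.1 = true) (vq2 : validP q.2 = true) (vp1 : validP p.1 = true) (vp2 : validP p.2 = true)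
    (σ : Equiv.Perm GolayPt) (h1 : σ * toPerm q.1 = toPerm p.1 * σ)
    (h2 : σ * toPerm q.2 = toPerm p.2 * σ) :
    ex = true ∧ ∀ i < 24, idx (σ (pt i)) = follow p 0 (paths.getD i []) := by
  simp only [noHom, Bool.and_eq_true, List.all_eq_true, List.mem_range, Bool.or_eq_true, List.any_eq_true,
    Bool.not_eq_true'] at h
  set f : ℕ → ℕ := fun i => idx (σ (pt i)) with hf
  have hb : ∀ c i, i < 24 → ap (bif Nat.beq c 0 then q.1 else q.2) i < 24 ∧
      f (ap (bif Nat.beq c 0 then q.1 else q.2) i) = ap (bif Nat.beq c 0 then p.1 else p.2) (f i) := by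
    intro c i hi
    have step : ∀ {Q P : ℕ}, validP Q = true → validP P = true → σ * toPerm Q = toPerm P * σ →
        ap Q i < 24 ∧ f (ap Q i) = ap P (f i) := by
      intro Q P vQ vP e
      refine ⟨validP_lt vQ hi, ?_⟩
      have := congrArg (fun s : Equiv.Perm GolayPt => idx (s (pt i))) e
      simp only [Equiv.Perm.mul_apply, toPerm_apply vQ, idx_pt i hi] at this
      rw [idx_toPerm vP] at this
      exact this
    cases Nat.beq c 0
    · exact step vq2 vp2 h2
    · exact step vq1 vp1 h1
  have hfol : ∀ (path : List ℕ) i, i < 24 →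
      follow q i path < 24 ∧ f (follow q i path) = follow p (f i) path := by
    intro path
    induction path with
    | nil => intro i hi; exact ⟨hi, rfl⟩
    | cons c path ih =>
      intro i hi
      obtain ⟨h1, h2⟩ := hb c i hi
      show follow q (ap _ i) path < 24 ∧ _ = follow p (ap _ (f i)) path
      rw [← h2]
      exact ih _ h1
  have hall : ∀ i < 24, f i = follow p (f 0) (paths.getD i []) := fun i hi => by
    have := (hfol (paths.getD i []) 0 (by norm_num)).2
    rwa [Nat.eq_of_beq_eq_true (h.1 i hi)] at this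
  rcases h.2 (f 0) (idx_lt _) with ⟨he, h0⟩ | ⟨i, hi, hne⟩
  · exact ⟨he, fun i hi => by rw [← Nat.eq_of_beq_eq_true h0]; exact hall i hi⟩
  · exfalso
    have k1 := hb 0 i hi
    have k2 := hb 1 i hi
    simp only [show Nat.beq 0 0 = true from rfl, show Nat.beq 1 0 = false from rfl, cond_true, cond_false] at k1 k2
    rw [← hall i hi, ← hall _ k1.1, ← hall _ k2.1, k1.2, k2.2] at hne
    simp at hne

/-- the permutations of a pair -/
noncomputable def pPerm (p : (ℕ × List ℕ) × (ℕ × List ℕ)) : ℕ × ℕ := (imgW p.1.2, imgW p.2.2)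

/-- no vector but zero is fixed by the pair -/
noncomputable def noFixE (p : (ℕ × List ℕ) × (ℕ × List ℕ)) : Bool :=
  (List.range 2048).all fun v => Nat.beq v 0 || !Nat.beq (opW p.1.2 v) v || !Nat.beq (opW p.2.2 v) v

theorem centR_ok : noHom (pPerm pairR) (pPerm pairR) pathsR true = true ∧ noFixE pairR = true := by
  decide +kernel

theorem centB_ok : noHom (pPerm pairB) (pPerm pairB) pathsR true = true ∧ noFixE pairB = true := by
  decide +kernel

theorem centC_ok : noHom (pPerm pairC) (pPerm pairC) pathsC true = true ∧ noFixE pairC = true := by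
  decide +kernel

theorem noBC_ok : noHom (pPerm pairC) (pPerm pairB) pathsC false = true := by decide +kernel

theorem wf_all : wfPair pairR.1 = true ∧ wfPair pairR.2 = true ∧ wfPair pairB.1 = true ∧
    wfPair pairB.2 = true ∧ wfPair pairC.1 = true ∧ wfPair pairC.2 = true := by decide +kernel

theorem proj_elH {p : ℕ × List ℕ} (h : wfPair p = true) :
    projHom ⟨elH p, elH_mem p h⟩ = prodW m24Gen p.2 := by
  obtain ⟨e, he, hx⟩ := proj_eq ⟨elH p, elH_mem p h⟩
  refine (split_unique he (elemOf_mem p.1) (?_ : e * toJ4 _ = elemOf p.1 * toJ4 _)).2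
  rw [← jg_word]
  exact hx.symm

theorem perm_elH {p : ℕ × List ℕ} (h : wfPair p = true) :
    validP (imgW p.2) = true ∧ m24Hom (projHom ⟨elH p, elH_mem p h⟩) = toPerm (imgW p.2) := by
  have h' := h
  simp only [wfPair, Bool.and_eq_true] at h'
  have hw : ∀ g ∈ p.2, g < 3 := fun g hg => Nat.blt_eq.mp (List.all_eq_true.1 h'.1.2 g hg)
  rw [proj_elH h]
  exact ⟨(imgW_spec hw).1, m24Hom_word h'.1.2⟩

/-- the projections intertwine -/
theorem perm_conj {h : J4} (hh : h ∈ subXYZ) {p q : ℕ × List ℕ} (hp : wfPair p = true) (hq : wfPair q = true)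
    (e : h * elH q = elH p * h) :
    m24Hom (projHom ⟨h, hh⟩) * toPerm (imgW q.2) = toPerm (imgW p.2) * m24Hom (projHom ⟨h, hh⟩) := by
  rw [← (perm_elH hp).2, ← (perm_elH hq).2, ← map_mul, ← map_mul, ← map_mul, ← map_mul]
  exact congrArg (fun x => m24Hom (projHom x)) (Subtype.ext e)

/-- the centraliser of a pair in the subgroup is trivial -/
theorem cent_trivial {p : (ℕ × List ℕ) × (ℕ × List ℕ)} {paths : List (List ℕ)}
    (hw1 : wfPair p.1 = true) (hw2 : wfPair p.2 = true)
    (hok : noHom (pPerm p) (pPerm p) paths true = true ∧ noFixE p = true) {h : J4} (hh : h ∈ subXYZ)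
    (c1 : h * elH p.1 = elH p.1 * h) (c2 : h * elH p.2 = elH p.2 * h) : h = 1 := by
  obtain ⟨-, hσ⟩ := noHom_spec hok.1 (perm_elH hw1).1 (perm_elH hw2).1 (perm_elH hw1).1 (perm_elH hw2).1
    _ (perm_conj hh hw1 hw1 c1) (perm_conj hh hw2 hw2 c2)
  have hq := hok.1
  simp only [noHom, Bool.and_eq_true, List.all_eq_true, List.mem_range] at hq
  have h1 : projHom ⟨h, hh⟩ = 1 := m24Hom_injective (by
    rw [map_one]
    refine Equiv.ext fun x => idx_injective ?_
    rw [← pt_idx x, hσ _ (idx_lt x), Nat.eq_of_beq_eq_true (hq.1 _ (idx_lt x)), Equiv.Perm.one_apply, pt_idx])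
  obtain ⟨e, he, hx⟩ := proj_eq ⟨h, hh⟩
  rw [show proj ⟨h, hh⟩ = 1 from h1, map_one, mul_one] at hx
  obtain rfl : h = e := hx
  obtain ⟨v, hv, rfl⟩ := exists_elemOf he
  have key : ∀ q : ℕ × List ℕ, wfPair q = true → elemOf v * elH q = elH q * elemOf v → opW q.2 v = v := by
    intro q hq c
    simp only [wfPair, Bool.and_eq_true, List.all_eq_true, Nat.blt_eq] at hq
    have h3 : elemOf v * prodW jg q.2 = prodW jg q.2 * elemOf v := by
      refine mul_left_cancel (a := elemOf q.1) ?_
      rw [← mul_assoc, eleven_comm _ (elemOf_mem _) _ (elemOf_mem _), mul_assoc,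
        show elemOf v * (elemOf q.1 * prodW jg q.2) = elemOf v * elH q from rfl, c, elH, mul_assoc]
    refine elemOf_inj (opW_lt _ hv) hv ?_
    rw [← elemOf_word hq.1.2 hv, mul_assoc, h3, inv_mul_cancel_left]
  have hne := hok.2
  simp only [noFixE, List.all_eq_true, List.mem_range, Bool.or_eq_true, Bool.not_eq_true'] at hne
  rcases hne v hv with (h0 | h0) | h0
  · rw [Nat.eq_of_beq_eq_true h0, elemOf_zero]
  · rw [key _ hw1 c1] at h0; simp at h0
  · rw [key _ hw2 c2] at h0; simp at h0

/-- conjugation by t on the two pairs -/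
noncomputable def twistPairs : Bool :=
  forceW matT fun T =>
    eqB (mulB (mulB T (hMat pairR.1)) T) (hMat pairR.1) && eqB (mulB (mulB T (hMat pairR.2)) T) (hMat pairR.2) &&
    eqB (mulB (mulB T (hMat pairB.1)) T) (hMat pairC.1) && eqB (mulB (mulB T (hMat pairB.2)) T) (hMat pairC.2)

theorem twistPairs_ok : twistPairs = true := by decide +kernel

theorem tt_conj {p q : ℕ × List ℕ} (hp : wfPair p = true) (hq : wfPair q = true)
    (h : eqB (mulB (mulB matT (hMat p)) matT) (hMat q) = true) : tt * elH p * tt = elH q := by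
  obtain ⟨lp, vp⟩ := hMat_spec hp
  obtain ⟨lt', vt⟩ := rho_j5 4
  rw [show matT = mat5 4 from rfl] at h
  rw [j5_four] at vt
  refine rho_injective (Units.ext ?_)
  rw [map_mul, map_mul, Units.val_mul, Units.val_mul, vt, vp, (hMat_spec hq).2, ← eqB_eq h,
    toMat_mulB (by rw [mulB_length]; exact lt') lt', toMat_mulB lt' lp]

theorem commute_twist {u g g' : J4} (hg : tt * g * tt = g') (c : u * g = g * u) :
    u * tt * g' = g * (u * tt) ∧ tt * u * tt * g' = g' * (tt * u * tt) := by
  subst hg
  constructor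
  · calc u * tt * (tt * g * tt) = u * (tt * tt) * g * tt := by group
      _ = g * (u * tt) := by rw [tt_sq, mul_one, c, mul_assoc]
  · calc tt * u * tt * (tt * g * tt) = tt * u * (tt * tt) * g * tt := by group
      _ = tt * (u * g) * tt := by rw [tt_sq]; group
      _ = tt * g * (tt * tt) * u * tt := by rw [c, tt_sq]; group
      _ = _ := by group

/-- the only involution centralising the pair of the trio stabiliser -/
theorem invol_R {u : J4} (hu : u * u = 1) (hne : u ≠ 1) (c1 : u * elH pairR.1 = elH pairR.1 * u)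
    (c2 : u * elH pairR.2 = elH pairR.2 * u) : u = tt := by
  obtain ⟨w1, w2, -⟩ := wf_all
  have h := twistPairs_ok
  simp only [twistPairs, forceW_eq, Bool.and_eq_true] at h
  obtain ⟨d1, d1'⟩ := commute_twist (tt_conj w1 w1 h.1.1.1) c1
  obtain ⟨d2, d2'⟩ := commute_twist (tt_conj w2 w2 h.1.1.2) c2
  rcases invol_cases fixesT_R fixR_ok hu c1 c2 with hm | hm | hm
  · exact absurd (cent_trivial w1 w2 centR_ok hm c1 c2) hne
  · have e := cent_trivial w1 w2 centR_ok hm d1 d2
    rw [eq_inv_of_mul_eq_one_left e, tt_inv]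
  · have e := cent_trivial w1 w2 centR_ok hm d1' d2'
    exfalso
    refine hne ?_
    calc u = tt * (tt * u * tt) * tt := by
          rw [show tt * (tt * u * tt) * tt = (tt * tt) * u * (tt * tt) by group, tt_sq]; group
      _ = 1 := by rw [e, mul_one, tt_sq]

/-- no involution centralises the other pair -/
theorem invol_B {u : J4} (hu : u * u = 1) (hne : u ≠ 1) (c1 : u * elH pairB.1 = elH pairB.1 * u)
    (c2 : u * elH pairB.2 = elH pairB.2 * u) : False := by
  obtain ⟨-, -, w1, w2, x1, x2⟩ := wf_all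
  have h := twistPairs_ok
  simp only [twistPairs, forceW_eq, Bool.and_eq_true] at h
  obtain ⟨d1, d1'⟩ := commute_twist (tt_conj w1 x1 h.1.2) c1
  obtain ⟨d2, d2'⟩ := commute_twist (tt_conj w2 x2 h.2) c2
  rcases invol_cases fixesT_B fixB_ok hu c1 c2 with hm | hm | hm
  · exact hne (cent_trivial w1 w2 centB_ok hm c1 c2)
  · have := (noHom_spec noBC_ok (perm_elH x1).1 (perm_elH x2).1 (perm_elH w1).1 (perm_elH w2).1
      _ (perm_conj hm w1 x1 d1) (perm_conj hm w2 x2 d2)).1
    exact Bool.noConfusion this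
  · have e := cent_trivial x1 x2 centC_ok hm d1' d2'
    refine hne ?_
    calc u = tt * (tt * u * tt) * tt := by
          rw [show tt * (tt * u * tt) * tt = (tt * tt) * u * (tt * tt) by group, tt_sq]; group
      _ = 1 := by rw [e, mul_one, tt_sq]

end CfsgLib.J4Pres
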