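import Cfsg.Agent.Lib.J4Pres.Simple

/-!
The fourth Janko group as matrices of degree 112 over the field with two elements.
-/

set_option autoImplicit false

namespace CfsgLib.J4Pres

open Cfsg Cfsg.Spor

theorem rho_injective : Function.Injective J4Rep.rho := by
  haveI := simple_J4
  rw [← MonoidHom.ker_eq_bot_iff]
  refine (Subgroup.Normal.eq_bot_or_eq_top inferInstance).resolve_right fun h => J4Rep.uX_ne_one ?_
  have hx : PresentedGroup.of J4.Gen.x ∈ J4Rep.rho.ker := by rw [h]; trivial
  rw [MonoidHom.mem_ker, J4Rep.rho_of] at hx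
  exact hx

attribute [local irreducible] J4Rep.rho

theorem range_simple : IsSimpleGroup J4Rep.rho.range :=
  haveI := simple_J4
  MulEquiv.isSimpleGroup (MonoidHom.ofInjective rho_injective).symm

theorem range_card : Nat.card J4Rep.rho.range = 86775571046077562880 :=
  (Nat.card_congr (MonoidHom.ofInjective rho_injective).toEquiv).symm.trans card_J4

theorem exists_realisation : ∃ H : Subgroup (GL (Fin 112) (ZMod 2)), Cfsg.IsJ4 H := by
  exact ⟨J4Rep.rho.range, range_simple, range_card⟩

end CfsgLib.J4Pres
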