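import Cfsg.Agent.Lib.J4Pres.SegCheck
import Cfsg.Agent.Lib.J4Pres.Primes
import Cfsg.Agent.Lib.J4Pres.InvElevenData
import Cfsg.Agent.Lib.J4Pres.Realise

/-!
Two elements of order eleven generating an extraspecial group and an involution inverting both.
-/

set_option autoImplicit false
set_option Elab.async false

namespace CfsgLib.J4Pres

open Cfsg CfsgLib.CosetEnum CfsgLib.Fi22Mult CfsgLib.J4Rep Cfsg.Spor

theorem segJ0_ok : eqB (mat5W segJ0) segMatJ0 = true := by decide +kernel

theorem segJ1_ok : eqB (mat5W segJ1) segMatJ1 = true := by decide +kernel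

theorem segJ2_ok : eqB (mat5W segJ2) segMatJ2 = true := by decide +kernel

theorem segsJ_flat : (segsJ.flatMap Prod.fst == wordJ11) = true := by decide +kernel

theorem segsJ_prod : eqB (segsJ.foldr (fun e M => mulB e.2 M) (oneB 112)) matJ11 = true := by
  decide +kernel

theorem matJ11_spec : matJ11.length = 112 ∧
    (rho (prodW j5 wordJ11) : U112).val = toMat 112 matJ11 := by
  have h := segs_spec segsJ (by
    simp only [segsJ, List.forall_mem_cons, List.not_mem_nil, IsEmpty.forall_iff, implies_true, and_true]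
    exact ⟨segJ0_ok, segJ1_ok, segJ2_ok⟩)
  rw [beq_iff_eq.1 segsJ_flat, eqB_eq segsJ_prod] at h
  exact h

/-- the first element of order eleven -/
noncomputable def elA : J4 := prodW j5 wordA11

/-- the second element of order eleven -/
noncomputable def elB : J4 := prodW j5 wordB11

/-- their commutator -/
noncomputable def elC : J4 := elA * elB * elA ^ 10 * elB ^ 10

/-- the involution -/
noncomputable def elJ : J4 := prodW j5 wordJ11

/-- the equations -/
noncomputable def jEqs : Bool :=
  forceW matA11 fun A => forceW matB11 fun B => forceW matJ11 fun J =>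
    forceW (powMat A 10) fun A' => forceW (powMat B 10) fun B' =>
      forceW (mulB (mulB A B) (mulB A' B')) fun C =>
        eqB (mulB J A) (mulB A' J) && eqB (mulB J B) (mulB B' J) && eqB (mulB J C) (mulB C J) &&
          eqB (mulB A C) (mulB C A) && eqB (mulB B C) (mulB C B) &&
          ((List.range 112).any fun i => diffAt C (oneB 112) i i || diffAt C (oneB 112) i ((i + 1) % 112))

theorem jEqs_ok : jEqs = true := by decide +kernel

/-- equal matrices, equal elements -/
theorem eq_of_mat {u v : J4} {A B : List ℕ} (hu : (rho u : U112).val = toMat 112 A)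
    (hv : (rho v : U112).val = toMat 112 B) (h : eqB A B = true) : u = v :=
  rho_injective (Units.ext (by rw [hu, hv, eqB_eq h]))

theorem elA_spec : matA11.length = 112 ∧ (rho elA : U112).val = toMat 112 matA11 := matA11_spec

theorem elB_spec : matB11.length = 112 ∧ (rho elB : U112).val = toMat 112 matB11 := matB11_spec

theorem elJ_spec : matJ11.length = 112 ∧ (rho elJ : U112).val = toMat 112 matJ11 := matJ11_spec

attribute [local irreducible] wordA11 wordB11 matA11 matB11 wordJ11 matJ11 elA elB elJ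

theorem eleven_pair :
    elA ^ 11 = 1 ∧ elB ^ 11 = 1 ∧ elA * elB = elC * (elB * elA) ∧ elA * elC = elC * elA ∧
      elB * elC = elC * elB ∧ elC ≠ 1 ∧ elC ^ 11 = 1 ∧ elJ * elA = elA ^ 10 * elJ ∧
      elJ * elB = elB ^ 10 * elJ ∧ elJ * elC = elC * elJ := by
  obtain ⟨lA, vA⟩ := elA_spec
  obtain ⟨lB, vB⟩ := elB_spec
  obtain ⟨lJ, vJ⟩ := elJ_spec
  obtain ⟨lA', vA'⟩ := powMat_spec lA vA 10
  obtain ⟨lB', vB'⟩ := powMat_spec lB vB 10
  have hA : elA ^ 11 = 1 := rho_injective (by
    rw [map_pow, map_one]; exact (ordMat_spec lA vA ordA_ok).1)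
  have hB : elB ^ 11 = 1 := rho_injective (by
    rw [map_pow, map_one]; exact (ordMat_spec lB vB ordB_ok).1)
  have hl : ∀ {M N : List ℕ}, M.length = 112 → (mulB M N).length = 112 := fun {M N} h => by
    rw [mulB_length, h]
  have hm : ∀ {u v : J4} {M N : List ℕ}, M.length = 112 → N.length = 112 →
      (rho u : U112).val = toMat 112 M → (rho v : U112).val = toMat 112 N →
      (rho (u * v) : U112).val = toMat 112 (mulB M N) := fun {u v M N} hM hN hu hv => by
    rw [map_mul, Units.val_mul, hu, hv, toMat_mulB hM hN]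
  have vP : (rho (elA ^ 10) : U112).val = toMat 112 (powMat matA11 10) := by rw [map_pow]; exact vA'
  have vQ : (rho (elB ^ 10) : U112).val = toMat 112 (powMat matB11 10) := by rw [map_pow]; exact vB'
  have vC : (rho elC : U112).val =
      toMat 112 (mulB (mulB matA11 matB11) (mulB (powMat matA11 10) (powMat matB11 10))) := by
    rw [elC, mul_assoc (elA * elB)]
    exact hm (hl lA) (hl lA') (hm lA lB vA vB) (hm lA' lB' vP vQ)
  have lC : (mulB (mulB matA11 matB11) (mulB (powMat matA11 10) (powMat matB11 10))).length = 112 :=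
    hl (hl lA)
  have h := jEqs_ok
  simp only [jEqs, forceW_eq, Bool.and_eq_true, List.any_eq_true, Bool.or_eq_true] at h
  obtain ⟨⟨⟨⟨⟨hJA, hJB⟩, hJC⟩, hAC⟩, hBC⟩, i, -, hne⟩ := h
  have hac := eq_of_mat (hm lA lC vA vC) (hm lC lA vC vA) hAC
  have hbc := eq_of_mat (hm lB lC vB vC) (hm lC lB vC vB) hBC
  have hcd : elA * elB = elC * (elB * elA) := by
    rw [elC, show elA * elB * elA ^ 10 * elB ^ 10 * (elB * elA) =
      elA * elB * (elA ^ 10 * (elB ^ 10 * elB) * elA) by simp only [mul_assoc], ← pow_succ, hB,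
      mul_one, ← pow_succ, hA, mul_one]
  refine ⟨hA, hB, hcd, hac, hbc, fun e => ?_, ?_, eq_of_mat (hm lJ lA vJ vA) (hm lA' lJ vP vJ) hJA,
    eq_of_mat (hm lJ lB vJ vB) (hm lB' lJ vQ vJ) hJB, eq_of_mat (hm lJ lC vJ vC) (hm lC lJ vC vJ) hJC⟩
  · rw [e, map_one, Units.val_one, ← toMat_oneB] at vC
    rcases hne with h2 | h2 <;> exact toMat_ne h2 vC.symm
  · have e : elA * elB * elA⁻¹ = elC * elB := by rw [hcd]; group
    have h1 : (elA * elB * elA⁻¹) ^ 11 = 1 := by rw [conj_pow, hB, mul_one, mul_inv_cancel]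
    rwa [e, (show Commute elC elB from hbc.symm).mul_pow, hB, mul_one] at h1

end CfsgLib.J4Pres
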