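import Mathlib.Data.List.Basic

/-!
Permutations and words for the presentation of the Mathieu group.
-/

set_option autoImplicit false
set_option linter.style.longLine false

namespace CfsgLib.J4Pres

/-- packed images of the letters -/
def m24Img : List ℕ := [651249720424513949337076594912658503, 983991652821723117977489914538052777, 984150769626977145061008152743790251]

/-- words for the standard generators -/
def m24Std : List (List ℕ) := [[1, 0, 1, 0, 1, 0, 2, 0, 2, 0, 1, 0, 1, 0, 1, 0, 2, 0, 2, 0, 2, 0, 1, 0, 2, 0, 2, 0, 2, 0, 2, 0, 2, 0, 2, 0, 1, 0, 1, 0, 1, 0, 1], [2, 0, 1, 0, 1, 0, 2, 0, 1, 0, 1, 0, 1, 0, 2, 0, 1, 0, 1, 0, 2, 0, 2, 0, 1, 0, 2, 0, 2, 0, 2, 0, 1, 0, 2, 0, 2, 0, 1], [1, 0, 2, 0, 1, 0, 2, 0, 2, 0, 2, 0, 1, 0, 1, 0, 1, 0, 1, 0, 1, 0, 1, 0, 2, 0, 2, 0, 1, 0, 1, 0, 1, 0, 2, 0, 1, 0, 1, 0, 2, 0, 1, 0, 1, 0, 1, 0, 2, 0, 1, 0, 2]]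

end CfsgLib.J4Pres
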