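import Cfsg.Agent.Lib.CosetEnum.Partial
import Cfsg.Agent.Lib.CosetEnum.TwoGen
import Cfsg.Agent.Lib.CosetEnum.Words
import Cfsg.Agent.Lib.J4Pres.CheckM24G
import Cfsg.Agent.Lib.J4Pres.CheckM24H
import Cfsg.Agent.Lib.J4Pres.M24DataP
import Cfsg.Agent.Lib.J4Pres.M24Words
import Cfsg.Agent.Lib.Golay.M24

/-!
Two generators subject to seven relations present the Mathieu group on 24 points.
-/

set_option autoImplicit false

namespace CfsgLib.J4Pres

open Cfsg CfsgLib.CosetEnum CfsgLib.Golay

/-- The presented group. -/
abbrev M24P : Type := TwoGen m24CertG.rels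

/-- its letters -/
def m24Gen : ℕ → M24P := twoGen m24CertG.rels

theorem m24_ok : twoOK m24CertG.rels m24CertG = true := by decide +kernel

theorem m24Gen_model : Model m24CertG
    (Subgroup.closure {y | ∃ w ∈ m24CertG.subs, prodW m24Gen w = y}) m24Gen := twoModel m24_ok

theorem m24Gen_inv_mul (g : ℕ) : m24Gen g * m24Gen (m24CertG.inv g) = 1 := m24Gen_model.inv_mul g

theorem m24Gen_three : m24Gen 3 = 1 := by simp [m24Gen, twoGen, twoFree]

/-- the image of a letter -/
noncomputable def m24Act (i : ℕ) : Equiv.Perm GolayPt := toPerm (m24Img.getD i 0)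

theorem m24Act_valid : (List.range 3).all (fun i => validP (m24Img.getD i 0)) = true := by decide +kernel

theorem m24Act_mem : ∀ i < 3, m24Act i ∈ M24 := fun i hi =>
  toPerm_mem_M24 (List.all_eq_true.1 (show (List.range 3).all (fun i => inM24 (m24Img.getD i 0)) = true by
    decide +kernel) i (List.mem_range.2 hi))

/-- the packed identity -/
def idPk : ℕ := ((List.range 24).map fun i => i * 32 ^ i).sum

theorem validP_idPk : validP idPk = true := by decide +kernel

theorem toPerm_idPk : toPerm idPk = 1 := by
  refine (eq_toPerm validP_idPk 1 fun p => ?_).symm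
  revert p; decide +kernel

/-- composition of packed permutations along a word -/
def imgW (w : List ℕ) : ℕ := w.foldr (fun g P => mulP (m24Img.getD g 0) P) idPk

theorem imgW_spec {w : List ℕ} (hw : ∀ g ∈ w, g < 3) :
    validP (imgW w) = true ∧ toPerm (imgW w) = prodW m24Act w := by
  induction w with
  | nil => exact ⟨by rw [imgW, List.foldr_nil]; exact validP_idPk, by rw [imgW, List.foldr_nil, prodW_nil, toPerm_idPk]⟩
  | cons g w ih =>
    rw [List.forall_mem_cons] at hw
    obtain ⟨h1, h2⟩ := ih hw.2
    have hg := List.all_eq_true.1 m24Act_valid g (List.mem_range.2 hw.1)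
    exact ⟨validP_mulP hg h1, by rw [prodW_cons, ← h2]; exact toPerm_mulP hg h1⟩

theorem m24Act_inv : m24Act 2 = (m24Act 1)⁻¹ := by
  refine eq_inv_of_mul_eq_one_left ?_
  have := (imgW_spec (w := [2, 1]) (by decide)).2
  simp only [prodW_cons, prodW_nil, mul_one] at this
  rw [← this, show imgW [2, 1] = idPk by decide +kernel, toPerm_idPk]

theorem m24Act_rels : ∀ r ∈ m24CertG.rels, prodW m24Act r = 1 := by
  intro r hr
  have h : m24CertG.rels.all (fun r => r.all (fun g => Nat.blt g 3) && imgW r == idPk) = true := by
    decide +kernel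
  have h' := List.all_eq_true.1 h r hr
  simp only [Bool.and_eq_true, List.all_eq_true, Nat.blt_eq, beq_iff_eq] at h'
  rw [← (imgW_spec h'.1).2, h'.2, toPerm_idPk]

/-- the images of the free generators -/
noncomputable def m24Free : FreeGroup (Fin 2) →* Equiv.Perm GolayPt :=
  FreeGroup.lift fun i => m24Act i.val

theorem m24Free_letter {g : ℕ} (hg : g < 3) : m24Free (twoFree g) = m24Act g :=
  match g with
  | 0 => by simp [m24Free, twoFree]
  | 1 => by simp [m24Free, twoFree]
  | 2 => by simp [m24Free, twoFree, m24Act_inv]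
  | n + 3 => by omega

/-- the action on 24 points -/
noncomputable def m24Hom : M24P →* Equiv.Perm GolayPt :=
  PresentedGroup.toGroup (rels := twoRels m24CertG.rels) (f := fun i : Fin 2 => m24Act i.val) (by
    rintro x ⟨r, hr, rfl⟩
    have hlt : ∀ g ∈ r, g < 3 := fun g hg => by
      have h : m24CertG.rels.all (fun r => r.all fun g => Nat.blt g 3) = true := by decide +kernel
      have h' := List.all_eq_true.1 h r hr
      simp only [List.all_eq_true, Nat.blt_eq] at h'
      exact h' g hg
    show m24Free (prodW twoFree r) = 1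
    rw [map_prodW, ← m24Act_rels r hr]
    exact prodW_congr fun g hg => m24Free_letter (hlt g hg))

theorem m24Hom_gen {g : ℕ} (hg : g < 3) : m24Hom (m24Gen g) = m24Act g := m24Free_letter hg

theorem m24Hom_word {w : List ℕ} (hw : (w.all fun g => Nat.blt g 3) = true) :
    m24Hom (prodW m24Gen w) = toPerm (imgW w) := by
  simp only [List.all_eq_true, Nat.blt_eq] at hw
  rw [map_prodW, (imgW_spec hw).2]
  exact prodW_congr fun g hg => m24Hom_gen (hw g hg)

/-- the check of a partial enumeration over the relators -/
def relsOK (C : Cert) (extra : List (List ℕ)) : Bool :=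
  decide (C.K = 3) && C.invs == [0, 2, 1] && C.rels == m24CertG.rels ++ extra

theorem partial_model {C : Cert} {extra : List (List ℕ)} (h : relsOK C extra = true)
    (hx : ∀ r ∈ extra, prodW m24Gen r = 1) :
    Model C (Subgroup.closure {y | ∃ w ∈ C.subs, prodW m24Gen w = y}) m24Gen := by
  simp only [relsOK, Bool.and_eq_true, decide_eq_true_eq, beq_iff_eq] at h
  obtain ⟨⟨hK, hi⟩, hR⟩ := h
  refine ⟨by rw [hK]; exact m24Gen_three, fun g => ?_, fun r hr => ?_,
    fun w hw => Subgroup.subset_closure ⟨w, hw, rfl⟩⟩
  · have : C.inv g = m24CertG.inv g := by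
      rw [Cert.inv, Cert.inv, hi, show m24CertG.invs = [0, 2, 1] from rfl]
    rw [this]; exact m24Gen_inv_mul g
  · rcases List.mem_append.1 (hR ▸ hr) with h' | h'
    exacts [m24Gen_model.rel r h', hx r h']

theorem eq_one_of_trivial {C : Cert} {extra : List (List ℕ)} (h : relsOK C extra = true)
    (hx : ∀ r ∈ extra, prodW m24Gen r = 1) (hs : C.subs = []) {k : ℕ}
    (h1 : allUp C.stepOK' k 0 = true) (hF : C.F ≤ 2 ^ k) {es w : List ℕ}
    (hp : C.pathOK es w = true) : prodW m24Gen w = 1 := by
  have := mem_of_path (partial_model h hx) h1 hF hp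
  simpa [hs] using this

theorem mem_zpowers {C : Cert} {extra : List (List ℕ)} (h : relsOK C extra = true)
    (hx : ∀ r ∈ extra, prodW m24Gen r = 1) {s : List ℕ} (hs : C.subs = [s]) {k : ℕ}
    (h1 : allUp C.stepOK' k 0 = true) (hF : C.F ≤ 2 ^ k) {es w : List ℕ}
    (hp : C.pathOK es w = true) : prodW m24Gen w ∈ Subgroup.zpowers (prodW m24Gen s) := by
  have := mem_of_path (partial_model h hx) h1 hF hp
  rw [Subgroup.zpowers_eq_closure]
  simpa [hs] using this

theorem exists_pow_lt {G : Type*} [Group G] {a e : G} {n : ℕ} (hn : 0 < n) (ha : a ^ n = 1)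
    (he : e ∈ Subgroup.zpowers a) : ∃ i < n, a ^ i = e := by
  obtain ⟨i, rfl⟩ := he
  refine ⟨(i % (n : ℤ)).toNat, ?_, ?_⟩
  · have := Int.emod_lt_of_pos i (show (0 : ℤ) < n by omega)
    omega
  · rw [← zpow_natCast, Int.toNat_of_nonneg (Int.emod_nonneg _ (by omega))]
    show a ^ (i % (n : ℤ)) = a ^ i
    conv_rhs => rw [← Int.emod_add_mul_ediv i n, zpow_add, zpow_mul, zpow_natCast, ha, one_zpow, mul_one]

/-- the second generator of the subgroup of index 42504 -/
def m24B : List ℕ := m24CertG.subs.getD 1 []

theorem pow0_eq : prodW m24Gen (powWord (m24CertG.revInv m24B) 3) = 1 :=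
  eq_one_of_trivial (C := m24CertPow0) (k := 4) (es := m24PathPow0) (extra := [])
    (by decide +kernel) (by simp) rfl (by decide +kernel) (by decide +kernel) (by decide +kernel)

theorem pow_b : prodW m24Gen m24B ^ 3 = 1 := by
  have h := pow0_eq
  rwa [prodW_powWord, m24Gen_model.revInv_eq, inv_pow, inv_eq_one] at h

theorem pow1_eq : prodW m24Gen (powWord [2] 3) = 1 :=
  eq_one_of_trivial (C := m24CertPow1) (k := 2) (es := m24PathPow1) (extra := [])
    (by decide +kernel) (by simp) rfl (by decide +kernel) (by decide +kernel) (by decide +kernel)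

theorem three_eq : prodW m24Gen m24Three = 1 := by
  have hy := mem_zpowers (C := m24CertY) (k := 7) (es := m24PathY) (w := m24Three) (s := [1])
    (extra := []) (by decide +kernel) (by simp) rfl (by decide +kernel) (by decide +kernel)
    (by decide +kernel)
  have hb := mem_zpowers (C := m24CertB) (k := 7) (es := m24PathB) (w := m24Three) (s := m24B)
    (extra := []) (by decide +kernel) (by simp) (by decide +kernel) (by decide +kernel)
    (by decide +kernel) (by decide +kernel)
  have hy3 : prodW m24Gen [1] ^ 3 = 1 := by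
    rw [← prodW_powWord]
    exact m24Gen_model.rel _ (by decide +kernel)
  obtain ⟨i, hi, e1⟩ := exists_pow_lt (n := 3) (by norm_num) hy3 hy
  obtain ⟨j, hj, e2⟩ := exists_pow_lt (n := 3) (by norm_num) pow_b hb
  have h := congrArg m24Hom (e1.trans e2.symm)
  rw [← prodW_powWord, ← prodW_powWord] at h
  have hlt : ((List.range 3).all fun i => (powWord [1] i).all (fun g => Nat.blt g 3) &&
      (powWord m24B i).all (fun g => Nat.blt g 3)) = true := by decide +kernel
  simp only [List.all_eq_true, Bool.and_eq_true, List.mem_range] at hlt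
  rw [m24Hom_word (List.all_eq_true.2 (hlt i hi).1), m24Hom_word (List.all_eq_true.2 (hlt j hj).2)] at h
  have key : ((List.range 3).all fun i => (List.range 3).all fun j => decide (i = 0) ||
      (List.range 24).any fun p => ap (imgW (powWord [1] i)) p != ap (imgW (powWord m24B j)) p) = true := by
    decide +kernel
  simp only [List.all_eq_true, List.mem_range, Bool.or_eq_true, decide_eq_true_eq, List.any_eq_true,
    bne_iff_ne] at key
  rcases key i hi j hj with rfl | ⟨p, hp, hne⟩
  · simpa using e1.symm
  · exfalso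
    have hv : ∀ w : List ℕ, (∀ g ∈ w, g < 3) → validP (imgW w) = true := fun w hw => (imgW_spec hw).1
    have := congrArg (fun f : Equiv.Perm GolayPt => idx (f (pt p))) h
    rw [idx_toPerm (hv _ fun g hg => by simpa using (hlt i hi).1 g hg),
      idx_toPerm (hv _ fun g hg => by simpa using (hlt j hj).2 g hg), idx_pt p hp] at this
    exact hne this

theorem kill_eq : prodW m24Gen m24Kill = 1 := by
  have hm := mem_zpowers (C := m24CertXY) (k := 13) (es := m24PathXY) (w := m24Kill) (s := [0, 1])
    (extra := [m24Three]) (by decide +kernel) (fun r hr => by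
      rw [List.mem_singleton.1 hr]; exact three_eq) rfl (by decide +kernel) (by decide +kernel)
    (by decide +kernel)
  have h23 : prodW m24Gen [0, 1] ^ 23 = 1 := by
    rw [← prodW_powWord]
    exact m24Gen_model.rel _ (by decide +kernel)
  obtain ⟨i, hi, e⟩ := exists_pow_lt (n := 23) (by norm_num) h23 hm
  rcases Nat.eq_zero_or_pos i with rfl | h0
  · simpa using e.symm
  exfalso
  have h := congrArg m24Hom e
  rw [← prodW_powWord] at h
  have hlt : ((List.range 23).all fun i => (powWord [0, 1] i).all fun g => Nat.blt g 3) = true ∧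
      (m24Kill.all fun g => Nat.blt g 3) = true ∧ imgW m24Kill = idPk := by decide +kernel
  simp only [List.all_eq_true, List.mem_range] at hlt
  rw [m24Hom_word (List.all_eq_true.2 (hlt.1 i hi)), m24Hom_word (List.all_eq_true.2 hlt.2.1),
    hlt.2.2] at h
  have key : ((List.range 23).all fun i => decide (i = 0) ||
      (List.range 24).any fun p => ap (imgW (powWord [0, 1] i)) p != p) = true := by decide +kernel
  simp only [List.all_eq_true, List.mem_range, Bool.or_eq_true, decide_eq_true_eq, List.any_eq_true,
    bne_iff_ne] at key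
  rcases key i hi with rfl | ⟨p, hp, hne⟩
  · omega
  refine hne ?_
  have := congrArg (fun f : Equiv.Perm GolayPt => idx (f (pt p))) h
  rw [idx_toPerm (imgW_spec fun g hg => by simpa using hlt.1 i hi g hg).1, toPerm_idPk] at this
  simpa [idx_pt p hp] using this

/-- the letters of the subgroup of index 42504 -/
def subWord : ℕ → List ℕ
  | 0 => m24CertG.subs.getD 0 []
  | 1 => m24CertG.revInv (m24CertG.subs.getD 0 [])
  | 2 => m24CertG.subs.getD 1 []
  | 3 => m24CertG.revInv (m24CertG.subs.getD 1 [])
  | _ => []

/-- the subgroup generators -/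
def subGen (g : ℕ) : M24P := prodW m24Gen (subWord g)

theorem subGen_rels : ∀ r ∈ m24CertH.rels, prodW subGen r = 1 := by
  have key : ∀ r : List ℕ, prodW subGen r = prodW m24Gen (r.flatMap subWord) := by
    intro r
    induction r with
    | nil => rfl
    | cons g r ih => rw [prodW_cons, List.flatMap_cons, prodW_append, ← ih]; rfl
  have hl : m24CertH.rels.map (fun r => r.flatMap subWord) =
      [powWord (m24CertG.revInv m24B) 3, powWord [2] 3, [].append (m24CertH.rels.getD 2 [] |>.flatMap subWord), m24Three,
        (m24CertH.rels.getD 4 []).flatMap subWord] := by decide +kernel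
  intro r hr
  rw [key]
  have := List.mem_map_of_mem (f := fun r => r.flatMap subWord) hr
  rw [hl] at this
  simp only [List.mem_cons, List.not_mem_nil, or_false, List.nil_append, List.append_eq] at this
  rcases this with h | h | h | h | h <;> rw [h]
  · exact pow0_eq
  · exact pow1_eq
  · exact eq_one_of_trivial (C := m24CertPow2) (k := 6) (es := m24PathPow2) (extra := [])
      (by decide +kernel) (by simp) rfl (by decide +kernel) (by decide +kernel) (by decide +kernel)
  · exact three_eq
  · exact eq_one_of_trivial (C := m24CertConj) (k := 8) (es := m24PathConj) (extra := [m24Kill])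
      (by decide +kernel) (fun r hr => by rw [List.mem_singleton.1 hr]; exact kill_eq) rfl
      (by decide +kernel) (by decide +kernel) (by decide +kernel)

theorem subGen_model : Model m24CertH
    (Subgroup.closure {y | ∃ w ∈ m24CertH.subs, prodW subGen w = y}) subGen := by
  refine ⟨rfl, fun g => ?_, subGen_rels, fun w hw => Subgroup.subset_closure ⟨w, hw, rfl⟩⟩
  have hH : m24CertH.invs = [1, 0, 3, 2] := rfl
  match g with
  | 0 => rw [Cert.inv, hH]; simp [subGen, subWord, m24Gen_model.revInv_eq]
  | 1 => rw [Cert.inv, hH]; simp [subGen, subWord, m24Gen_model.revInv_eq]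
  | 2 => rw [Cert.inv, hH]; simp [subGen, subWord, m24Gen_model.revInv_eq]
  | 3 => rw [Cert.inv, hH]; simp [subGen, subWord, m24Gen_model.revInv_eq]
  | n + 4 => rw [Cert.inv, hH]; simp [subGen, subWord]

theorem m24P_card_le : Finite M24P ∧ Nat.card M24P ≤ 244823040 := by
  have hA := card_closure_single (gen := subGen) (ws := m24CertH.subs) (w := [0]) rfl (n := 3)
    (by norm_num) (by
      have := m24Gen_model.rel (powWord [1] 3) (by decide +kernel)
      rw [prodW_powWord] at this
      rw [prodW_cons, prodW_nil, mul_one] at this ⊢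
      show prodW m24Gen (m24CertG.subs.getD 0 []) ^ 3 = 1
      rw [show m24CertG.subs.getD 0 [] = [1] from rfl, prodW_cons, prodW_nil, mul_one]
      exact this)
  haveI := hA.1
  obtain ⟨hf, hc⟩ := finite_card_le m24CertH_complete subGen_model 3 hA.2
  have e : Subgroup.closure {y | ∃ g < m24CertH.K, subGen g = y} =
      Subgroup.closure {y | ∃ w ∈ m24CertG.subs, prodW m24Gen w = y} := by
    have hs : m24CertG.subs = [subWord 0, subWord 2] := by decide +kernel
    refine le_antisymm ((Subgroup.closure_le _).2 ?_) ((Subgroup.closure_le _).2 ?_)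
    · rintro _ ⟨g, hg, rfl⟩
      rw [show m24CertH.K = 4 from rfl] at hg
      have h0 : subGen 0 ∈ Subgroup.closure {y | ∃ w ∈ m24CertG.subs, prodW m24Gen w = y} :=
        Subgroup.subset_closure ⟨subWord 0, by simp [hs], rfl⟩
      have h2 : subGen 2 ∈ Subgroup.closure {y | ∃ w ∈ m24CertG.subs, prodW m24Gen w = y} :=
        Subgroup.subset_closure ⟨subWord 2, by simp [hs], rfl⟩
      interval_cases g
      · exact h0
      · show prodW m24Gen (m24CertG.revInv _) ∈ _
        rw [m24Gen_model.revInv_eq]; exact inv_mem h0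
      · exact h2
      · show prodW m24Gen (m24CertG.revInv _) ∈ _
        rw [m24Gen_model.revInv_eq]; exact inv_mem h2
    · rintro _ ⟨w, hw, rfl⟩
      simp only [hs, List.mem_cons, List.not_mem_nil, or_false] at hw
      rcases hw with rfl | rfl
      · exact Subgroup.subset_closure ⟨0, by decide, rfl⟩
      · exact Subgroup.subset_closure ⟨2, by decide, rfl⟩
  rw [e] at hf hc
  haveI := hf
  obtain ⟨hF, hC⟩ := finite_card_le m24CertG_complete m24Gen_model (1920 * 3) hc
  have htop : Subgroup.closure {y | ∃ g < m24CertG.K, m24Gen g = y} = ⊤ := twoGen_top m24_ok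
  rw [htop] at hF hC
  haveI : Finite M24P := Finite.of_equiv _ Subgroup.topEquiv.toEquiv
  refine ⟨inferInstance, ?_⟩
  rw [← Subgroup.card_top]
  exact hC.trans (by decide +kernel)

theorem m24Hom_range : m24Hom.range = M24 := by
  refine le_antisymm ?_ ?_
  · rintro _ ⟨x, rfl⟩
    have hx : x ∈ Subgroup.closure {y | ∃ g < m24CertG.K, m24Gen g = y} := by
      rw [show Subgroup.closure {y | ∃ g < m24CertG.K, m24Gen g = y} = ⊤ from twoGen_top m24_ok]; trivial
    induction hx using Subgroup.closure_induction with
    | mem y hy =>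
      obtain ⟨g, hg, rfl⟩ := hy
      rw [m24Hom_gen hg]; exact m24Act_mem g hg
    | one => rw [map_one]; exact one_mem _
    | mul a b _ _ ha hb => rw [map_mul]; exact mul_mem ha hb
    | inv a _ ha => rw [map_inv]; exact inv_mem ha
  · rw [← closure_eq_M24, Subgroup.closure_le]
    have hstd : ∀ i : ℕ, ∀ T : ℕ, (m24Std.getD i []).all (fun g => Nat.blt g 3) = true →
        mulP T (imgW (m24Std.getD i [])) = idPk → validP T = true → toPerm T ∈ m24Hom.range := by
      intro i T hl he hT
      have hv := imgW_spec (w := m24Std.getD i []) (by simpa [List.all_eq_true] using hl)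
      have e : toPerm T * m24Hom (prodW m24Gen (m24Std.getD i [])) = 1 := by
        rw [m24Hom_word hl, ← toPerm_mulP hT hv.1, he, toPerm_idPk]
      rw [eq_inv_of_mul_eq_one_left e]
      exact inv_mem ⟨_, rfl⟩
    rintro g (rfl | rfl | rfl)
    · rw [shift_eq]; exact hstd 0 _ (by decide +kernel) (by decide +kernel) (by decide +kernel)
    · rw [projInv_eq]; exact hstd 1 _ (by decide +kernel) (by decide +kernel) (by decide +kernel)
    · rw [cubeTwist_eq]; exact hstd 2 _ (by decide +kernel) (by decide +kernel) (by decide +kernel)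

theorem m24Hom_injective : Function.Injective m24Hom := by
  obtain ⟨hf, hc⟩ := m24P_card_le
  have hs : Function.Surjective m24Hom.rangeRestrict := m24Hom.rangeRestrict_surjective
  have e : Nat.card m24Hom.range = 244823040 := by rw [m24Hom_range, natCard_M24]
  haveI : Finite m24Hom.range := Finite.of_surjective _ hs
  have hb : Function.Bijective m24Hom.rangeRestrict := by
    rw [Nat.bijective_iff_surjective_and_card]
    exact ⟨hs, le_antisymm (hc.trans e.ge) (Nat.card_le_card_of_surjective _ hs)⟩
  exact fun u v h => hb.1 (Subtype.ext h)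

theorem m24P_iso : Nonempty (M24P ≃* M24) := by
  obtain ⟨hf, hc⟩ := m24P_card_le
  let f : M24P →* M24 := (MonoidHom.codRestrict m24Hom M24 fun x => m24Hom_range ▸ ⟨x, rfl⟩)
  have hs : Function.Surjective f := fun ⟨y, hy⟩ => by
    obtain ⟨x, rfl⟩ : y ∈ m24Hom.range := m24Hom_range ▸ hy
    exact ⟨x, rfl⟩
  have h := Nat.card_le_card_of_surjective _ hs
  rw [natCard_M24] at h
  haveI : Finite M24 := Finite.of_surjective _ hs
  refine ⟨MulEquiv.ofBijective f ?_⟩
  rw [Nat.bijective_iff_surjective_and_card]
  exact ⟨hs, le_antisymm (hc.trans natCard_M24.ge) (Nat.card_le_card_of_surjective _ hs)⟩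

end CfsgLib.J4Pres
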