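import Cfsg.Agent.Lib.J4Pres.M24Bound
import Cfsg.Agent.Lib.J4Rep.Hom
import Cfsg.Agent.Lib.Golay.MathieuFacts

/-!
The subgroup generated by x and y in the presented fourth Janko group is the Mathieu group.
-/

set_option autoImplicit false

namespace CfsgLib.J4Pres

open Cfsg CfsgLib.CosetEnum Cfsg.Spor

/-- the letters x, y, y⁻¹ in the group -/
def xyFree : FreeGroup (Fin 2) →* FreeGroup J4.Gen :=
  FreeGroup.lift fun i => if i = 0 then J4.x else J4.y

/-- the six letters in the group -/
noncomputable def gen6 (g : ℕ) : J4 :=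
  PresentedGroup.mk (coxRelators J4.edges ∪ {r | r ∈ J4.extra}) (J4Rep.free6 g)

/-- replace the inverse of x by x -/
def fold6 (g : ℕ) : ℕ := if g = 4 then 0 else g

/-- a relator as a word -/
def flatRel (k : ℕ) : List ℕ :=
  (J4Rep.relFactors.getD k []).flatMap fun f => powWord f.1 f.2

theorem gen6_fold (g : ℕ) : gen6 (fold6 g) = gen6 g := by
  unfold fold6
  split
  · next h =>
    subst h
    have hx : gen6 0 * gen6 0 = 1 := by
      rw [gen6, ← map_mul]
      exact PresentedGroup.one_of_mem (Or.inr (show J4Rep.free6 0 * J4Rep.free6 0 ∈ J4.extra by decide +kernel))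
    rw [eq_inv_of_mul_eq_one_left hx]
    simp [gen6, J4Rep.free6, J4.x]
  · rfl

theorem gen6_rels : ∀ r ∈ m24CertG.rels, prodW gen6 r = 1 := by
  have h : m24CertG.rels = (List.range 7).map fun k => (flatRel k).map fold6 := by decide +kernel
  have hx : ∀ k < 7, prodW J4Rep.free6 (flatRel k) ∈ J4.extra := by decide +kernel
  intro r hr
  obtain ⟨k, hk, rfl⟩ := List.mem_map.1 (h ▸ hr)
  have e : ∀ w : List ℕ, prodW gen6 (w.map fold6) = prodW gen6 w := by
    intro w
    induction w with
    | nil => rfl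
    | cons g w ih => rw [List.map_cons, prodW_cons, prodW_cons, ih, gen6_fold]
  rw [e]
  show prodW (fun g => PresentedGroup.mk _ (J4Rep.free6 g)) _ = 1
  rw [← map_prodW]
  exact PresentedGroup.one_of_mem (Or.inr (hx k (List.mem_range.1 hk)))

theorem xyFree_rels : ∀ r ∈ m24CertG.rels,
    PresentedGroup.mk (coxRelators J4.edges ∪ {r | r ∈ J4.extra}) (xyFree (prodW twoFree r)) = 1 := by
  intro r hr
  have hlt : m24CertG.rels.all (fun r => r.all fun g => Nat.blt g 3) = true := by decide +kernel
  simp only [List.all_eq_true, Nat.blt_eq] at hlt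
  rw [map_prodW, map_prodW, ← gen6_rels r hr]
  refine prodW_congr fun g hg => ?_
  have := hlt r hr g hg
  interval_cases g <;> simp [gen6, J4Rep.free6, xyFree, twoFree]

/-- the map onto the subgroup of x and y -/
noncomputable def toJ4 : M24P →* J4 :=
  PresentedGroup.toGroup (rels := twoRels m24CertG.rels)
    (f := fun i : Fin 2 => PresentedGroup.mk _ (if i = 0 then J4.x else J4.y)) (by
    rintro x ⟨r, hr, rfl⟩
    have e : (FreeGroup.lift fun i : Fin 2 => PresentedGroup.mk
        (coxRelators J4.edges ∪ {r | r ∈ J4.extra}) (if i = 0 then J4.x else J4.y)) =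
        (PresentedGroup.mk _).comp xyFree := by
      ext i; simp [xyFree]
    rw [e, MonoidHom.comp_apply]
    exact xyFree_rels r hr)

theorem toJ4_ne : toJ4 (m24Gen 0) ≠ 1 := by
  intro h
  have h1 : J4Rep.rho (PresentedGroup.of J4.Gen.x) = 1 := by
    have e : toJ4 (m24Gen 0) = PresentedGroup.of J4.Gen.x := by
      show PresentedGroup.toGroup _ (PresentedGroup.of 0) = _
      rw [PresentedGroup.toGroup.of]
      rfl
    rw [← e, h, map_one]
  rw [J4Rep.rho_of] at h1
  exact J4Rep.uX_ne_one h1

theorem toJ4_injective : Function.Injective toJ4 := by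
  obtain ⟨e⟩ := m24P_iso
  haveI := CfsgLib.Golay.isSimpleGroup_M24
  haveI : IsSimpleGroup M24P := e.isSimpleGroup
  rw [← MonoidHom.ker_eq_bot_iff]
  exact (toJ4.normal_ker.eq_bot_or_eq_top).resolve_right fun ht =>
    toJ4_ne (MonoidHom.mem_ker.1 (ht ▸ Subgroup.mem_top _))

/-- the subgroup generated by x and y -/
def subXY : Subgroup J4 :=
  (Subgroup.closure ({J4.x, J4.y} : Set (FreeGroup J4.Gen))).map
    (PresentedGroup.mk (coxRelators J4.edges ∪ {r | r ∈ J4.extra}))

theorem subXY_eq : subXY = toJ4.range := by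
  have h : Set.range (fun i : Fin 2 => if i = 0 then J4.x else J4.y) = {J4.x, J4.y} := by
    ext z
    simp only [Set.mem_range, Set.mem_insert_iff, Set.mem_singleton_iff]
    constructor
    · rintro ⟨i, rfl⟩; split <;> simp
    · rintro (rfl | rfl)
      exacts [⟨0, if_pos rfl⟩, ⟨1, if_neg (by decide)⟩]
  rw [subXY, MonoidHom.map_closure, ← h, ← Set.range_comp, MonoidHom.range_eq_map,
    ← PresentedGroup.closure_range_of, MonoidHom.map_closure, ← Set.range_comp]
  congr 2
  funext i
  simp [toJ4, PresentedGroup.toGroup.of]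

theorem subXY_iso : Nonempty (subXY ≃* M24) := by
  obtain ⟨e⟩ := m24P_iso
  rw [subXY_eq]
  exact ⟨(MonoidHom.ofInjective toJ4_injective).symm.trans e⟩

end CfsgLib.J4Pres
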