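import Cfsg.Agent.Lib.J4Pres.MultTwo
import Cfsg.Agent.Lib.J4Pres.InvEleven
import Cfsg.Agent.Lib.J4Pres.Lower
import Cfsg.Agent.Lib.Schur.ExtraPrime
import Cfsg.Agent.Lib.Schur.InvolutionLift

/-!
The Schur multiplier of the presented fourth Janko group is trivial.
-/

set_option autoImplicit false
set_option linter.style.haveILetI false

namespace CfsgLib.J4Pres

open Cfsg CfsgLib.Schur Cfsg.Spor

theorem index_range : toJ4.range.index = 173067389 * 2048 := by
  haveI := finite_J4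
  have h := Subgroup.card_mul_index toJ4.range
  rw [← Nat.card_congr (MonoidHom.ofInjective toJ4_injective).toEquiv, card_M24P, card_J4] at h
  omega

theorem index_zpowers {p : ℕ} (hp : p = 29 ∨ p = 31 ∨ p = 37 ∨ p = 43) {g : J4}
    (hg : orderOf g = p) : ¬ p ∣ (Subgroup.zpowers g).index := by
  have h := Subgroup.card_mul_index (Subgroup.zpowers g)
  rw [Nat.card_zpowers, hg, card_J4] at h
  rintro ⟨k, hk⟩
  rw [hk] at h
  rcases hp with rfl | rfl | rfl | rfl <;> omega

/-- The multiplier of the presented group is trivial. -/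
theorem multiplier_J4 : HasCyclicSchurMultiplier Cfsg.Spor.J4 1 := by
  haveI := finite_J4
  refine InvolLift.trivial_multiplier_of_local_two (fun ℓ hℓ h2 => ?_) fun E _ _ τ hτ hk => no_double hτ hk
  haveI := Fact.mk hℓ
  by_cases h11 : ℓ = 11
  · subst h11
    obtain ⟨hA, hB, hcd, hac, hbc, hne, hC, hja, hjb, hjc⟩ := eleven_pair
    refine ⟨Subgroup.closure {elA, elB}, fun hd => ?_, fun Γ _ _ σ hs hc z hz hzd _ =>
      ExtraPrime.preimage_commutator_inf_ker hs hc hℓ hcd hA hB hac hbc hne hja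
        (show elJ * elC = elC ^ 1 * elJ by rw [pow_one]; exact hjc) (by norm_num) hjb
        (show elJ * elC = elC ^ 1 * elJ by rw [pow_one]; exact hjc) (by norm_num) hz hzd⟩
    have h := Subgroup.card_mul_index (Subgroup.closure {elA, elB})
    rw [ExtraPrime.card_closure hℓ hcd hA hB hC hac hbc hne, card_J4] at h
    obtain ⟨k, hk⟩ := hd
    rw [hk] at h
    omega
  by_cases hbig : ℓ = 29 ∨ ℓ = 31 ∨ ℓ = 37 ∨ ℓ = 43
  · obtain ⟨g, hg⟩ := exists_prime_orderOf_dvd_card' (G := J4) ℓ (by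
      rw [card_J4]; rcases hbig with rfl | rfl | rfl | rfl <;> norm_num)
    refine ⟨Subgroup.zpowers g, index_zpowers hbig hg, fun Γ _ _ σ hs hc z hz hzd _ => ?_⟩
    simpa using CfsgLib.LyCent.cyclic_kill hc hs g z hz hzd
  refine ⟨toJ4.range, ?_, fun Γ _ _ σ hs hc z hz hzd _ => by simpa using kill_range hs hc z hz hzd⟩
  rw [index_range, show 173067389 * 2048 = 11 ^ 2 * 29 * 31 * 37 * 43 * 2 ^ 11 by norm_num]
  intro hd
  simp only [hℓ.dvd_mul] at hd
  have key : ∀ {q n : ℕ}, q.Prime → ℓ ∣ q ^ n → ℓ = q := fun hq h =>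
    (Nat.prime_dvd_prime_iff_eq hℓ hq).1 (hℓ.dvd_of_dvd_pow h)
  have key1 : ∀ {q : ℕ}, q.Prime → ℓ ∣ q → ℓ = q := fun hq h =>
    (Nat.prime_dvd_prime_iff_eq hℓ hq).1 h
  rcases hd with ((((h | h) | h) | h) | h) | h
  · exact h11 (key (by norm_num) h)
  · exact hbig (Or.inl (key1 (by norm_num) h))
  · exact hbig (Or.inr (Or.inl (key1 (by norm_num) h)))
  · exact hbig (Or.inr (Or.inr (Or.inl (key1 (by norm_num) h))))
  · exact hbig (Or.inr (Or.inr (Or.inr (key1 (by norm_num) h))))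
  · exact h2 (key Nat.prime_two h)

end CfsgLib.J4Pres
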