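import Cfsg.Agent.Lib.J4Pres.Lower
import Cfsg.Agent.Lib.TwistCoset.Orbits

/-!
The presented fourth Janko group is simple.
-/

set_option autoImplicit false

namespace CfsgLib.J4Pres

open Cfsg CfsgLib.CosetEnum CfsgLib.TwistCoset CfsgLib.Golay Cfsg.Spor

theorem toCoset_surj : Function.Surjective (TData.toCoset (M := 175) rig tw_holds) := by
  haveI := finite_PZ
  have hrun : ∀ w, (∀ g ∈ w, g < tw.C.K) → tw.C.run 0 w < tw.C.N := fun w hw => by
    change pzCertL.run 0 w < pzCertL.N
    rw [run0_eq hw]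
    exact Fin.isLt _
  have hN : tw.C.N = 15180 := pz_data.2.2.2.2.2.2.1
  have hns : tw.ns = 7 := by
    have h := tw_misc
    simp only [Bool.and_eq_true] at h
    exact Nat.eq_of_beq_eq_true h.2
  have hroots : ∀ i < tw.ns, tw.rootsOK 175 i = true := by
    rw [hns]
    intro i hi
    interval_cases i
    exacts [tw_roots0, tw_roots1, tw_roots2, tw_roots3, tw_roots4, tw_roots5, tw_roots6]
  have hreach : ∀ i < tw.ns, ∀ p < tw.C.N, tw.Reach 175 i p := by
    rw [hns, hN]
    intro i hi
    interval_cases i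
    exacts [tw_reach0 rig, tw_reach1 rig, tw_reach2 rig, tw_reach3 rig, tw_reach4 rig, tw_reach5 rig,
      tw_reach6 rig]
  exact TData.toCoset_surjective rig tw_cos tw_holds (by omega) hroots hreach hrun

/-- the sizes of the seven orbits -/
def orbSize (i : ℕ) : ℕ := [1, 15180, 3400320, 32643072, 28336, 54405120, 82575360].getD i 0

theorem index_bounds : ∀ i < 7, (tw.Kgrp pzGen 175 i).index ≤ orbSize i := by
  have h0 : (tw.Kgrp pzGen 175 0).index = 1 := by rw [Kgrp_zero, Subgroup.index_top]
  have h1 := index_of_chain k1_cOK k1_size k1_gens k1_wit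
  have h2 := index_of_chain k2_cOK k2_size k2_gens k2_wit
  have h3 := index_of_chain k3_cOK k3_size k3_gens k3_wit
  have h4 := index_of_chain k4_cOK k4_size k4_gens k4_wit
  have h5 := index_of_chain k5_cOK k5_size k5_gens k5_wit
  have h6 := index_of_chain k6_cOK k6_size k6_gens k6_wit
  intro i hi
  interval_cases i <;> simp only [orbSize, List.getD_cons_succ, List.getD_cons_zero] <;> omega

theorem orb_facts : (∀ i < 7, Nat.card (TData.orb rig i) = orbSize i) ∧
    ∀ i < 7, ∀ j < i, TData.orb rig j ≠ TData.orb rig i := by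
  haveI := finite_PZ
  have hsum := TData.index_eq_sum tw_holds toCoset_surj
  have hns : tw.ns = 7 := by
    have h := tw_misc
    simp only [Bool.and_eq_true] at h
    exact Nat.eq_of_beq_eq_true h.2
  rw [hns] at hsum
  simp only [Finset.sum_range_succ, Finset.sum_range_zero, zero_add, index_eq] at hsum
  have hle : ∀ i < 7, TData.newCard rig i ≤ orbSize i := fun i hi => by
    rcases TData.newCard_dvd (R := rig) (i := i) tw_holds with h | h
    · omega
    · exact (Nat.le_of_dvd (Nat.pos_of_ne_zero Subgroup.index_ne_zero_of_finite) h).trans (index_bounds i hi)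
  have b0 := hle 0 (by norm_num)
  have b1 := hle 1 (by norm_num)
  have b2 := hle 2 (by norm_num)
  have b3 := hle 3 (by norm_num)
  have b4 := hle 4 (by norm_num)
  have b5 := hle 5 (by norm_num)
  have b6 := hle 6 (by norm_num)
  simp only [orbSize, List.getD_cons_succ, List.getD_cons_zero] at b0 b1 b2 b3 b4 b5 b6
  have key : ∀ i < 7, TData.newCard rig i = orbSize i := fun i hi => by
    interval_cases i <;> simp only [orbSize, List.getD_cons_succ, List.getD_cons_zero] <;> omega
  have hno : ∀ i < 7, ∀ j < i, TData.orb rig j ≠ TData.orb rig i := fun i hi j hj e => by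
    have h := key i hi
    unfold TData.newCard at h
    rw [if_pos ⟨j, hj, e⟩] at h
    interval_cases i <;> simp [orbSize] at h
  refine ⟨fun i hi => ?_, hno⟩
  have h := key i hi
  unfold TData.newCard at h
  rwa [if_neg fun ⟨j, hj, e⟩ => hno i hi j hj e] at h

/-- the sum of the chosen orbit sizes -/
def subSum (b1 b2 b3 b4 b5 b6 : Bool) : ℕ :=
  1 + (bif b1 then 15180 else 0) + (bif b2 then 3400320 else 0) + (bif b3 then 32643072 else 0) +
    (bif b4 then 28336 else 0) + (bif b5 then 54405120 else 0) + (bif b6 then 82575360 else 0)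

theorem union_table : ([false, true].all fun b1 => [false, true].all fun b2 => [false, true].all fun b3 =>
    [false, true].all fun b4 => [false, true].all fun b5 => [false, true].all fun b6 =>
      !(Nat.beq (173067389 % subSum b1 b2 b3 b4 b5 b6) 0) ||
        (!b1 && !b2 && !b3 && !b4 && !b5 && !b6) || (b1 && b2 && b3 && b4 && b5 && b6)) = true := by
  decide +kernel

theorem union_check (b1 b2 b3 b4 b5 b6 : Bool) (h : subSum b1 b2 b3 b4 b5 b6 ∣ 173067389) :
    (b1 = false ∧ b2 = false ∧ b3 = false ∧ b4 = false ∧ b5 = false ∧ b6 = false) ∨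
      (b1 = true ∧ b2 = true ∧ b3 = true ∧ b4 = true ∧ b5 = true ∧ b6 = true) := by
  have hb : ∀ b : Bool, b ∈ [false, true] := by decide
  have t := union_table
  simp only [List.all_eq_true] at t
  have t' := t b1 (hb _) b2 (hb _) b3 (hb _) b4 (hb _) b5 (hb _) b6 (hb _)
  rw [Nat.mod_eq_zero_of_dvd h, Nat.beq_refl] at t'
  simpa [and_assoc] using t'

theorem finite_quot : Finite (J4 ⧸ subXYZ) := finite_index_le.1

theorem XYZ_maximal (M : Subgroup J4) (hM : subXYZ ≤ M) : M = subXYZ ∨ M = ⊤ := by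
  classical
  haveI := finite_quot
  haveI := finite_PZ
  let T : Set (J4 ⧸ subXYZ) := QuotientGroup.mk '' (M : Set J4)
  have hTm : ∀ q ∈ T, ∀ y : PZ, toH y • q ∈ T := by
    rintro _ ⟨m, hm, rfl⟩ y
    exact ⟨toH y * m, mul_mem (hM (toH_range.ge ⟨y, rfl⟩)) hm, rfl⟩
  have horbT : ∀ i, TData.pt rig i ∈ T → TData.orb rig i ⊆ T := fun i hi => by
    rintro _ ⟨y, rfl⟩
    exact hTm _ hi y
  have hns : tw.ns = 7 := by
    have h := tw_misc
    simp only [Bool.and_eq_true] at h
    exact Nat.eq_of_beq_eq_true h.2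
  let S : Finset ℕ := (Finset.range 7).filter fun i => TData.pt rig i ∈ T
  have hT : T = ⋃ i ∈ S, TData.orb rig i := by
    refine Set.Subset.antisymm (fun q hq => ?_) (Set.iUnion₂_subset fun i hi => horbT i
      (Finset.mem_filter.mp hi).2)
    obtain ⟨⟨i, y⟩, rfl⟩ := toCoset_surj q
    induction y using QuotientGroup.induction_on with
    | _ y =>
      refine Set.mem_iUnion₂.mpr ⟨i, Finset.mem_filter.mpr ⟨Finset.mem_range.mpr (hns ▸ i.2), ?_⟩, y, rfl⟩
      have e : TData.pt rig i = toH y⁻¹ • TData.toCoset rig tw_holds ⟨i, (y : PZ ⧸ _)⟩ := by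
        change _ = toH y⁻¹ • ((toH y * (TData.wst rig i)⁻¹ : J4) : J4 ⧸ subXYZ)
        rw [map_inv, MulAction.Quotient.smul_coe, smul_eq_mul, inv_mul_cancel_left]
        rfl
      rw [e]
      exact hTm _ hq _
  have hcard : Nat.card T = ∑ i ∈ S, orbSize i := by
    have hd : (S : Set ℕ).PairwiseDisjoint fun i => TData.orb rig i := by
      intro i hi j hj hne
      have hi5 := Finset.mem_range.mp (Finset.mem_filter.mp hi).1
      have hj5 := Finset.mem_range.mp (Finset.mem_filter.mp hj).1
      rcases TData.orb_eq_or_disjoint (R := rig) i j with h | h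
      · exfalso
        rcases lt_or_gt_of_ne hne with h' | h'
        · exact orb_facts.2 j hj5 i h' h
        · exact orb_facts.2 i hi5 j h' h.symm
      · exact h
    rw [hT, Nat.card_coe_set_eq, ← Finset.set_biUnion_coe,
      Set.Finite.ncard_biUnion S.finite_toSet (fun i _ => Set.toFinite _) hd, finsum_mem_coe_finset]
    refine Finset.sum_congr rfl fun i hi => ?_
    rw [← orb_facts.1 i (Finset.mem_range.mp (Finset.mem_filter.mp hi).1), Nat.card_coe_set_eq]
  have hrel : Nat.card T = subXYZ.relIndex M := by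
    let f : M ⧸ subXYZ.subgroupOf M → J4 ⧸ subXYZ := fun q => Quotient.liftOn q
      (fun m => ((m : J4) : J4 ⧸ subXYZ)) fun a b hab => by
        rw [QuotientGroup.eq]
        have hk : a⁻¹ * b ∈ subXYZ.subgroupOf M := QuotientGroup.leftRel_apply.mp hab
        exact hk
    have hf : Function.Injective f := by
      intro p q
      induction p using QuotientGroup.induction_on with
      | _ a =>
        induction q using QuotientGroup.induction_on with
        | _ b =>
          intro h
          change ((a : J4) : J4 ⧸ subXYZ) = ((b : J4) : J4 ⧸ subXYZ) at h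
          rw [QuotientGroup.eq] at h ⊢
          exact h
    have hr : Set.range f = T := by
      ext x
      constructor
      · rintro ⟨q, rfl⟩
        induction q using QuotientGroup.induction_on with
        | _ a => exact ⟨a, a.2, rfl⟩
      · rintro ⟨m, hm, rfl⟩
        exact ⟨((⟨m, hm⟩ : M) : M ⧸ subXYZ.subgroupOf M), rfl⟩
    rw [← hr, Nat.card_range_of_injective hf]
    rfl
  have hdvd : Nat.card T ∣ 173067389 := by
    rw [hrel, ← index_eq]
    exact ⟨M.index, (Subgroup.relIndex_mul_index hM).symm⟩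
  have h0 : (0 : ℕ) ∈ S := by
    refine Finset.mem_filter.mpr ⟨Finset.mem_range.mpr (by norm_num), ?_⟩
    rw [TData.pt, TData.wst_zero, inv_one]
    exact ⟨1, one_mem _, rfl⟩
  have hexp : ∑ i ∈ S, orbSize i = 1 + (bif decide (1 ∈ S) then 15180 else 0) +
      (bif decide (2 ∈ S) then 3400320 else 0) + (bif decide (3 ∈ S) then 32643072 else 0) +
      (bif decide (4 ∈ S) then 28336 else 0) + (bif decide (5 ∈ S) then 54405120 else 0) +
      (bif decide (6 ∈ S) then 82575360 else 0) := by
    have hsub : S ⊆ Finset.range 7 := Finset.filter_subset _ _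
    rw [show ∑ i ∈ S, orbSize i = ∑ i ∈ Finset.range 7, if i ∈ S then orbSize i else 0 by
      rw [← Finset.sum_filter, Finset.filter_mem_eq_inter, Finset.inter_eq_right.mpr hsub]]
    simp only [Finset.sum_range_succ, Finset.sum_range_zero, h0, if_true, zero_add, orbSize,
      List.getD_cons_succ, List.getD_cons_zero, Bool.cond_decide]
  have hmu := Subgroup.relIndex_mul_index hM
  rw [index_eq, ← hrel, hcard, hexp] at hmu
  rw [hcard, hexp] at hdvd
  change subSum _ _ _ _ _ _ ∣ _ at hdvd
  rcases union_check _ _ _ _ _ _ hdvd with ⟨h1, h2, h3, h4, h5, h6⟩ | ⟨h1, h2, h3, h4, h5, h6⟩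
  · left
    rw [h1, h2, h3, h4, h5, h6] at hexp
    rw [hrel] at hcard
    exact le_antisymm (Subgroup.relIndex_eq_one.mp (hcard.trans hexp)) hM
  · right
    rw [h1, h2, h3, h4, h5, h6] at hmu
    norm_num at hmu
    exact hmu

theorem XYZ_not_normal : ¬ subXYZ.Normal := by
  intro hn
  haveI := finite_PZ
  haveI := finite_quot
  have h := orb_facts.1 1 (by norm_num)
  have hsub : TData.orb rig 1 ⊆ {TData.pt rig 1} := by
    rintro _ ⟨y, rfl⟩
    rw [Set.mem_singleton_iff, TData.pt]
    change ((toH y * (TData.wst rig 1)⁻¹ : J4) : J4 ⧸ subXYZ) = _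
    rw [QuotientGroup.eq]
    have h2 := hn.conj_mem _ (inv_mem (toH_range.ge (⟨y, rfl⟩ : toH y ∈ toH.range))) (TData.wst rig 1)
    simpa [mul_assoc] using h2
  have h2 := Set.ncard_le_ncard hsub
  rw [Set.ncard_singleton, ← Nat.card_coe_set_eq, h] at h2
  simp [orbSize] at h2

theorem twM_ne : prodW jg twM ≠ 1 := by
  intro e
  have hok : okW twM = true := by decide +kernel
  have e1 : prodW m24Gen twM = 1 := toJ4_injective (by rw [← jg_word, e, map_one])
  have e2 := congrArg m24Hom e1
  rw [m24Hom_word hok, map_one] at e2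
  have hd : ∃ i : GolayPt, toPerm (imgW twM) i ≠ i := by decide +kernel
  obtain ⟨i, hi⟩ := hd
  exact hi (by rw [e2]; rfl)

theorem eleven_conj_M24 (g : M24P) {x : J4} (hx : x ∈ eleven) : toJ4 g * x * (toJ4 g)⁻¹ ∈ eleven :=
  toJ4_conj g hx

theorem XYZ_conj {k x : J4} (hk : k ∈ subXYZ) (hx : x ∈ eleven) : k * x * k⁻¹ ∈ eleven := by
  obtain ⟨e, he, g, rfl⟩ := XYZ_data.2.2 k hk
  have h := mul_mem (mul_mem he (eleven_conj_M24 g hx)) (inv_mem he)
  simpa [mul_assoc] using h

theorem zz_moved : ∃ x ∈ eleven, ∃ g : M24P, toJ4 g * x ≠ x * toJ4 g := by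
  refine ⟨zz, zz_mem, m24Gen 0, fun e => ?_⟩
  have hw : ∀ g ∈ [0], g < 3 := by decide
  obtain ⟨h1, h2⟩ := zeta_conj trioCertZ_complete.N_pos hw
  rw [zeta_zero, prodW_single] at h2
  have e2 : (jg 0)⁻¹ * zz * jg 0 = zz := by
    show (toJ4 (m24Gen 0))⁻¹ * zz * toJ4 (m24Gen 0) = zz
    rw [mul_assoc, ← e, inv_mul_cancel_left]
  rw [e2, ← zeta_zero, zeta_coord trioCertZ_complete.N_pos, zeta_coord h1] at h2
  have hne : coordOf 0 ≠ coordOf (trioCertZ.run 0 [0]) ∧
      coordOf 0 < 2 ^ 11 ∧ coordOf (trioCertZ.run 0 [0]) < 2 ^ 11 := by decide +kernel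
  refine elemOf_ne_one (v := coordOf 0 ^^^ coordOf (trioCertZ.run 0 [0])) ?_ ?_ ?_
  · exact fun h => hne.1 (Nat.xor_eq_zero_iff.mp h)
  · exact Nat.xor_lt_two_pow hne.2.1 hne.2.2
  · rw [elemOf_xor, h2, ← elemOf_xor, Nat.xor_self, elemOf_zero]

theorem eleven_le_normal {N : Subgroup J4} [hN : N.Normal] {x : J4} (hxN : x ∈ N) (hx : x ∈ subXYZ)
    (h1 : x ≠ 1) : eleven ≤ N := by
  have hst : XYStable N := fun y hy g _ => by
    simpa using hN.conj_mem _ hy (jg g)⁻¹
  obtain ⟨e, he, g, rfl⟩ := XYZ_data.2.2 x hx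
  by_cases hc : ∀ a ∈ eleven, (e * toJ4 g) * a = a * (e * toJ4 g)
  · by_cases hg : g = 1
    · subst hg
      rw [map_one, mul_one] at hxN h1
      exact eleven_le hst hxN he h1
    · exfalso
      obtain ⟨eq⟩ := m24P_iso
      haveI := CfsgLib.Golay.isSimpleGroup_M24
      haveI : IsSimpleGroup M24P := eq.isSimpleGroup
      let C : Subgroup M24P := (Subgroup.centralizer (eleven : Set J4)).comap toJ4
      have hmem : ∀ {y : M24P}, y ∈ C ↔ ∀ a ∈ eleven, a * toJ4 y = toJ4 y * a := fun {y} => by
        simp [C, Subgroup.mem_centralizer_iff]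
      have hCn : C.Normal := ⟨fun y hy b => by
        rw [hmem] at hy ⊢
        intro a ha
        have hb' : (toJ4 b)⁻¹ * a * toJ4 b ∈ eleven := by
          simpa using eleven_conj_M24 b⁻¹ ha
        have h' := hy _ hb'
        rw [map_mul, map_mul, map_inv]
        calc a * (toJ4 b * toJ4 y * (toJ4 b)⁻¹)
            = toJ4 b * ((toJ4 b)⁻¹ * a * toJ4 b * toJ4 y) * (toJ4 b)⁻¹ := by group
          _ = toJ4 b * (toJ4 y * ((toJ4 b)⁻¹ * a * toJ4 b)) * (toJ4 b)⁻¹ := by rw [h']
          _ = toJ4 b * toJ4 y * (toJ4 b)⁻¹ * a := by group⟩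
      have hgC : g ∈ C := hmem.mpr fun a ha => by
        have h' := hc a ha
        have hea := eleven_comm e he a ha
        have : e * (toJ4 g * a) = e * (a * toJ4 g) := by
          rw [← mul_assoc, h', ← mul_assoc, ← mul_assoc, hea]
        exact (mul_left_cancel this).symm
      rcases hCn.eq_bot_or_eq_top with h | h
      · exact hg (Subgroup.mem_bot.mp (h ▸ hgC))
      · obtain ⟨a, ha, b, hb⟩ := zz_moved
        exact hb (hmem.mp (show b ∈ C by rw [h]; trivial) a ha).symm
  · push_neg at hc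
    obtain ⟨a, ha, hne⟩ := hc
    set k := e * toJ4 g with hk
    have hin : k * a * k⁻¹ * a⁻¹ ∈ N := by
      have h' := mul_mem hxN (hN.conj_mem _ (inv_mem hxN) a)
      simpa [mul_assoc] using h'
    refine eleven_le hst hin (mul_mem (XYZ_conj hx ha) (inv_mem ha)) fun h' => hne ?_
    calc k * a = k * a * k⁻¹ * a⁻¹ * (a * k) := by group
      _ = a * k := by rw [h', one_mul]

theorem simple_J4 : IsSimpleGroup J4 := by
  haveI := finite_J4
  haveI : Nontrivial J4 := Finite.one_lt_card_iff_nontrivial.mp (by rw [card_J4]; norm_num)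
  refine ⟨fun N hN => or_iff_not_imp_left.mpr fun hne => ?_⟩
  haveI := hN
  set a := (prodW jg twG)⁻¹ * zz * prodW jg twG with ha
  have htw : okW twG = true := by decide +kernel
  have haE : a ∈ eleven := eleven_conj (okW_lt htw) zz_mem
  have hm : okW twM = true := by decide +kernel
  by_cases hb : ∃ x ∈ subXYZ, x ∈ N ∧ x ≠ 1
  · obtain ⟨x, hx, hxN, h1⟩ := hb
    have hE := eleven_le_normal hxN hx h1
    have hmN : prodW jg twM ∈ N := by
      have h' := mul_mem (hN.conj_mem _ (hE haE) tt) (inv_mem (hE haE))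
      rw [tt_inv, twist_z, mul_inv_cancel_right] at h'
      exact h'
    obtain ⟨eq⟩ := m24P_iso
    haveI := CfsgLib.Golay.isSimpleGroup_M24
    haveI : IsSimpleGroup M24P := eq.isSimpleGroup
    have hK : (N.comap toJ4) = ⊤ := (Subgroup.Normal.eq_bot_or_eq_top inferInstance).resolve_left
      fun h => twM_ne (by
        have : prodW m24Gen twM ∈ N.comap toJ4 := by rw [Subgroup.mem_comap, ← jg_word]; exact hmN
        rw [h, Subgroup.mem_bot] at this
        rw [jg_word, this, map_one])
    have hle : subXYZ ≤ N := by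
      have hg : ∀ g, jg g ∈ N := fun g => show m24Gen g ∈ N.comap toJ4 by rw [hK]; trivial
      rw [subXYZ, Subgroup.closure_le]
      rintro y (rfl | rfl | rfl)
      exacts [hg 0, hg 1, hE zz_mem]
    rcases XYZ_maximal N hle with h | h
    · exact absurd (h ▸ hN) XYZ_not_normal
    · exact h
  · push_neg at hb
    exfalso
    rcases XYZ_maximal (subXYZ ⊔ N) le_sup_left with h | h
    · refine hne ((Subgroup.eq_bot_iff_forall _).mpr fun x hx => hb x ?_ hx)
      exact (sup_eq_left.mp h) hx
    · have ht : tt ∈ subXYZ ⊔ N := h ▸ Subgroup.mem_top _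
      rw [← SetLike.mem_coe, Subgroup.mul_normal, Set.mem_mul] at ht
      obtain ⟨k, hk, n, hn, hkn⟩ := ht
      rw [SetLike.mem_coe] at hk hn
      set m := prodW jg twM
      have hmH : m ∈ subXYZ := prodW_jg_mem (okW_lt hm)
      have haH := eleven_le_XYZ haE
      have hX : k⁻¹ * (m * a) * k = n * a * n⁻¹ := by
        have h' : tt * a * tt⁻¹ = m * a := by rw [tt_inv]; exact twist_z
        rw [← h', ← hkn]; group
      have h1 := hb (k⁻¹ * (m * a) * k * a⁻¹)
        (mul_mem (mul_mem (mul_mem (inv_mem hk) (mul_mem hmH haH)) hk) (inv_mem haH))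
        (by
          rw [hX]
          have h' := mul_mem hn (hN.conj_mem _ (inv_mem hn) a)
          simpa [mul_assoc] using h')
      have hma : m * a = k * a * k⁻¹ := by
        calc m * a = k * (k⁻¹ * (m * a) * k * a⁻¹) * (a * k⁻¹) := by group
          _ = k * a * k⁻¹ := by rw [h1]; group
      have hmE : m ∈ eleven := by
        have h' := mul_mem (XYZ_conj hk haE) (inv_mem haE)
        rwa [← hma, mul_inv_cancel_right] at h'
      exact twM_ne (eleven_inf_toJ4 hmE ⟨_, (jg_word twM).symm⟩)

theorem isJ4 : Cfsg.IsJ4 J4 := ⟨simple_J4, card_J4⟩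

end CfsgLib.J4Pres
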