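import Cfsg.Agent.Lib.J4Pres.MultData
import Cfsg.Agent.Lib.J4Pres.Irred
import Cfsg.Agent.Lib.J4Pres.Simple
import Cfsg.Agent.Lib.LyCent.Kill
import Cfsg.Agent.Lib.Schur.SylowCriterion
import Cfsg.Agent.Lib.Schur.GroupCongr
import Cfsg.Agent.S2038

/-!
Double covers of the fourth Janko group split over the subgroup of x, y and z.
-/

set_option autoImplicit false
set_option linter.style.haveILetI false

open scoped commutatorElement

namespace CfsgLib.J4Pres

open Cfsg CfsgLib.CosetEnum CfsgLib.Schur Cfsg.Spor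

/-- two multiplicative maps on masks that agree on the unit vectors -/
theorem xor_maps_eq {G : Type*} [Group G] (p q : ℕ → G) (hp : ∀ a b, p (a ^^^ b) = p a * p b)
    (hq : ∀ a b, q (a ^^^ b) = q a * q b) : ∀ n, (∀ i < n, p (2 ^ i) = q (2 ^ i)) →
      ∀ a < 2 ^ n, p a = q a
  | 0, _, a, ha => by
    obtain rfl : a = 0 := by simpa using ha
    have h1 := hp 0 0
    have h2 := hq 0 0
    rw [Nat.xor_self] at h1 h2
    rw [mul_eq_left.1 h1.symm, mul_eq_left.1 h2.symm]
  | n + 1, h, a, ha => by
    have ea : a = a % 2 ^ n ^^^ (if a.testBit n then 2 ^ n else 0) := by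
      refine Nat.eq_of_testBit_eq fun i => ?_
      rw [Nat.testBit_xor, Nat.testBit_mod_two_pow]
      rcases lt_trichotomy i n with hi | hi | hi
      · split <;> simp [hi, Nat.testBit_two_pow, Nat.ne_of_gt hi]
      · subst hi; cases h : a.testBit i <;> simp
      · have : a.testBit i = false :=
          Nat.testBit_eq_false_of_lt (ha.trans_le (Nat.pow_le_pow_right (by norm_num) hi))
        split <;> simp [this, Nat.not_lt_of_gt hi, Nat.testBit_two_pow, Nat.ne_of_lt hi]
    have ih := xor_maps_eq p q hp hq n (fun i hi => h i (hi.trans n.lt_succ_self))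
    rw [ea, hp, hq, ih _ (Nat.mod_lt _ (Nat.two_pow_pos n))]
    congr 1
    split
    · exact h n n.lt_succ_self
    · exact ih 0 (Nat.two_pow_pos n)

theorem img_facts : elevenSplit.n = 11 ∧ elevenSplit.k = 3 ∧
    ((List.range 3).all fun g => (List.range 11).all fun i =>
      Nat.beq (imgE g (2 ^ i)) (elevenSplit.img g i)) = true ∧
    (elevenSplit.rels.all fun r => m24CertG.rels.contains r || r == [1, 2]) = true := by
  decide +kernel

theorem jg_op {g : ℕ} (hg : g < 3) {a : ℕ} (ha : a < 2 ^ 11) :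
    (jg g)⁻¹ * elemOf a * jg g = elemOf (elevenSplit.op g a) := by
  refine xor_maps_eq (fun v => (jg g)⁻¹ * elemOf v * jg g) (fun v => elemOf (elevenSplit.op g v))
    (fun u v => by rw [elemOf_xor]; group) (fun u v => by rw [elevenSplit.op_xor, elemOf_xor]) 11
    (fun i hi => ?_) a ha
  obtain ⟨hn, -, h, -⟩ := img_facts
  simp only [List.all_eq_true, List.mem_range] at h
  show _ = elemOf (elevenSplit.op g (2 ^ i))
  rw [elevenSplit.op_unit g i (hn ▸ hi), ← Nat.eq_of_beq_eq_true (h g hg i hi), elemOf_conj hg]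

theorem jg_rels : ∀ r ∈ elevenSplit.rels, (r.map jg).prod = 1 := by
  intro r hr
  obtain ⟨-, -, -, h⟩ := img_facts
  simp only [List.all_eq_true, Bool.or_eq_true, List.contains_iff_mem, beq_iff_eq] at h
  show prodW jg r = 1
  rcases h r hr with h1 | rfl
  · have hl : m24CertG.rels.all (fun r => r.all fun g => Nat.blt g 3) = true := by decide +kernel
    simp only [List.all_eq_true, Nat.blt_eq] at hl
    rw [jg_word, show prodW m24Gen r = 1 from ?_, map_one]
    exact m24Gen_model.rel _ h1
  · rw [jg_word, show prodW m24Gen [1, 2] = 1 from ?_, map_one]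
    simp only [prodW_cons, prodW_nil, mul_one]
    exact m24Gen_inv_mul 1

theorem range_toJ4_eq : toJ4.range = Subgroup.closure {a | ∃ g < 3, jg g = a} := by
  refine le_antisymm ?_ ((Subgroup.closure_le _).2 (by rintro _ ⟨g, -, rfl⟩; exact ⟨m24Gen g, rfl⟩))
  rw [MonoidHom.range_eq_map, ← PresentedGroup.closure_range_of, MonoidHom.map_closure,
    Subgroup.closure_le]
  rintro _ ⟨_, ⟨i, rfl⟩, rfl⟩
  refine Subgroup.subset_closure ⟨i.val, by omega, ?_⟩
  fin_cases i <;> simp [jg, m24Gen, twoFree] <;> rfl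

theorem multiplier_range : HasCyclicSchurMultiplier toJ4.range 1 := by
  obtain ⟨e⟩ := m24P_iso
  exact hasSchurMultiplier_of_mulEquiv
    (((MonoidHom.ofInjective toJ4_injective).symm.trans e)).symm Cfsg.Agent.S2038.result

theorem perfect_range : commutator toJ4.range = ⊤ := by
  obtain ⟨e⟩ := m24P_iso
  haveI := CfsgLib.Golay.isSimpleGroup_M24
  haveI : IsSimpleGroup toJ4.range :=
    ((MonoidHom.ofInjective toJ4_injective).symm.trans e).isSimpleGroup
  rcases Subgroup.Normal.eq_bot_or_eq_top (inferInstance : (commutator toJ4.range).Normal) with h | h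
  · exfalso
    refine toJ4_ne ?_
    have hab : ∀ a b : toJ4.range, a * b = b * a := fun a b => by
      have hm : ⁅a, b⁆ ∈ commutator toJ4.range :=
        Subgroup.commutator_mem_commutator (Subgroup.mem_top a) (Subgroup.mem_top b)
      rw [h, Subgroup.mem_bot, commutatorElement_eq_one_iff_commute] at hm
      exact hm.eq
    letI : CommGroup toJ4.range := { (inferInstance : Group toJ4.range) with mul_comm := hab }
    haveI : Finite M24P := m24P_card_le.1
    haveI : Finite toJ4.range := Finite.of_surjective _ toJ4.rangeRestrict_surjective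
    have hp := IsSimpleGroup.prime_card (α := toJ4.range)
    rw [Nat.card_congr ((MonoidHom.ofInjective toJ4_injective).symm.trans e).toEquiv,
      CfsgLib.Golay.natCard_M24] at hp
    norm_num at hp
  · exact h

variable {E : Type} [Group E] [Finite E] {τ : E →* J4}

theorem kill_range (hs : Function.Surjective τ) (hc : τ.ker ≤ Subgroup.center E) :
    ∀ z ∈ τ.ker, z ∈ ⁅toJ4.range.comap τ, toJ4.range.comap τ⁆ → z ^ 1 = 1 := by
  haveI : Finite M24P := m24P_card_le.1
  haveI : Finite toJ4.range := Finite.of_surjective _ toJ4.rangeRestrict_surjective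
  exact CfsgLib.LyCent.perfect_kill hs hc toJ4.range perfect_range (MonoidHom.id _)
    Function.surjective_id (by simp) fun L _ _ σ hσ hσc hL => by
      obtain ⟨f, hf⟩ := multiplier_range.2 L σ ⟨hσ, hσc, hL ▸ le_top⟩
      have h1 := Nat.card_le_card_of_surjective f hf
      rw [Nat.card_congr Multiplicative.toAdd, Nat.card_zmod] at h1
      exact h1.trans Nat.card_pos

theorem no_double (hτ : IsStemExtension τ) (h2 : Nat.card τ.ker = 2) : False := by
  obtain ⟨hs, hc, hd⟩ := hτ
  haveI := finite_J4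
  have D : InvolLift.Double τ := InvolLift.double_of_card_two ⟨hs, hc, hd⟩ h2
  have hsplit := ModuleSplit.exists_section elevenSplit elevenSplit_ok D h2 elemOf
    (fun a b => elemOf_xor a b) jg
    (fun g hg a ha => jg_op (img_facts.2.1 ▸ hg) (img_facts.1 ▸ ha)) jg_rels
  obtain ⟨s, hτs, hsmul, hsconj⟩ := hsplit
  rw [img_facts.1] at hτs hsmul
  rw [img_facts.1, img_facts.2.1] at hsconj
  have hs0 : s 0 = 1 := by
    have h := hsmul 0 (by norm_num) 0 (by norm_num)
    rw [Nat.xor_self] at h
    exact mul_eq_left.1 h.symm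
  let S : Subgroup E :=
    { carrier := {d | ∃ a < 2 ^ 11, s a = d}
      one_mem' := ⟨0, by norm_num, hs0⟩
      mul_mem' := by
        rintro _ _ ⟨a, ha, rfl⟩ ⟨b, hb, rfl⟩
        exact ⟨a ^^^ b, Nat.xor_lt_two_pow ha hb, hsmul a ha b hb⟩
      inv_mem' := by
        rintro _ ⟨a, ha, rfl⟩
        exact ⟨a, ha, eq_inv_of_mul_eq_one_left (by rw [← hsmul a ha a ha, Nat.xor_self, hs0])⟩ }
  set M := toJ4.range.comap τ with hM
  set W := subXYZ.comap τ with hW
  have hop : ∀ g a, elevenSplit.op g a < 2 ^ 11 := fun g a => by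
    have hA : (elevenSplit.A.all fun l => l.all fun v => Nat.blt v (2 ^ 11)) = true := by decide +kernel
    simp only [List.all_eq_true, Nat.blt_eq] at hA
    refine ModuleSplit.lin_lt _ (fun i => ?_) _ _
    rcases lt_or_ge g elevenSplit.A.length with hg | hg
    · rw [List.getD_eq_getElem _ _ hg]
      rcases lt_or_ge i elevenSplit.A[g].length with hi | hi
      · rw [List.getD_eq_getElem _ _ hi]; exact hA _ (List.getElem_mem hg) _ (List.getElem_mem hi)
      · rw [List.getD_eq_default _ _ hi]; exact Nat.two_pow_pos _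
    · rw [List.getD_eq_default _ _ hg]; simp
  have hne : ∀ x, τ x ∈ toJ4.range → ∀ d ∈ S, x⁻¹ * d * x ∈ S := by
    have key : ∀ y ∈ toJ4.range, ∀ x, τ x = y → ∀ d ∈ S, x⁻¹ * d * x ∈ S := by
      haveI : Finite M24P := m24P_card_le.1
      haveI : Finite toJ4.range := Finite.of_surjective _ toJ4.rangeRestrict_surjective
      intro y hy
      rw [range_toJ4_eq] at hy
      rw [← Subgroup.mem_toSubmonoid, Subgroup.closure_toSubmonoid_of_finite] at hy
      induction hy using Submonoid.closure_induction with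
      | mem y hy =>
        obtain ⟨g, hg, rfl⟩ := hy
        rintro x hx _ ⟨a, ha, rfl⟩
        exact ⟨_, hop g a, (hsconj g hg x hx a ha).symm⟩
      | one =>
        intro x hx d hd
        rwa [mul_assoc, Subgroup.mem_center_iff.1 (hc (MonoidHom.mem_ker.2 hx)) d, inv_mul_cancel_left]
      | mul u v _ _ hu hv =>
        intro x hx d hd
        obtain ⟨a, rfl⟩ := hs u
        have h2 := hv (a⁻¹ * x) (by rw [map_mul, map_inv, hx, inv_mul_cancel_left]) _ (hu a rfl d hd)
        simpa [mul_assoc] using h2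
    exact fun x hx => key _ hx x rfl
  -- the normaliser of the section
  have hnorm : M ≤ Subgroup.normalizer (S : Set E) := by
    intro x hx
    rw [Subgroup.mem_normalizer_iff]
    refine fun d => ⟨fun hd => ?_, fun hd => ?_⟩
    · have := hne x⁻¹ (by rw [map_inv]; exact inv_mem hx) d hd
      simpa using this
    · have := hne x hx _ hd
      simpa [mul_assoc] using this
  have hW_eq : ∀ x ∈ W, x ∈ (S ⊔ M : Subgroup E) := by
    intro x hx
    rw [hW, Subgroup.mem_comap] at hx
    obtain ⟨e, he, g, hem⟩ := XYZ_data.2.2 _ hx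
    obtain ⟨v, hv, rfl⟩ := exists_elemOf he
    rw [← mul_inv_cancel_left (s v) x]
    refine mul_mem (le_sup_left (a := S) ⟨v, hv, rfl⟩) (le_sup_right (b := M) ?_)
    show τ ((s v)⁻¹ * x) ∈ toJ4.range
    rw [map_mul, map_inv, hτs v hv, hem, inv_mul_cancel_left]
    exact ⟨g, rfl⟩
  -- the commutators
  have hcm : ∀ v ∈ M, ∀ d ∈ ⁅M, M⁆, v * d * v⁻¹ ∈ ⁅M, M⁆ := by
    intro v hv d hd
    rw [show v * d * v⁻¹ = ⁅v, d⁆ * d by rw [commutatorElement_def]; group]
    exact mul_mem (Subgroup.commutator_mem_commutator hv (Subgroup.commutator_le_self M hd)) hd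
  have hcomm : ⁅W, W⁆ ≤ S ⊔ ⁅M, M⁆ := by
    have hle : W ≤ Subgroup.closure ((S : Set E) ∪ (M : Set E)) := fun x hx => by
      rw [Subgroup.closure_union, Subgroup.closure_eq, Subgroup.closure_eq]; exact hW_eq x hx
    refine (Subgroup.commutator_mono hle hle).trans (CfsgLib.LyCent.commutator_closure_le ?_ ?_)
    · rintro x (hx | hx)
      · exact Subgroup.le_normalizer (le_sup_left (a := S) hx)
      · have hdm : ∀ v ∈ M, ∀ d ∈ (S ⊔ ⁅M, M⁆ : Subgroup E), v * d * v⁻¹ ∈ (S ⊔ ⁅M, M⁆ : Subgroup E) := by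
          intro v hv d hd
          rw [← Subgroup.closure_eq S, ← Subgroup.closure_eq ⁅M, M⁆, ← Subgroup.closure_union] at hd
          induction hd using Subgroup.closure_induction with
          | mem d hd =>
            rcases hd with hd | hd
            · exact le_sup_left (a := S) ((Subgroup.mem_normalizer_iff.1 (hnorm hv) _).1 hd)
            · exact le_sup_right (b := ⁅M, M⁆) (hcm v hv d hd)
          | one => simp
          | mul d d' _ _ h h' => rw [show v * (d * d') * v⁻¹ = (v * d * v⁻¹) * (v * d' * v⁻¹) by group]; exact mul_mem h h'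
          | inv d _ h => rw [show v * d⁻¹ * v⁻¹ = (v * d * v⁻¹)⁻¹ by group]; exact inv_mem h
        rw [SetLike.mem_coe, Subgroup.mem_normalizer_iff]
        refine fun d => ⟨hdm x hx d, fun hd => ?_⟩
        simpa [mul_assoc] using hdm x⁻¹ (inv_mem hx) _ hd
    · rintro x (hx | hx) y (hy | hy)
      · exact le_sup_left (a := S) (mul_mem (mul_mem (mul_mem hx hy) (inv_mem hx)) (inv_mem hy))
      · refine le_sup_left (a := S) ?_
        rw [commutatorElement_def, show x * y * x⁻¹ * y⁻¹ = x * (y * x⁻¹ * y⁻¹) by group]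
        exact mul_mem hx ((Subgroup.mem_normalizer_iff.1 (hnorm hy) _).1 (inv_mem hx))
      · refine le_sup_left (a := S) ?_
        rw [commutatorElement_def]
        exact mul_mem ((Subgroup.mem_normalizer_iff.1 (hnorm hx) _).1 hy) (inv_mem hy)
      · exact le_sup_right (b := ⁅M, M⁆) (Subgroup.commutator_mem_commutator hx hy)
  obtain ⟨z, hz1⟩ := exists_prime_orderOf_dvd_card' (G := τ.ker) 2 (h2 ▸ dvd_rfl)
  have hzne : (z : E) ≠ 1 := fun e => by
    rw [show z = 1 from Subtype.ext e, orderOf_one] at hz1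
    exact absurd hz1 (by norm_num)
  have hidx : ¬ 2 ∣ subXYZ.index := by
    rw [index_eq]; norm_num
  have hzW : (z : E) ∈ ⁅W, W⁆ := mem_commutator_preimage (a := 1) hs Nat.prime_two z.2 (hc z.2)
    (hd z.2) (by rw [pow_one, sq]; exact D.sq z.2) _ hidx
  have hzs := hcomm hzW
  have hMM : ⁅M, M⁆ ≤ M := Subgroup.commutator_le_self M
  rw [← SetLike.mem_coe, Subgroup.coe_mul_of_right_le_normalizer_left _ _ (hMM.trans hnorm)] at hzs
  obtain ⟨d, ⟨a, ha, rfl⟩, c, hc', hdc⟩ := hzs
  have h1 : τ (s a) * τ c = 1 := by rw [← map_mul, show s a * c = (z : E) from hdc]; exact z.2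
  have he : τ (s a) = 1 := by
    refine eleven_inf_toJ4 (hτs a ha ▸ elemOf_mem a) ?_
    rw [eq_inv_of_mul_eq_one_left h1]
    exact inv_mem (hMM hc')
  have ha0 : a = 0 := by
    by_contra h
    exact elemOf_ne_one h ha (hτs a ha ▸ he)
  subst ha0
  rw [hs0] at hdc
  simp only [one_mul] at hdc
  have hck := kill_range hs hc z z.2 (hdc ▸ hc')
  rw [pow_one] at hck
  exact hzne hck

end CfsgLib.J4Pres
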