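import Cfsg.Agent.Lib.J4Pres.Simple
import Cfsg.Agent.Lib.JFour.VFinal
import Cfsg.Agent.Lib.JFour.VNorm

/-!
# The seven suborbits of the normalizer of `2 ^ 11` carried along an isomorphism with the presented group
-/

set_option autoImplicit false
set_option linter.style.haveILetI false

open Cfsg

namespace CfsgLib.J4Pres

open CfsgLib.TwistCoset CfsgLib.JFour Cfsg.Spor

variable {G : Type*} [Group G] [Finite G]

omit [Finite G] in
/-- A map of the cosets along an isomorphism. -/
theorem exists_coset_map {H : Type*} [Group H] (θ : H ≃* G) {A : Subgroup H} {B : Subgroup G}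
    (h : A.map θ.toMonoidHom = B) :
    ∃ Φ : H ⧸ A → G ⧸ B, Function.Bijective Φ ∧ ∀ (k x : H), Φ (k • (x : H ⧸ A)) = θ k • Φ (x : H ⧸ A) := by
  have hmem : ∀ x, θ x ∈ B ↔ x ∈ A := fun x => by
    rw [← h, Subgroup.mem_map_equiv, MulEquiv.symm_apply_apply]
  let Φ : H ⧸ A → G ⧸ B := fun q => Quotient.liftOn q (fun x => ((θ x : G) : G ⧸ B)) fun a b hab => by
    rw [QuotientGroup.eq, ← map_inv, ← map_mul, hmem]
    exact QuotientGroup.leftRel_apply.mp hab
  refine ⟨Φ, ⟨fun p q e => ?_, fun q => ?_⟩, fun k x => ?_⟩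
  · induction p using QuotientGroup.induction_on with
    | _ a =>
      induction q using QuotientGroup.induction_on with
      | _ b =>
        change ((θ a : G) : G ⧸ B) = ((θ b : G) : G ⧸ B) at e
        rw [QuotientGroup.eq, ← map_inv, ← map_mul, hmem] at e
        exact QuotientGroup.eq.2 e
  · induction q using QuotientGroup.induction_on with
    | _ y => exact ⟨((θ.symm y : H) : H ⧸ A), by show ((θ (θ.symm y) : G) : G ⧸ B) = _; rw [θ.apply_symm_apply]⟩
  · show ((θ (k * x) : G) : G ⧸ B) = _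
    rw [map_mul]
    rfl

/-- Elementary subgroups of order `2 ^ 11` are conjugate. -/
theorem exists_conj_eleven (hJ : IsOfJankoFourType G) {A B : Subgroup G} (hA : ∀ a ∈ A, a * a = 1)
    (hAc : Nat.card ↥A = 2 ^ 11) (hB : ∀ b ∈ B, b * b = 1) (hBc : Nat.card ↥B = 2 ^ 11) :
    ∃ c : G, B = A.map (MulAut.conj c).toMonoidHom := by
  haveI := Fact.mk Nat.prime_two
  obtain ⟨S, hS⟩ := (IsPGroup.of_card (p := 2) hAc).exists_le_sylow
  obtain ⟨T, hT⟩ := (IsPGroup.of_card (p := 2) hBc).exists_le_sylow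
  obtain ⟨c, hc⟩ := MulAction.exists_smul_eq G S T
  refine ⟨c, unique11_of_type hJ T B _ T.2 hT ?_ hB ?_ hBc ?_⟩
  · rw [← hc, Sylow.coe_subgroup_smul]
    exact Subgroup.map_mono hS
  · rintro _ ⟨a, ha, rfl⟩
    rw [← map_mul, hA a ha, map_one]
  · rw [Subgroup.card_map_of_injective (MulAut.conj c).injective, hAc]

/-- The orbits in the order of the sizes. -/
def sorted : List ℕ := [0, 1, 4, 2, 3, 5, 6]

theorem rank_seven [IsSimpleGroup G] (hG : ¬ IsMulCommutative G) {z : G} (hJ : IsOfJankoFourTypeAt z)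
    (e : G ≃* J4) {V : Subgroup G} (hV : IsElementaryAbelian 2 V) (hcard : Nat.card ↥V = 2 ^ 11) :
    (Subgroup.normalizer (V : Set G)).index = 173067389 ∧ ∃ c : Fin 7 → G ⧸ Subgroup.normalizer (V : Set G),
      (∀ i j : Fin 7, i ≠ j → MulAction.orbit ↥(Subgroup.normalizer (V : Set G)) (c i) ≠
        MulAction.orbit ↥(Subgroup.normalizer (V : Set G)) (c j)) ∧
      (∀ q : G ⧸ Subgroup.normalizer (V : Set G), ∃ i : Fin 7,
        q ∈ MulAction.orbit ↥(Subgroup.normalizer (V : Set G)) (c i)) ∧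
      (List.ofFn fun i => (MulAction.orbit ↥(Subgroup.normalizer (V : Set G)) (c i)).ncard) =
        [1, 15180, 28336, 3400320, 32643072, 54405120, 82575360] := by
  classical
  haveI := finite_quot
  haveI := finite_PZ
  have hV2 : ∀ v ∈ V, v * v = 1 := fun v hv => by rw [← pow_two]; exact hV.2 v hv
  have hsq : ∀ x ∈ eleven, x * x = 1 := by
    intro x hx
    rw [eleven] at hx
    induction hx using Subgroup.closure_induction with
    | mem a ha => obtain ⟨i, -, rfl⟩ := ha; exact zeta_sq i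
    | one => exact one_mul 1
    | mul a b ha hb iha ihb =>
      calc a * b * (a * b) = a * (b * a) * b := by group
        _ = a * a * (b * b) := by rw [eleven_comm b hb a ha]; group
        _ = 1 := by rw [iha, ihb, one_mul]
    | inv a _ iha => rw [← mul_inv_rev, iha, inv_one]
  obtain ⟨c, hc⟩ := exists_conj_eleven ⟨z, hJ⟩ (A := eleven.map e.symm.toMonoidHom)
    (by rintro _ ⟨x, hx, rfl⟩; rw [← map_mul, hsq x hx, map_one])
    (by rw [Subgroup.card_map_of_injective (f := e.symm.toMonoidHom) e.symm.injective, eleven_card_eq]) hV2 hcard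
  let θ : J4 ≃* G := e.symm.trans (MulAut.conj c)
  have hθ : V = eleven.map θ.toMonoidHom := by
    rw [hc, Subgroup.map_map]; rfl
  have hNcard : Nat.card ↥(Subgroup.normalizer (V : Set G)) = 501397585920 := by
    obtain ⟨π, J, g, vec, V0, d, D, hd⟩ := exists_std hG hJ hV hcard
    have h : Nat.card ↥(Subgroup.normalizer (V : Set G)) = Nat.card ↥(Subgroup.normalizer (V0 : Set G)) := by
      rw [← Subgroup.card_map_of_injective (f := (MulAut.conj d).toMonoidHom) (MulAut.conj d).injective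
        (K := Subgroup.normalizer (V0 : Set G))]
      refine congrArg (fun S : Subgroup G => Nat.card ↥S) ?_
      ext n
      rw [mem_conj_map, hd]
      exact normalizer_conj_map
    rw [h, D.card_normalizer]; norm_num
  have hN : subXYZ.map θ.toMonoidHom = Subgroup.normalizer (V : Set G) := by
    refine Subgroup.eq_of_le_of_card_ge ?_ ?_
    · rintro _ ⟨k, hk, rfl⟩
      rw [Subgroup.mem_normalizer_iff]
      intro y
      rw [hθ]
      constructor
      · rintro ⟨x, hx, rfl⟩
        exact ⟨k * x * k⁻¹, XYZ_conj hk hx, by simp⟩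
      · rintro ⟨x, hx, he⟩
        refine ⟨k⁻¹ * x * k⁻¹⁻¹, XYZ_conj (inv_mem hk) hx, ?_⟩
        rw [inv_inv, map_mul, map_mul, map_inv, he]
        group
    · rw [Subgroup.card_map_of_injective (f := θ.toMonoidHom) θ.injective, hNcard, XYZ_data.2.1]
  obtain ⟨Φ, hΦ, hequiv⟩ := exists_coset_map θ hN
  have hidx : (Subgroup.normalizer (V : Set G)).index = 173067389 := by
    rw [Subgroup.index, ← Nat.card_congr (Equiv.ofBijective Φ hΦ)]
    exact index_eq
  have horb : ∀ i, Φ '' TData.orb rig i =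
      MulAction.orbit ↥(Subgroup.normalizer (V : Set G)) (Φ (TData.pt rig i)) := by
    intro i
    ext q
    constructor
    · rintro ⟨_, ⟨y, rfl⟩, rfl⟩
      refine ⟨⟨θ (toH y), hN.le ⟨toH y, toH_range.ge ⟨y, rfl⟩, rfl⟩⟩, ?_⟩
      exact (hequiv (toH y) _).symm
    · rintro ⟨⟨n, hn⟩, rfl⟩
      obtain ⟨k, hk, rfl⟩ := hN.ge hn
      obtain ⟨y, rfl⟩ := toH_range.le hk
      exact ⟨_, ⟨y, rfl⟩, hequiv (toH y) _⟩
  let ι : Fin 7 → ℕ := fun i => sorted.getD i 0
  have hι : ∀ i : Fin 7, ι i < 7 := by decide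
  have hinj : ∀ i j : Fin 7, i ≠ j → ι i ≠ ι j := by decide
  refine ⟨hidx, fun i => Φ (TData.pt rig (ι i)), fun i j hij h => ?_, fun q => ?_, ?_⟩
  · rw [← horb, ← horb] at h
    have h' := Set.image_injective.2 hΦ.1 h
    have hne : ι i ≠ ι j := hinj i j hij
    rcases lt_or_gt_of_ne hne with hl | hl
    · exact orb_facts.2 _ (hι j) _ hl h'
    · exact orb_facts.2 _ (hι i) _ hl h'.symm
  · obtain ⟨x, rfl⟩ := hΦ.2 q
    obtain ⟨⟨i, y⟩, rfl⟩ := toCoset_surj x
    have hns : tw.ns = 7 := by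
      have h := tw_misc
      simp only [Bool.and_eq_true] at h
      exact Nat.eq_of_beq_eq_true h.2
    induction y using QuotientGroup.induction_on with
    | _ y =>
      obtain ⟨j, hj⟩ : ∃ j : Fin 7, ι j = i := by
        have h7 : (i : ℕ) < 7 := hns ▸ i.2
        have : ∀ n : Fin 7, ∃ j : Fin 7, ι j = n := by decide
        exact this ⟨i, h7⟩
      refine ⟨j, ?_⟩
      rw [← horb, hj]
      exact ⟨_, ⟨y, rfl⟩, rfl⟩
  · have hsz : ∀ i : Fin 7, (MulAction.orbit ↥(Subgroup.normalizer (V : Set G)) (Φ (TData.pt rig (ι i)))).ncard =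
        orbSize (ι i) := fun i => by
      rw [← horb, Set.ncard_image_of_injective _ hΦ.1, ← Nat.card_coe_set_eq, orb_facts.1 _ (hι i)]
    simp only [hsz]
    decide

end CfsgLib.J4Pres
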