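import Cfsg.Agent.Lib.J4Pres.FixPair
import Cfsg.Agent.Lib.J4Pres.Cocycle
import Cfsg.Agent.S2064
import Cfsg.Prelude.Def_KGroupFacts

/-!
Every automorphism of the presented fourth Janko group is inner.
-/

set_option autoImplicit false
set_option linter.style.haveILetI false

namespace CfsgLib.J4Pres

open Cfsg CfsgLib.CosetEnum CfsgLib.Schur Cfsg.Spor
open scoped Pointwise

theorem conj_le_XYZ (A : Subgroup J4) (hA : IsPGroup 2 A) :
    ∃ g : J4, A.map (MulAut.conj g).toMonoidHom ≤ subXYZ := by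
  classical
  haveI := finite_J4
  haveI := XYZ_data.1
  haveI : Fact (Nat.Prime 2) := ⟨Nat.prime_two⟩
  let P : Sylow 2 subXYZ := default
  have fac : ∀ m : ℕ, ¬ 2 ∣ m → ∀ n, (2 ^ n * m).factorization 2 = n := by
    intro m hm n
    rw [Nat.factorization_mul (pow_ne_zero n two_ne_zero) (by rintro rfl; exact hm (dvd_zero 2)),
      Nat.Prime.factorization_pow Nat.prime_two]
    simp [Nat.factorization_eq_zero_of_not_dvd hm]
  have hcP : Nat.card (P : Subgroup subXYZ) = 2 ^ 21 := by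
    rw [P.card_eq_multiplicity, XYZ_data.2.1, show 501397585920 = 2 ^ 21 * 239085 by norm_num,
      fac 239085 (by norm_num)]
  have hcU : Nat.card ((P : Subgroup subXYZ).map subXYZ.subtype) = 2 ^ 21 := by
    rw [Subgroup.card_map_of_injective subXYZ.subtype_injective, hcP]
  let S₀ : Sylow 2 J4 := Sylow.ofCard ((P : Subgroup subXYZ).map subXYZ.subtype) (by
    rw [hcU, card_J4, show 86775571046077562880 = 2 ^ 21 * 41377816699065 by norm_num,
      fac 41377816699065 (by norm_num)])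
  obtain ⟨Q, hQ⟩ := hA.exists_le_sylow
  obtain ⟨g, hg⟩ := MulAction.exists_smul_eq J4 Q S₀
  refine ⟨g, ?_⟩
  have h1 : A.map (MulAut.conj g).toMonoidHom ≤ ((g • Q : Sylow 2 J4) : Subgroup J4) := by
    rintro _ ⟨a, ha, rfl⟩
    rw [Sylow.coe_subgroup_smul]
    exact Subgroup.mem_map.2 ⟨a, hQ ha, rfl⟩
  rw [hg] at h1
  intro x hx
  obtain ⟨y, -, rfl⟩ := h1 hx
  exact y.2

theorem eleven_exp : ∀ a ∈ eleven, a * a = 1 := by
  intro a ha
  obtain ⟨v, -, rfl⟩ := exists_elemOf ha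
  rw [← elemOf_xor, Nat.xor_self, elemOf_zero]

/-- step one: the elementary abelian subgroup can be fixed -/
theorem exists_fix_eleven (α : MulAut J4) :
    ∃ g : J4, eleven.map ((MulAut.conj g * α : MulAut J4) : J4 ≃* J4).toMonoidHom = eleven := by
  haveI := finite_J4
  have hp : IsPGroup 2 (eleven.map α.toMonoidHom) := by
    rintro ⟨_, a, ha, rfl⟩
    exact ⟨1, Subtype.ext (by
      rw [pow_one, sq]
      show α a * α a = 1
      rw [← map_mul, eleven_exp a ha, map_one])⟩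
  obtain ⟨g, hg⟩ := conj_le_XYZ _ hp
  refine ⟨g, eleven_unique ?_ ?_ ?_⟩
  · rintro _ ⟨a, ha, rfl⟩
    exact hg ⟨α a, ⟨a, ha, rfl⟩, rfl⟩
  · rintro _ ⟨a, ha, rfl⟩
    rw [← map_mul, eleven_exp a ha, map_one]
  · rw [← eleven_card_eq]
    exact (Nat.card_congr (eleven.equivMapOfInjective _ (MulEquiv.injective _)).toEquiv).symm

theorem normalizer_eleven : Subgroup.normalizer (eleven : Set J4) = subXYZ := by
  haveI := finite_J4
  have hconj : ∀ k ∈ subXYZ, ∀ x ∈ eleven, k * x * k⁻¹ ∈ eleven := fun k hk x hx => XYZ_conj hk hx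
  have hle : subXYZ ≤ Subgroup.normalizer (eleven : Set J4) := fun k hk => by
    rw [Subgroup.mem_normalizer_iff]
    exact fun x => ⟨hconj k hk x, fun h => by simpa [mul_assoc] using hconj k⁻¹ (inv_mem hk) _ h⟩
  refine (XYZ_maximal _ hle).resolve_right fun ht => ?_
  have hn : eleven.Normal := ⟨fun x hx k =>
    (Subgroup.mem_normalizer_iff.1 (ht ▸ Subgroup.mem_top k) x).1 hx⟩
  haveI := simple_J4
  rcases hn.eq_bot_or_eq_top with h | h
  · exact zz_ne_one (Subgroup.mem_bot.1 (h ▸ zz_mem))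
  · have := eleven_card_eq
    rw [h, Subgroup.card_top, card_J4] at this
    norm_num at this

theorem map_XYZ {α : MulAut J4} (h : eleven.map α.toMonoidHom = eleven) {x : J4} (hx : x ∈ subXYZ) :
    α x ∈ subXYZ := by
  rw [← normalizer_eleven] at hx ⊢
  rw [Subgroup.mem_normalizer_iff] at hx ⊢
  intro y
  obtain ⟨z, rfl⟩ := α.surjective y
  have key : ∀ w, w ∈ eleven ↔ α w ∈ eleven := fun w => by
    constructor
    · exact fun hw => h ▸ ⟨w, hw, rfl⟩
    · intro hw
      rw [← h] at hw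
      obtain ⟨v, hv, e⟩ := hw
      exact α.injective e ▸ hv
  rw [← map_mul, ← map_inv, ← map_mul, ← key, ← key]
  exact hx z

theorem proj_toJ4 (m : M24P) : projHom ⟨toJ4 m, toJ4_le_XYZ ⟨m, rfl⟩⟩ = m := by
  obtain ⟨f, hf, hx⟩ := proj_eq ⟨toJ4 m, toJ4_le_XYZ ⟨m, rfl⟩⟩
  exact (split_unique hf (one_mem _) (show f * toJ4 (proj _) = 1 * toJ4 m by rw [← hx, one_mul])).2

theorem aut_M24P_inner (φ : MulAut M24P) : ∃ m : M24P, ∀ g, φ g = m * g * m⁻¹ := by
  obtain ⟨e⟩ := m24P_iso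
  have h1 : Nat.card (Cfsg.Out ↥Cfsg.M24) = 1 := Cfsg.Agent.S2064.result
  obtain ⟨hs, -⟩ := Nat.card_eq_one_iff_unique.1 h1
  set ψ : MulAut ↥Cfsg.M24 := (e.symm.trans φ).trans e with hψ
  have hin : ψ ∈ Cfsg.Inn ↥Cfsg.M24 :=
    (QuotientGroup.eq_one_iff _).1 (Subsingleton.elim ((ψ : MulAut ↥Cfsg.M24) : Cfsg.Out ↥Cfsg.M24) 1)
  obtain ⟨q, hq⟩ := hin
  refine ⟨e.symm q, fun g => e.injective ?_⟩
  have := DFunLike.congr_fun hq (e g)
  rw [hψ] at this
  simp only [MulAut.conj_apply, MulEquiv.trans_apply, MulEquiv.symm_apply_apply] at this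
  rw [map_mul, map_mul, map_inv, MulEquiv.apply_symm_apply, this]

/-- step two: the action on the Mathieu quotient can be made trivial -/
theorem exists_fix_quotient (α : MulAut J4) (h : eleven.map α.toMonoidHom = eleven) :
    ∃ g : J4, eleven.map ((MulAut.conj g * α : MulAut J4) : J4 ≃* J4).toMonoidHom = eleven ∧
      ∀ m : M24P, ∃ e ∈ eleven, (MulAut.conj g * α : MulAut J4) (toJ4 m) = e * toJ4 m := by
  haveI := finite_J4
  haveI : Finite M24P := m24P_card_le.1
  have hX : ∀ m : M24P, α (toJ4 m) ∈ subXYZ := fun m => map_XYZ h (toJ4_le_XYZ ⟨m, rfl⟩)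
  let φ : M24P →* M24P := projHom.comp ((α.toMonoidHom.comp toJ4).codRestrict subXYZ hX)
  have hφ : Function.Injective φ := by
    rw [← MonoidHom.ker_eq_bot_iff]
    obtain ⟨e⟩ := m24P_iso
    haveI := CfsgLib.Golay.isSimpleGroup_M24
    haveI : IsSimpleGroup M24P := e.isSimpleGroup
    refine (φ.normal_ker.eq_bot_or_eq_top).resolve_right fun ht => ?_
    have hE : ∀ m, α (toJ4 m) ∈ eleven := fun m => by
      obtain ⟨e, he, hx⟩ := proj_eq ⟨α (toJ4 m), hX m⟩
      have h1 : φ m = 1 := MonoidHom.mem_ker.1 (ht ▸ Subgroup.mem_top m)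
      have h2 : α (toJ4 m) = e * toJ4 (φ m) := hx
      rw [h1, map_one, mul_one] at h2
      exact h2 ▸ he
    let f : M24P → eleven := fun m => ⟨α (toJ4 m), hE m⟩
    have hf : Function.Injective f := fun a b hab => toJ4_injective (α.injective (congrArg Subtype.val hab))
    have := Nat.card_le_card_of_injective f hf
    rw [card_M24P, eleven_card_eq] at this
    norm_num at this
  obtain ⟨m₀, hm₀⟩ := aut_M24P_inner (MulEquiv.ofBijective φ ⟨hφ, Finite.surjective_of_injective hφ⟩)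
  refine ⟨(toJ4 m₀)⁻¹, ?_, fun m => ?_⟩
  · ext x
    constructor
    · rintro ⟨a, ha, rfl⟩
      exact (by simpa using toJ4_conj' m₀ (show α a ∈ eleven from h ▸ ⟨a, ha, rfl⟩))
    · intro hx
      have h2 := toJ4_conj m₀ hx
      rw [← h] at h2
      obtain ⟨a, ha, e⟩ := h2
      refine ⟨a, ha, ?_⟩
      show (toJ4 m₀)⁻¹ * α a * ((toJ4 m₀)⁻¹)⁻¹ = x
      rw [show α a = toJ4 m₀ * x * (toJ4 m₀)⁻¹ from e]
      group
  · obtain ⟨e, he, hx⟩ := proj_eq ⟨α (toJ4 m), hX m⟩
    have h1 : φ m = m₀ * m * m₀⁻¹ := hm₀ m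
    have h2 : α (toJ4 m) = e * toJ4 (φ m) := hx
    refine ⟨_, toJ4_conj' m₀ he, ?_⟩
    show (toJ4 m₀)⁻¹ * α (toJ4 m) * ((toJ4 m₀)⁻¹)⁻¹ = _
    rw [h2, h1, map_mul, map_mul, map_inv]
    group

/-- the checks on the fixed vector of the stabiliser of z -/
noncomputable def zFixOK : Bool :=
  trioCertZ.subs.all (fun w => w.all fun g => Nat.blt g 3) &&
    (List.range 2048).all fun v => Nat.beq v 0 || Nat.beq v (coordOf 0) ||
      trioCertZ.subs.any fun w => !Nat.beq (opW w v) v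

theorem zFixOK_ok : zFixOK = true := by decide +kernel

/-- step three: the elementary abelian subgroup is fixed pointwise -/
theorem fix_pointwise {α : MulAut J4} (h : eleven.map α.toMonoidHom = eleven)
    (hq : ∀ m : M24P, ∃ e ∈ eleven, α (toJ4 m) = e * toJ4 m) : ∀ x ∈ eleven, α x = x := by
  have hcomm : ∀ (m : M24P), ∀ x ∈ eleven,
      α ((toJ4 m)⁻¹ * x * toJ4 m) = (toJ4 m)⁻¹ * α x * toJ4 m := by
    intro m x hx
    obtain ⟨e, he, hm⟩ := hq m
    have hax : α x ∈ eleven := h ▸ ⟨x, hx, rfl⟩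
    rw [map_mul, map_mul, map_inv, hm, show (e * toJ4 m)⁻¹ * α x * (e * toJ4 m) =
      (toJ4 m)⁻¹ * (e⁻¹ * (α x * e)) * toJ4 m by group, eleven_comm _ hax _ he, inv_mul_cancel_left]
  have hz : α zz = zz := by
    obtain ⟨v, hv, hvz⟩ := exists_elemOf (show α zz ∈ eleven from h ▸ ⟨zz, zz_mem, rfl⟩)
    have hok := zFixOK_ok
    simp only [zFixOK, Bool.and_eq_true, List.all_eq_true, List.mem_range, Bool.or_eq_true, List.any_eq_true,
      Bool.not_eq_true', Nat.blt_eq] at hok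
    rcases hok.2 v hv with (h0 | h0) | ⟨w, hw, h0⟩
    · exfalso
      rw [Nat.eq_of_beq_eq_true h0, elemOf_zero] at hvz
      exact zz_ne_one (α.injective (hvz.symm.trans (map_one α).symm))
    · rw [← hvz, Nat.eq_of_beq_eq_true h0, ← zeta_coord trioCertZ_complete.N_pos, zeta_zero]
    · exfalso
      have hc : Commute (prodW jg w) zz := mem_centZ.1 (zModel.sub w hw)
      have e := hcomm (prodW m24Gen w) zz zz_mem
      rw [← jg_word, show (prodW jg w)⁻¹ * zz * prodW jg w = zz by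
        rw [mul_assoc, ← hc.eq, inv_mul_cancel_left], ← hvz, elemOf_word (hok.1 w hw) hv] at e
      rw [← elemOf_inj hv (opW_lt w hv) e] at h0
      simp at h0
  intro x hx
  rw [eleven] at hx
  induction hx using Subgroup.closure_induction with
  | mem y hy =>
    obtain ⟨i, -, rfl⟩ := hy
    obtain ⟨w, hw, e⟩ := jg_coset (coreRep_mem i)
    have hm := hcomm (prodW m24Gen w) zz zz_mem
    rw [hz, ← jg_word, e] at hm
    simpa [zeta] using hm
  | one => exact map_one _
  | mul a b _ _ ha hb => rw [map_mul, ha, hb]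
  | inv a _ ha => rw [map_inv, ha]

theorem jg_invL : ∀ g < 3, jg g = (jg (invL g))⁻¹ ∧ invL g < 3 := by
  intro g hg
  have h : ∀ g < 3, m24CertG.inv g = invL g ∧ invL g < 3 := by decide +kernel
  obtain ⟨e, hl⟩ := h g hg
  refine ⟨eq_inv_of_mul_eq_one_left ?_, hl⟩
  rw [← e, jg, jg, ← map_mul, m24Gen_inv_mul, map_one]

theorem move_left {g : ℕ} (hg : g < 3) {v : ℕ} (hv : v < 2 ^ 11) :
    jg g * elemOf v = elemOf (elevenSplit.op (invL g) v) * jg g := by
  obtain ⟨e, hl⟩ := jg_invL g hg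
  rw [← jg_op hl hv, e]
  group

/-- the image of a word -/
theorem image_word {α : MulAut J4} {u : ℕ} (h0 : α (jg 0) = elemOf (u % 2 ^ 11) * jg 0)
    (h1 : α (jg 1) = elemOf (u / 2 ^ 11 % 2 ^ 11) * jg 1) :
    ∀ w : List ℕ, (∀ g ∈ w, g < 3) → α (prodW jg w) = elemOf (dVal u w) * prodW jg w
  | [], _ => by simp [dVal, elemOf_zero]
  | g :: w, hw => by
    rw [List.forall_mem_cons] at hw
    have hlet : α (jg g) = elemOf (cVal u g) * jg g := by
      have h12 : jg 2 = (jg 1)⁻¹ := (jg_invL 2 (by norm_num)).1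
      obtain ⟨g, rfl⟩ : ∃ k, g = k := ⟨g, rfl⟩
      rcases (by omega : g = 0 ∨ g = 1 ∨ g = 2) with rfl | rfl | rfl
      · exact h0
      · exact h1
      · have hb : u / 2 ^ 11 % 2 ^ 11 < 2 ^ 11 := Nat.mod_lt _ (by norm_num)
        rw [h12, map_inv, h1, show cVal u 2 = elevenSplit.op 1 (u / 2 ^ 11 % 2 ^ 11) from rfl,
          ← jg_op (by norm_num) hb, mul_inv_rev]
        have : (elemOf (u / 2 ^ 11 % 2 ^ 11))⁻¹ = elemOf (u / 2 ^ 11 % 2 ^ 11) :=
          inv_eq_of_mul_eq_one_right (eleven_exp _ (elemOf_mem _))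
        rw [this]; group
    rw [prodW_cons, map_mul, hlet, image_word h0 h1 w hw.2, dVal, elemOf_xor,
      show elemOf (cVal u g) * jg g * (elemOf (dVal u w) * prodW jg w) =
        elemOf (cVal u g) * (jg g * elemOf (dVal u w)) * prodW jg w by group,
      move_left hw.1 (dVal_lt u w)]
    group

/-- step four: both generators of the Mathieu group fixed, or moved by the other derivation -/
theorem exists_fix_generators {α : MulAut J4} (hE : ∀ x ∈ eleven, α x = x)
    (hq : ∀ m : M24P, ∃ e ∈ eleven, α (toJ4 m) = e * toJ4 m) :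
    ∃ g : J4, ∃ u, (u = 0 ∨ u = cocBeta) ∧ u < 2 ^ 22 ∧
      (MulAut.conj g * α : MulAut J4) (jg 0) = elemOf (u % 2 ^ 11) * jg 0 ∧
      (MulAut.conj g * α : MulAut J4) (jg 1) = elemOf (u / 2 ^ 11 % 2 ^ 11) * jg 1 := by
  obtain ⟨ea, hea, h0⟩ := hq (m24Gen 0)
  obtain ⟨eb, heb, h1⟩ := hq (m24Gen 1)
  obtain ⟨a, ha, rfl⟩ := exists_elemOf hea
  obtain ⟨b, hb, rfl⟩ := exists_elemOf heb
  set u := a ^^^ b <<< 11 with hu
  have hua : u % 2 ^ 11 = a := by
    rw [hu, mod_xor, Nat.mod_eq_of_lt ha, Nat.shiftLeft_eq, Nat.mul_mod_left, Nat.xor_zero]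
  have hub : u / 2 ^ 11 % 2 ^ 11 = b := by
    rw [hu, div_xor, Nat.div_eq_of_lt ha, Nat.zero_xor, Nat.shiftLeft_eq,
      Nat.mul_div_cancel _ (Nat.two_pow_pos 11), Nat.mod_eq_of_lt hb]
  have hlt : u < 2 ^ 22 := by
    refine Nat.xor_lt_two_pow (ha.trans (by norm_num)) ?_
    rw [Nat.shiftLeft_eq]
    omega
  have hw := image_word (α := α) (u := u) (by rw [hua]; exact h0) (by rw [hub]; exact h1)
  have hrel : ∀ r ∈ m24CertG.rels, dVal u r = 0 := by
    intro r hr
    have hl : m24CertG.rels.all (fun r => r.all fun g => Nat.blt g 3) = true := by decide +kernel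
    simp only [List.all_eq_true, Nat.blt_eq] at hl
    have e : prodW jg r = 1 := by rw [jg_word, m24Gen_model.rel r hr, map_one]
    have h' := hw r (hl r hr)
    rw [e, map_one, mul_one] at h'
    exact (elemOf_inj (Nat.two_pow_pos 11) (dVal_lt u r) (by rw [elemOf_zero]; exact h')).symm
  obtain ⟨e, he, hcase⟩ := coc_cases hlt hrel
  have hcob : dCob e < 2 ^ 22 := by
    refine Nat.xor_lt_two_pow ((Nat.xor_lt_two_pow he (op_lt _ _)).trans (by norm_num)) ?_
    rw [Nat.shiftLeft_eq]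
    have := Nat.xor_lt_two_pow he (op_lt 2 e)
    omega
  have inv_e : (elemOf e)⁻¹ = elemOf e := inv_eq_of_mul_eq_one_right (eleven_exp _ (elemOf_mem _))
  have ha' : (u ^^^ dCob e) % 2 ^ 11 = e ^^^ a ^^^ elevenSplit.op 0 e := by
    rw [mod_xor, hua, dCob, mod_xor, Nat.shiftLeft_eq, Nat.mul_mod_left, Nat.xor_zero,
      Nat.mod_eq_of_lt (Nat.xor_lt_two_pow he (op_lt _ _)), ← Nat.xor_assoc, Nat.xor_comm a e]
  have hb' : (u ^^^ dCob e) / 2 ^ 11 % 2 ^ 11 = e ^^^ b ^^^ elevenSplit.op 2 e := by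
    rw [div_xor, mod_xor, hub, dCob, div_xor, Nat.div_eq_of_lt (Nat.xor_lt_two_pow he (op_lt _ _)),
      Nat.zero_xor, Nat.shiftLeft_eq, Nat.mul_div_cancel _ (Nat.two_pow_pos 11),
      Nat.mod_eq_of_lt (Nat.xor_lt_two_pow he (op_lt _ _)), ← Nat.xor_assoc, Nat.xor_comm b e]
  refine ⟨elemOf e, u ^^^ dCob e, hcase, Nat.xor_lt_two_pow hlt hcob, ?_, ?_⟩
  · show elemOf e * α (jg 0) * (elemOf e)⁻¹ = _
    rw [ha', inv_e, elemOf_xor, elemOf_xor, show α (jg 0) = elemOf a * jg 0 from h0,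
      mul_assoc, mul_assoc (elemOf a), move_left (by norm_num) he, show invL 0 = 0 from rfl]
    group
  · show elemOf e * α (jg 1) * (elemOf e)⁻¹ = _
    rw [hb', inv_e, elemOf_xor, elemOf_xor, show α (jg 1) = elemOf b * jg 1 from h1,
      mul_assoc, mul_assoc (elemOf b), move_left (by norm_num) he, show invL 1 = 2 from rfl]
    group

theorem tt_ne_one : tt ≠ 1 := by
  intro e
  have h := act_tt.1
  rw [e, actV_one] at h
  exact vec_ne.1 h

/-- the words centralised by t -/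
theorem centT_words : pairR.1.1 = 0 ∧ pairR.2.1 = 0 ∧ [pairR.1.2, pairR.2.2] = trioCertT.subs ∧
    pairB.1.2 = pairR.1.2 ∧ pairB.2.2 = pairR.2.2 ∧
    (∀ g ∈ pairR.1.2, g < 3) ∧ (∀ g ∈ pairR.2.2, g < 3) := by decide +kernel

/-- Every automorphism is inner. -/
theorem aut_inner (α : MulAut J4) : ∃ g : J4, α = MulAut.conj g := by
  obtain ⟨g1, h1⟩ := exists_fix_eleven α
  obtain ⟨g2, h2, hq⟩ := exists_fix_quotient _ h1
  have hE := fix_pointwise h2 hq
  obtain ⟨g3, u, hu, -, hx, hy⟩ := exists_fix_generators hE hq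
  set β : MulAut J4 := MulAut.conj g3 * (MulAut.conj g2 * (MulAut.conj g1 * α)) with hβ
  have hw := image_word hx hy
  obtain ⟨r1, r2, hsubs, b1, b2, l1, l2⟩ := centT_words
  have ct : ∀ w ∈ trioCertT.subs, prodW jg w * tt = tt * prodW jg w := fun w hw =>
    (mem_centT.1 (trioModel.sub w hw)).eq
  have hm1 : pairR.1.2 ∈ trioCertT.subs := hsubs ▸ List.mem_cons_self
  have hm2 : pairR.2.2 ∈ trioCertT.subs := hsubs ▸ List.mem_cons_of_mem _ List.mem_cons_self
  have hsq : β tt * β tt = 1 := by rw [← map_mul, tt_sq, map_one]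
  have hne : β tt ≠ 1 := fun e => tt_ne_one (β.injective (e.trans (map_one β).symm))
  have c : ∀ w ∈ trioCertT.subs, (∀ g ∈ w, g < 3) →
      β tt * (elemOf (dVal u w) * prodW jg w) = elemOf (dVal u w) * prodW jg w * β tt := by
    intro w hw' hl
    rw [← hw w hl, ← map_mul, ← map_mul, ct w hw']
  rcases hu with rfl | rfl
  · have hz : ∀ w, dVal 0 w = 0 := fun w => by
      have := dVal_xor 0 0 w
      rw [Nat.xor_self, Nat.xor_self] at this
      exact this
    have c1 := c _ hm1 l1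
    have c2 := c _ hm2 l2
    rw [hz] at c1 c2
    have ht : β tt = tt := by
      refine invol_R hsq hne ?_ ?_
      · rw [elH, r1]; exact c1
      · rw [elH, r2]; exact c2
    have hid : β = 1 := by
      refine MulEquiv.toMonoidHom_injective (PresentedGroup.ext fun i => ?_)
      show β (PresentedGroup.of i) = PresentedGroup.of i
      cases i with
      | x => rw [← jg_zero]; simpa [elemOf_zero] using hx
      | y => rw [← jg_one]; simpa [elemOf_zero] using hy
      | t => exact ht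
    refine ⟨(g3 * (g2 * g1))⁻¹, ?_⟩
    rw [map_inv, eq_inv_iff_mul_eq_one]
    have : MulAut.conj (g3 * (g2 * g1)) * α = 1 := by
      rw [← hid, hβ, map_mul, map_mul]; group
    exact mul_eq_one_comm.1 this
  · exfalso
    obtain ⟨e1, e2⟩ := beta_pair
    have c1 := c _ hm1 l1
    have c2 := c _ hm2 l2
    rw [← b1, e1] at c1
    rw [← b2, e2] at c2
    exact invol_B hsq hne c1 c2

/-- The outer automorphism group is trivial. -/
theorem card_out : Nat.card (Cfsg.Out Cfsg.Spor.J4) = 1 := by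
  haveI : Subsingleton (Cfsg.Out J4) := by
    refine ⟨fun a b => ?_⟩
    induction a using QuotientGroup.induction_on with
    | H a =>
      induction b using QuotientGroup.induction_on with
      | H b =>
        rw [QuotientGroup.eq]
        obtain ⟨s, hs⟩ := aut_inner (a⁻¹ * b)
        exact ⟨s, hs.symm⟩
  exact Nat.card_of_subsingleton (1 : Cfsg.Out J4)

end CfsgLib.J4Pres
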