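import Cfsg.Agent.Lib.J4Pres.PzTwist
import Cfsg.Agent.Lib.J4Pres.PzTree0

/-!
Kernel checks of the reached points of one double coset.
-/

set_option autoImplicit false
set_option Elab.async false
set_option linter.style.longLine false

namespace CfsgLib.J4Pres
open CfsgLib.CosetEnum CfsgLib.TwistCoset

theorem tw_reach0_0 : tw.reachStep 175 0 (twTree0P0.map leafOf) 0 twMask0_1 = true := by decide +kernel

theorem tw_reach0_1 : tw.reachStep 175 0 (twTree0P1.map leafOf) twMask0_1 twMask0_2 = true := by decide +kernel

theorem tw_reach0_2 : tw.reachStep 175 0 (twTree0P2.map leafOf) twMask0_2 twMask0_3 = true := by decide +kernel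

theorem tw_reach0_3 : tw.reachStep 175 0 (twTree0P3.map leafOf) twMask0_3 twMask0_4 = true := by decide +kernel

theorem tw_reach0_4 : tw.reachStep 175 0 (twTree0P4.map leafOf) twMask0_4 twMask0_5 = true := by decide +kernel

theorem tw_reach0_5 : tw.reachStep 175 0 (twTree0P5.map leafOf) twMask0_5 twMask0_6 = true := by decide +kernel

theorem tw_reach0_6 : tw.reachStep 175 0 (twTree0P6.map leafOf) twMask0_6 twMask0_7 = true := by decide +kernel

theorem tw_reach0_7 : tw.reachStep 175 0 (twTree0P7.map leafOf) twMask0_7 twMask0_8 = true := by decide +kernel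

theorem tw_reach0_8 : tw.reachStep 175 0 (twTree0P8.map leafOf) twMask0_8 twMask0_9 = true := by decide +kernel

theorem tw_reach0_9 : tw.reachStep 175 0 (twTree0P9.map leafOf) twMask0_9 twMask0_10 = true := by decide +kernel

theorem tw_reach0_10 : tw.reachStep 175 0 (twTree0P10.map leafOf) twMask0_10 twMask0_11 = true := by decide +kernel

theorem tw_reach0_11 : tw.reachStep 175 0 (twTree0P11.map leafOf) twMask0_11 twMask0_12 = true := by decide +kernel

theorem tw_reach0_12 : tw.reachStep 175 0 (twTree0P12.map leafOf) twMask0_12 twMask0_13 = true := by decide +kernel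

theorem tw_reach0_13 : tw.reachStep 175 0 (twTree0P13.map leafOf) twMask0_13 twMask0_14 = true := by decide +kernel

theorem tw_reach0_14 : tw.reachStep 175 0 (twTree0P14.map leafOf) twMask0_14 twMask0_15 = true := by decide +kernel

theorem tw_reach0_15 : tw.reachStep 175 0 (twTree0P15.map leafOf) twMask0_15 twMask0_16 = true := by decide +kernel

theorem tw_reach0_16 : tw.reachStep 175 0 (twTree0P16.map leafOf) twMask0_16 twMask0_17 = true := by decide +kernel

theorem tw_reach0_17 : tw.reachStep 175 0 (twTree0P17.map leafOf) twMask0_17 twMask0_18 = true := by decide +kernel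

theorem tw_reach0_18 : tw.reachStep 175 0 (twTree0P18.map leafOf) twMask0_18 twMask0_19 = true := by decide +kernel

theorem tw_reach0_19 : tw.reachStep 175 0 (twTree0P19.map leafOf) twMask0_19 twMask0_20 = true := by decide +kernel

theorem tw_reach0_20 : tw.reachStep 175 0 (twTree0P20.map leafOf) twMask0_20 twMask0_21 = true := by decide +kernel

theorem tw_reach0_21 : tw.reachStep 175 0 (twTree0P21.map leafOf) twMask0_21 twMask0_22 = true := by decide +kernel

theorem tw_reach0_22 : tw.reachStep 175 0 (twTree0P22.map leafOf) twMask0_22 twMask0_23 = true := by decide +kernel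

theorem tw_reach0_23 : tw.reachStep 175 0 (twTree0P23.map leafOf) twMask0_23 twMask0_24 = true := by decide +kernel

theorem tw_reach0_24 : tw.reachStep 175 0 (twTree0P24.map leafOf) twMask0_24 twMask0_25 = true := by decide +kernel

theorem tw_reach0_25 : tw.reachStep 175 0 (twTree0P25.map leafOf) twMask0_25 twMask0_26 = true := by decide +kernel

theorem tw_reach0_26 : tw.reachStep 175 0 (twTree0P26.map leafOf) twMask0_26 twMask0_27 = true := by decide +kernel

theorem tw_reach0_27 : tw.reachStep 175 0 (twTree0P27.map leafOf) twMask0_27 twMask0_28 = true := by decide +kernel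

theorem tw_reach0_28 : tw.reachStep 175 0 (twTree0P28.map leafOf) twMask0_28 twMask0_29 = true := by decide +kernel

theorem tw_reach0_29 : tw.reachStep 175 0 (twTree0P29.map leafOf) twMask0_29 twMask0_30 = true := by decide +kernel

theorem tw_reach0_30 : tw.reachStep 175 0 (twTree0P30.map leafOf) twMask0_30 (2 ^ 15180 - 1) = true := by decide +kernel

theorem tw_reach0 {P G : Type*} [Group P] [Group G] {gen0 : ℕ → P} {φ : P →* G}
    {H : Subgroup G} {t : G} (R : TRig tw gen0 φ H t) : ∀ p < 15180, tw.Reach 175 0 p := by
  intro p hp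
  refine TData.reachStep_spec R tw_reach0_30 (TData.reachStep_spec R tw_reach0_29 (TData.reachStep_spec R tw_reach0_28 (TData.reachStep_spec R tw_reach0_27 (TData.reachStep_spec R tw_reach0_26 (TData.reachStep_spec R tw_reach0_25 (TData.reachStep_spec R tw_reach0_24 (TData.reachStep_spec R tw_reach0_23 (TData.reachStep_spec R tw_reach0_22 (TData.reachStep_spec R tw_reach0_21 (TData.reachStep_spec R tw_reach0_20 (TData.reachStep_spec R tw_reach0_19 (TData.reachStep_spec R tw_reach0_18 (TData.reachStep_spec R tw_reach0_17 (TData.reachStep_spec R tw_reach0_16 (TData.reachStep_spec R tw_reach0_15 (TData.reachStep_spec R tw_reach0_14 (TData.reachStep_spec R tw_reach0_13 (TData.reachStep_spec R tw_reach0_12 (TData.reachStep_spec R tw_reach0_11 (TData.reachStep_spec R tw_reach0_10 (TData.reachStep_spec R tw_reach0_9 (TData.reachStep_spec R tw_reach0_8 (TData.reachStep_spec R tw_reach0_7 (TData.reachStep_spec R tw_reach0_6 (TData.reachStep_spec R tw_reach0_5 (TData.reachStep_spec R tw_reach0_4 (TData.reachStep_spec R tw_reach0_3 (TData.reachStep_spec R tw_reach0_2 (TData.reachStep_spec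 R tw_reach0_1 (TData.reachStep_spec R tw_reach0_0 (fun q hq => absurd hq (by simp)))))))))))))))))))))))))))))))) p ?_
  rw [Nat.testBit_two_pow_sub_one, decide_eq_true hp]

end CfsgLib.J4Pres
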