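import Cfsg.Agent.Lib.J4Pres.PzTwist
import Cfsg.Agent.Lib.J4Pres.PzTree1

/-!
Kernel checks of the reached points of one double coset.
-/

set_option autoImplicit false
set_option Elab.async false
set_option linter.style.longLine false

namespace CfsgLib.J4Pres
open CfsgLib.CosetEnum CfsgLib.TwistCoset

theorem tw_reach1_0 : tw.reachStep 175 1 (twTree1P0.map leafOf) 0 twMask1_1 = true := by decide +kernel

theorem tw_reach1_1 : tw.reachStep 175 1 (twTree1P1.map leafOf) twMask1_1 twMask1_2 = true := by decide +kernel

theorem tw_reach1_2 : tw.reachStep 175 1 (twTree1P2.map leafOf) twMask1_2 twMask1_3 = true := by decide +kernel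

theorem tw_reach1_3 : tw.reachStep 175 1 (twTree1P3.map leafOf) twMask1_3 twMask1_4 = true := by decide +kernel

theorem tw_reach1_4 : tw.reachStep 175 1 (twTree1P4.map leafOf) twMask1_4 twMask1_5 = true := by decide +kernel

theorem tw_reach1_5 : tw.reachStep 175 1 (twTree1P5.map leafOf) twMask1_5 twMask1_6 = true := by decide +kernel

theorem tw_reach1_6 : tw.reachStep 175 1 (twTree1P6.map leafOf) twMask1_6 twMask1_7 = true := by decide +kernel

theorem tw_reach1_7 : tw.reachStep 175 1 (twTree1P7.map leafOf) twMask1_7 twMask1_8 = true := by decide +kernel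

theorem tw_reach1_8 : tw.reachStep 175 1 (twTree1P8.map leafOf) twMask1_8 twMask1_9 = true := by decide +kernel

theorem tw_reach1_9 : tw.reachStep 175 1 (twTree1P9.map leafOf) twMask1_9 twMask1_10 = true := by decide +kernel

theorem tw_reach1_10 : tw.reachStep 175 1 (twTree1P10.map leafOf) twMask1_10 twMask1_11 = true := by decide +kernel

theorem tw_reach1_11 : tw.reachStep 175 1 (twTree1P11.map leafOf) twMask1_11 twMask1_12 = true := by decide +kernel

theorem tw_reach1_12 : tw.reachStep 175 1 (twTree1P12.map leafOf) twMask1_12 twMask1_13 = true := by decide +kernel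

theorem tw_reach1_13 : tw.reachStep 175 1 (twTree1P13.map leafOf) twMask1_13 twMask1_14 = true := by decide +kernel

theorem tw_reach1_14 : tw.reachStep 175 1 (twTree1P14.map leafOf) twMask1_14 twMask1_15 = true := by decide +kernel

theorem tw_reach1_15 : tw.reachStep 175 1 (twTree1P15.map leafOf) twMask1_15 twMask1_16 = true := by decide +kernel

theorem tw_reach1_16 : tw.reachStep 175 1 (twTree1P16.map leafOf) twMask1_16 twMask1_17 = true := by decide +kernel

theorem tw_reach1_17 : tw.reachStep 175 1 (twTree1P17.map leafOf) twMask1_17 twMask1_18 = true := by decide +kernel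

theorem tw_reach1_18 : tw.reachStep 175 1 (twTree1P18.map leafOf) twMask1_18 twMask1_19 = true := by decide +kernel

theorem tw_reach1_19 : tw.reachStep 175 1 (twTree1P19.map leafOf) twMask1_19 twMask1_20 = true := by decide +kernel

theorem tw_reach1_20 : tw.reachStep 175 1 (twTree1P20.map leafOf) twMask1_20 twMask1_21 = true := by decide +kernel

theorem tw_reach1_21 : tw.reachStep 175 1 (twTree1P21.map leafOf) twMask1_21 twMask1_22 = true := by decide +kernel

theorem tw_reach1_22 : tw.reachStep 175 1 (twTree1P22.map leafOf) twMask1_22 twMask1_23 = true := by decide +kernel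

theorem tw_reach1_23 : tw.reachStep 175 1 (twTree1P23.map leafOf) twMask1_23 twMask1_24 = true := by decide +kernel

theorem tw_reach1_24 : tw.reachStep 175 1 (twTree1P24.map leafOf) twMask1_24 twMask1_25 = true := by decide +kernel

theorem tw_reach1_25 : tw.reachStep 175 1 (twTree1P25.map leafOf) twMask1_25 twMask1_26 = true := by decide +kernel

theorem tw_reach1_26 : tw.reachStep 175 1 (twTree1P26.map leafOf) twMask1_26 twMask1_27 = true := by decide +kernel

theorem tw_reach1_27 : tw.reachStep 175 1 (twTree1P27.map leafOf) twMask1_27 twMask1_28 = true := by decide +kernel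

theorem tw_reach1_28 : tw.reachStep 175 1 (twTree1P28.map leafOf) twMask1_28 twMask1_29 = true := by decide +kernel

theorem tw_reach1_29 : tw.reachStep 175 1 (twTree1P29.map leafOf) twMask1_29 twMask1_30 = true := by decide +kernel

theorem tw_reach1_30 : tw.reachStep 175 1 (twTree1P30.map leafOf) twMask1_30 (2 ^ 15180 - 1) = true := by decide +kernel

theorem tw_reach1 {P G : Type*} [Group P] [Group G] {gen0 : ℕ → P} {φ : P →* G}
    {H : Subgroup G} {t : G} (R : TRig tw gen0 φ H t) : ∀ p < 15180, tw.Reach 175 1 p := by
  intro p hp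
  refine TData.reachStep_spec R tw_reach1_30 (TData.reachStep_spec R tw_reach1_29 (TData.reachStep_spec R tw_reach1_28 (TData.reachStep_spec R tw_reach1_27 (TData.reachStep_spec R tw_reach1_26 (TData.reachStep_spec R tw_reach1_25 (TData.reachStep_spec R tw_reach1_24 (TData.reachStep_spec R tw_reach1_23 (TData.reachStep_spec R tw_reach1_22 (TData.reachStep_spec R tw_reach1_21 (TData.reachStep_spec R tw_reach1_20 (TData.reachStep_spec R tw_reach1_19 (TData.reachStep_spec R tw_reach1_18 (TData.reachStep_spec R tw_reach1_17 (TData.reachStep_spec R tw_reach1_16 (TData.reachStep_spec R tw_reach1_15 (TData.reachStep_spec R tw_reach1_14 (TData.reachStep_spec R tw_reach1_13 (TData.reachStep_spec R tw_reach1_12 (TData.reachStep_spec R tw_reach1_11 (TData.reachStep_spec R tw_reach1_10 (TData.reachStep_spec R tw_reach1_9 (TData.reachStep_spec R tw_reach1_8 (TData.reachStep_spec R tw_reach1_7 (TData.reachStep_spec R tw_reach1_6 (TData.reachStep_spec R tw_reach1_5 (TData.reachStep_spec R tw_reach1_4 (TData.reachStep_spec R tw_reach1_3 (TData.reachStep_spec R tw_reach1_2 (TData.reachStep_spec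 R tw_reach1_1 (TData.reachStep_spec R tw_reach1_0 (fun q hq => absurd hq (by simp)))))))))))))))))))))))))))))))) p ?_
  rw [Nat.testBit_two_pow_sub_one, decide_eq_true hp]

end CfsgLib.J4Pres
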