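import Cfsg.Agent.Lib.J4Pres.PzTwist
import Cfsg.Agent.Lib.J4Pres.PzTree2

/-!
Kernel checks of the reached points of one double coset.
-/

set_option autoImplicit false
set_option Elab.async false
set_option linter.style.longLine false

namespace CfsgLib.J4Pres
open CfsgLib.CosetEnum CfsgLib.TwistCoset

theorem tw_reach2_0 : tw.reachStep 175 2 (twTree2P0.map leafOf) 0 twMask2_1 = true := by decide +kernel

theorem tw_reach2_1 : tw.reachStep 175 2 (twTree2P1.map leafOf) twMask2_1 twMask2_2 = true := by decide +kernel

theorem tw_reach2_2 : tw.reachStep 175 2 (twTree2P2.map leafOf) twMask2_2 twMask2_3 = true := by decide +kernel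

theorem tw_reach2_3 : tw.reachStep 175 2 (twTree2P3.map leafOf) twMask2_3 twMask2_4 = true := by decide +kernel

theorem tw_reach2_4 : tw.reachStep 175 2 (twTree2P4.map leafOf) twMask2_4 twMask2_5 = true := by decide +kernel

theorem tw_reach2_5 : tw.reachStep 175 2 (twTree2P5.map leafOf) twMask2_5 twMask2_6 = true := by decide +kernel

theorem tw_reach2_6 : tw.reachStep 175 2 (twTree2P6.map leafOf) twMask2_6 twMask2_7 = true := by decide +kernel

theorem tw_reach2_7 : tw.reachStep 175 2 (twTree2P7.map leafOf) twMask2_7 twMask2_8 = true := by decide +kernel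

theorem tw_reach2_8 : tw.reachStep 175 2 (twTree2P8.map leafOf) twMask2_8 twMask2_9 = true := by decide +kernel

theorem tw_reach2_9 : tw.reachStep 175 2 (twTree2P9.map leafOf) twMask2_9 twMask2_10 = true := by decide +kernel

theorem tw_reach2_10 : tw.reachStep 175 2 (twTree2P10.map leafOf) twMask2_10 twMask2_11 = true := by decide +kernel

theorem tw_reach2_11 : tw.reachStep 175 2 (twTree2P11.map leafOf) twMask2_11 twMask2_12 = true := by decide +kernel

theorem tw_reach2_12 : tw.reachStep 175 2 (twTree2P12.map leafOf) twMask2_12 twMask2_13 = true := by decide +kernel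

theorem tw_reach2_13 : tw.reachStep 175 2 (twTree2P13.map leafOf) twMask2_13 twMask2_14 = true := by decide +kernel

theorem tw_reach2_14 : tw.reachStep 175 2 (twTree2P14.map leafOf) twMask2_14 twMask2_15 = true := by decide +kernel

theorem tw_reach2_15 : tw.reachStep 175 2 (twTree2P15.map leafOf) twMask2_15 twMask2_16 = true := by decide +kernel

theorem tw_reach2_16 : tw.reachStep 175 2 (twTree2P16.map leafOf) twMask2_16 twMask2_17 = true := by decide +kernel

theorem tw_reach2_17 : tw.reachStep 175 2 (twTree2P17.map leafOf) twMask2_17 twMask2_18 = true := by decide +kernel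

theorem tw_reach2_18 : tw.reachStep 175 2 (twTree2P18.map leafOf) twMask2_18 twMask2_19 = true := by decide +kernel

theorem tw_reach2_19 : tw.reachStep 175 2 (twTree2P19.map leafOf) twMask2_19 twMask2_20 = true := by decide +kernel

theorem tw_reach2_20 : tw.reachStep 175 2 (twTree2P20.map leafOf) twMask2_20 twMask2_21 = true := by decide +kernel

theorem tw_reach2_21 : tw.reachStep 175 2 (twTree2P21.map leafOf) twMask2_21 twMask2_22 = true := by decide +kernel

theorem tw_reach2_22 : tw.reachStep 175 2 (twTree2P22.map leafOf) twMask2_22 twMask2_23 = true := by decide +kernel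

theorem tw_reach2_23 : tw.reachStep 175 2 (twTree2P23.map leafOf) twMask2_23 twMask2_24 = true := by decide +kernel

theorem tw_reach2_24 : tw.reachStep 175 2 (twTree2P24.map leafOf) twMask2_24 twMask2_25 = true := by decide +kernel

theorem tw_reach2_25 : tw.reachStep 175 2 (twTree2P25.map leafOf) twMask2_25 twMask2_26 = true := by decide +kernel

theorem tw_reach2_26 : tw.reachStep 175 2 (twTree2P26.map leafOf) twMask2_26 twMask2_27 = true := by decide +kernel

theorem tw_reach2_27 : tw.reachStep 175 2 (twTree2P27.map leafOf) twMask2_27 twMask2_28 = true := by decide +kernel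

theorem tw_reach2_28 : tw.reachStep 175 2 (twTree2P28.map leafOf) twMask2_28 twMask2_29 = true := by decide +kernel

theorem tw_reach2_29 : tw.reachStep 175 2 (twTree2P29.map leafOf) twMask2_29 twMask2_30 = true := by decide +kernel

theorem tw_reach2_30 : tw.reachStep 175 2 (twTree2P30.map leafOf) twMask2_30 (2 ^ 15180 - 1) = true := by decide +kernel

theorem tw_reach2 {P G : Type*} [Group P] [Group G] {gen0 : ℕ → P} {φ : P →* G}
    {H : Subgroup G} {t : G} (R : TRig tw gen0 φ H t) : ∀ p < 15180, tw.Reach 175 2 p := by
  intro p hp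
  refine TData.reachStep_spec R tw_reach2_30 (TData.reachStep_spec R tw_reach2_29 (TData.reachStep_spec R tw_reach2_28 (TData.reachStep_spec R tw_reach2_27 (TData.reachStep_spec R tw_reach2_26 (TData.reachStep_spec R tw_reach2_25 (TData.reachStep_spec R tw_reach2_24 (TData.reachStep_spec R tw_reach2_23 (TData.reachStep_spec R tw_reach2_22 (TData.reachStep_spec R tw_reach2_21 (TData.reachStep_spec R tw_reach2_20 (TData.reachStep_spec R tw_reach2_19 (TData.reachStep_spec R tw_reach2_18 (TData.reachStep_spec R tw_reach2_17 (TData.reachStep_spec R tw_reach2_16 (TData.reachStep_spec R tw_reach2_15 (TData.reachStep_spec R tw_reach2_14 (TData.reachStep_spec R tw_reach2_13 (TData.reachStep_spec R tw_reach2_12 (TData.reachStep_spec R tw_reach2_11 (TData.reachStep_spec R tw_reach2_10 (TData.reachStep_spec R tw_reach2_9 (TData.reachStep_spec R tw_reach2_8 (TData.reachStep_spec R tw_reach2_7 (TData.reachStep_spec R tw_reach2_6 (TData.reachStep_spec R tw_reach2_5 (TData.reachStep_spec R tw_reach2_4 (TData.reachStep_spec R tw_reach2_3 (TData.reachStep_spec R tw_reach2_2 (TData.reachStep_spec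 R tw_reach2_1 (TData.reachStep_spec R tw_reach2_0 (fun q hq => absurd hq (by simp)))))))))))))))))))))))))))))))) p ?_
  rw [Nat.testBit_two_pow_sub_one, decide_eq_true hp]

end CfsgLib.J4Pres
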