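import Cfsg.Agent.Lib.J4Pres.PzTwist
import Cfsg.Agent.Lib.J4Pres.PzTree3

/-!
Kernel checks of the reached points of one double coset.
-/

set_option autoImplicit false
set_option Elab.async false
set_option linter.style.longLine false

namespace CfsgLib.J4Pres
open CfsgLib.CosetEnum CfsgLib.TwistCoset

theorem tw_reach3_0 : tw.reachStep 175 3 (twTree3P0.map leafOf) 0 twMask3_1 = true := by decide +kernel

theorem tw_reach3_1 : tw.reachStep 175 3 (twTree3P1.map leafOf) twMask3_1 twMask3_2 = true := by decide +kernel

theorem tw_reach3_2 : tw.reachStep 175 3 (twTree3P2.map leafOf) twMask3_2 twMask3_3 = true := by decide +kernel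

theorem tw_reach3_3 : tw.reachStep 175 3 (twTree3P3.map leafOf) twMask3_3 twMask3_4 = true := by decide +kernel

theorem tw_reach3_4 : tw.reachStep 175 3 (twTree3P4.map leafOf) twMask3_4 twMask3_5 = true := by decide +kernel

theorem tw_reach3_5 : tw.reachStep 175 3 (twTree3P5.map leafOf) twMask3_5 twMask3_6 = true := by decide +kernel

theorem tw_reach3_6 : tw.reachStep 175 3 (twTree3P6.map leafOf) twMask3_6 twMask3_7 = true := by decide +kernel

theorem tw_reach3_7 : tw.reachStep 175 3 (twTree3P7.map leafOf) twMask3_7 twMask3_8 = true := by decide +kernel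

theorem tw_reach3_8 : tw.reachStep 175 3 (twTree3P8.map leafOf) twMask3_8 twMask3_9 = true := by decide +kernel

theorem tw_reach3_9 : tw.reachStep 175 3 (twTree3P9.map leafOf) twMask3_9 twMask3_10 = true := by decide +kernel

theorem tw_reach3_10 : tw.reachStep 175 3 (twTree3P10.map leafOf) twMask3_10 twMask3_11 = true := by decide +kernel

theorem tw_reach3_11 : tw.reachStep 175 3 (twTree3P11.map leafOf) twMask3_11 twMask3_12 = true := by decide +kernel

theorem tw_reach3_12 : tw.reachStep 175 3 (twTree3P12.map leafOf) twMask3_12 twMask3_13 = true := by decide +kernel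

theorem tw_reach3_13 : tw.reachStep 175 3 (twTree3P13.map leafOf) twMask3_13 twMask3_14 = true := by decide +kernel

theorem tw_reach3_14 : tw.reachStep 175 3 (twTree3P14.map leafOf) twMask3_14 twMask3_15 = true := by decide +kernel

theorem tw_reach3_15 : tw.reachStep 175 3 (twTree3P15.map leafOf) twMask3_15 twMask3_16 = true := by decide +kernel

theorem tw_reach3_16 : tw.reachStep 175 3 (twTree3P16.map leafOf) twMask3_16 twMask3_17 = true := by decide +kernel

theorem tw_reach3_17 : tw.reachStep 175 3 (twTree3P17.map leafOf) twMask3_17 twMask3_18 = true := by decide +kernel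

theorem tw_reach3_18 : tw.reachStep 175 3 (twTree3P18.map leafOf) twMask3_18 twMask3_19 = true := by decide +kernel

theorem tw_reach3_19 : tw.reachStep 175 3 (twTree3P19.map leafOf) twMask3_19 twMask3_20 = true := by decide +kernel

theorem tw_reach3_20 : tw.reachStep 175 3 (twTree3P20.map leafOf) twMask3_20 twMask3_21 = true := by decide +kernel

theorem tw_reach3_21 : tw.reachStep 175 3 (twTree3P21.map leafOf) twMask3_21 twMask3_22 = true := by decide +kernel

theorem tw_reach3_22 : tw.reachStep 175 3 (twTree3P22.map leafOf) twMask3_22 twMask3_23 = true := by decide +kernel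

theorem tw_reach3_23 : tw.reachStep 175 3 (twTree3P23.map leafOf) twMask3_23 twMask3_24 = true := by decide +kernel

theorem tw_reach3_24 : tw.reachStep 175 3 (twTree3P24.map leafOf) twMask3_24 twMask3_25 = true := by decide +kernel

theorem tw_reach3_25 : tw.reachStep 175 3 (twTree3P25.map leafOf) twMask3_25 twMask3_26 = true := by decide +kernel

theorem tw_reach3_26 : tw.reachStep 175 3 (twTree3P26.map leafOf) twMask3_26 twMask3_27 = true := by decide +kernel

theorem tw_reach3_27 : tw.reachStep 175 3 (twTree3P27.map leafOf) twMask3_27 twMask3_28 = true := by decide +kernel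

theorem tw_reach3_28 : tw.reachStep 175 3 (twTree3P28.map leafOf) twMask3_28 twMask3_29 = true := by decide +kernel

theorem tw_reach3_29 : tw.reachStep 175 3 (twTree3P29.map leafOf) twMask3_29 twMask3_30 = true := by decide +kernel

theorem tw_reach3_30 : tw.reachStep 175 3 (twTree3P30.map leafOf) twMask3_30 (2 ^ 15180 - 1) = true := by decide +kernel

theorem tw_reach3 {P G : Type*} [Group P] [Group G] {gen0 : ℕ → P} {φ : P →* G}
    {H : Subgroup G} {t : G} (R : TRig tw gen0 φ H t) : ∀ p < 15180, tw.Reach 175 3 p := by
  intro p hp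
  refine TData.reachStep_spec R tw_reach3_30 (TData.reachStep_spec R tw_reach3_29 (TData.reachStep_spec R tw_reach3_28 (TData.reachStep_spec R tw_reach3_27 (TData.reachStep_spec R tw_reach3_26 (TData.reachStep_spec R tw_reach3_25 (TData.reachStep_spec R tw_reach3_24 (TData.reachStep_spec R tw_reach3_23 (TData.reachStep_spec R tw_reach3_22 (TData.reachStep_spec R tw_reach3_21 (TData.reachStep_spec R tw_reach3_20 (TData.reachStep_spec R tw_reach3_19 (TData.reachStep_spec R tw_reach3_18 (TData.reachStep_spec R tw_reach3_17 (TData.reachStep_spec R tw_reach3_16 (TData.reachStep_spec R tw_reach3_15 (TData.reachStep_spec R tw_reach3_14 (TData.reachStep_spec R tw_reach3_13 (TData.reachStep_spec R tw_reach3_12 (TData.reachStep_spec R tw_reach3_11 (TData.reachStep_spec R tw_reach3_10 (TData.reachStep_spec R tw_reach3_9 (TData.reachStep_spec R tw_reach3_8 (TData.reachStep_spec R tw_reach3_7 (TData.reachStep_spec R tw_reach3_6 (TData.reachStep_spec R tw_reach3_5 (TData.reachStep_spec R tw_reach3_4 (TData.reachStep_spec R tw_reach3_3 (TData.reachStep_spec R tw_reach3_2 (TData.reachStep_spec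 R tw_reach3_1 (TData.reachStep_spec R tw_reach3_0 (fun q hq => absurd hq (by simp)))))))))))))))))))))))))))))))) p ?_
  rw [Nat.testBit_two_pow_sub_one, decide_eq_true hp]

end CfsgLib.J4Pres
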