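import Cfsg.Agent.Lib.J4Pres.PzTwist
import Cfsg.Agent.Lib.J4Pres.PzTree4

/-!
Kernel checks of the reached points of one double coset.
-/

set_option autoImplicit false
set_option Elab.async false
set_option linter.style.longLine false

namespace CfsgLib.J4Pres
open CfsgLib.CosetEnum CfsgLib.TwistCoset

theorem tw_reach4_0 : tw.reachStep 175 4 (twTree4P0.map leafOf) 0 twMask4_1 = true := by decide +kernel

theorem tw_reach4_1 : tw.reachStep 175 4 (twTree4P1.map leafOf) twMask4_1 twMask4_2 = true := by decide +kernel

theorem tw_reach4_2 : tw.reachStep 175 4 (twTree4P2.map leafOf) twMask4_2 twMask4_3 = true := by decide +kernel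

theorem tw_reach4_3 : tw.reachStep 175 4 (twTree4P3.map leafOf) twMask4_3 twMask4_4 = true := by decide +kernel

theorem tw_reach4_4 : tw.reachStep 175 4 (twTree4P4.map leafOf) twMask4_4 twMask4_5 = true := by decide +kernel

theorem tw_reach4_5 : tw.reachStep 175 4 (twTree4P5.map leafOf) twMask4_5 twMask4_6 = true := by decide +kernel

theorem tw_reach4_6 : tw.reachStep 175 4 (twTree4P6.map leafOf) twMask4_6 twMask4_7 = true := by decide +kernel

theorem tw_reach4_7 : tw.reachStep 175 4 (twTree4P7.map leafOf) twMask4_7 twMask4_8 = true := by decide +kernel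

theorem tw_reach4_8 : tw.reachStep 175 4 (twTree4P8.map leafOf) twMask4_8 twMask4_9 = true := by decide +kernel

theorem tw_reach4_9 : tw.reachStep 175 4 (twTree4P9.map leafOf) twMask4_9 twMask4_10 = true := by decide +kernel

theorem tw_reach4_10 : tw.reachStep 175 4 (twTree4P10.map leafOf) twMask4_10 twMask4_11 = true := by decide +kernel

theorem tw_reach4_11 : tw.reachStep 175 4 (twTree4P11.map leafOf) twMask4_11 twMask4_12 = true := by decide +kernel

theorem tw_reach4_12 : tw.reachStep 175 4 (twTree4P12.map leafOf) twMask4_12 twMask4_13 = true := by decide +kernel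

theorem tw_reach4_13 : tw.reachStep 175 4 (twTree4P13.map leafOf) twMask4_13 twMask4_14 = true := by decide +kernel

theorem tw_reach4_14 : tw.reachStep 175 4 (twTree4P14.map leafOf) twMask4_14 twMask4_15 = true := by decide +kernel

theorem tw_reach4_15 : tw.reachStep 175 4 (twTree4P15.map leafOf) twMask4_15 twMask4_16 = true := by decide +kernel

theorem tw_reach4_16 : tw.reachStep 175 4 (twTree4P16.map leafOf) twMask4_16 twMask4_17 = true := by decide +kernel

theorem tw_reach4_17 : tw.reachStep 175 4 (twTree4P17.map leafOf) twMask4_17 twMask4_18 = true := by decide +kernel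

theorem tw_reach4_18 : tw.reachStep 175 4 (twTree4P18.map leafOf) twMask4_18 twMask4_19 = true := by decide +kernel

theorem tw_reach4_19 : tw.reachStep 175 4 (twTree4P19.map leafOf) twMask4_19 twMask4_20 = true := by decide +kernel

theorem tw_reach4_20 : tw.reachStep 175 4 (twTree4P20.map leafOf) twMask4_20 twMask4_21 = true := by decide +kernel

theorem tw_reach4_21 : tw.reachStep 175 4 (twTree4P21.map leafOf) twMask4_21 twMask4_22 = true := by decide +kernel

theorem tw_reach4_22 : tw.reachStep 175 4 (twTree4P22.map leafOf) twMask4_22 twMask4_23 = true := by decide +kernel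

theorem tw_reach4_23 : tw.reachStep 175 4 (twTree4P23.map leafOf) twMask4_23 twMask4_24 = true := by decide +kernel

theorem tw_reach4_24 : tw.reachStep 175 4 (twTree4P24.map leafOf) twMask4_24 twMask4_25 = true := by decide +kernel

theorem tw_reach4_25 : tw.reachStep 175 4 (twTree4P25.map leafOf) twMask4_25 twMask4_26 = true := by decide +kernel

theorem tw_reach4_26 : tw.reachStep 175 4 (twTree4P26.map leafOf) twMask4_26 twMask4_27 = true := by decide +kernel

theorem tw_reach4_27 : tw.reachStep 175 4 (twTree4P27.map leafOf) twMask4_27 twMask4_28 = true := by decide +kernel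

theorem tw_reach4_28 : tw.reachStep 175 4 (twTree4P28.map leafOf) twMask4_28 twMask4_29 = true := by decide +kernel

theorem tw_reach4_29 : tw.reachStep 175 4 (twTree4P29.map leafOf) twMask4_29 twMask4_30 = true := by decide +kernel

theorem tw_reach4_30 : tw.reachStep 175 4 (twTree4P30.map leafOf) twMask4_30 (2 ^ 15180 - 1) = true := by decide +kernel

theorem tw_reach4 {P G : Type*} [Group P] [Group G] {gen0 : ℕ → P} {φ : P →* G}
    {H : Subgroup G} {t : G} (R : TRig tw gen0 φ H t) : ∀ p < 15180, tw.Reach 175 4 p := by
  intro p hp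
  refine TData.reachStep_spec R tw_reach4_30 (TData.reachStep_spec R tw_reach4_29 (TData.reachStep_spec R tw_reach4_28 (TData.reachStep_spec R tw_reach4_27 (TData.reachStep_spec R tw_reach4_26 (TData.reachStep_spec R tw_reach4_25 (TData.reachStep_spec R tw_reach4_24 (TData.reachStep_spec R tw_reach4_23 (TData.reachStep_spec R tw_reach4_22 (TData.reachStep_spec R tw_reach4_21 (TData.reachStep_spec R tw_reach4_20 (TData.reachStep_spec R tw_reach4_19 (TData.reachStep_spec R tw_reach4_18 (TData.reachStep_spec R tw_reach4_17 (TData.reachStep_spec R tw_reach4_16 (TData.reachStep_spec R tw_reach4_15 (TData.reachStep_spec R tw_reach4_14 (TData.reachStep_spec R tw_reach4_13 (TData.reachStep_spec R tw_reach4_12 (TData.reachStep_spec R tw_reach4_11 (TData.reachStep_spec R tw_reach4_10 (TData.reachStep_spec R tw_reach4_9 (TData.reachStep_spec R tw_reach4_8 (TData.reachStep_spec R tw_reach4_7 (TData.reachStep_spec R tw_reach4_6 (TData.reachStep_spec R tw_reach4_5 (TData.reachStep_spec R tw_reach4_4 (TData.reachStep_spec R tw_reach4_3 (TData.reachStep_spec R tw_reach4_2 (TData.reachStep_spec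 R tw_reach4_1 (TData.reachStep_spec R tw_reach4_0 (fun q hq => absurd hq (by simp)))))))))))))))))))))))))))))))) p ?_
  rw [Nat.testBit_two_pow_sub_one, decide_eq_true hp]

end CfsgLib.J4Pres
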