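import Cfsg.Agent.Lib.J4Pres.PzTwist
import Cfsg.Agent.Lib.J4Pres.PzTree6

/-!
Kernel checks of the reached points of one double coset.
-/

set_option autoImplicit false
set_option Elab.async false
set_option linter.style.longLine false

namespace CfsgLib.J4Pres
open CfsgLib.CosetEnum CfsgLib.TwistCoset

theorem tw_reach6_0 : tw.reachStep 175 6 (twTree6P0.map leafOf) 0 twMask6_1 = true := by decide +kernel

theorem tw_reach6_1 : tw.reachStep 175 6 (twTree6P1.map leafOf) twMask6_1 twMask6_2 = true := by decide +kernel

theorem tw_reach6_2 : tw.reachStep 175 6 (twTree6P2.map leafOf) twMask6_2 twMask6_3 = true := by decide +kernel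

theorem tw_reach6_3 : tw.reachStep 175 6 (twTree6P3.map leafOf) twMask6_3 twMask6_4 = true := by decide +kernel

theorem tw_reach6_4 : tw.reachStep 175 6 (twTree6P4.map leafOf) twMask6_4 twMask6_5 = true := by decide +kernel

theorem tw_reach6_5 : tw.reachStep 175 6 (twTree6P5.map leafOf) twMask6_5 twMask6_6 = true := by decide +kernel

theorem tw_reach6_6 : tw.reachStep 175 6 (twTree6P6.map leafOf) twMask6_6 twMask6_7 = true := by decide +kernel

theorem tw_reach6_7 : tw.reachStep 175 6 (twTree6P7.map leafOf) twMask6_7 twMask6_8 = true := by decide +kernel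

theorem tw_reach6_8 : tw.reachStep 175 6 (twTree6P8.map leafOf) twMask6_8 twMask6_9 = true := by decide +kernel

theorem tw_reach6_9 : tw.reachStep 175 6 (twTree6P9.map leafOf) twMask6_9 twMask6_10 = true := by decide +kernel

theorem tw_reach6_10 : tw.reachStep 175 6 (twTree6P10.map leafOf) twMask6_10 twMask6_11 = true := by decide +kernel

theorem tw_reach6_11 : tw.reachStep 175 6 (twTree6P11.map leafOf) twMask6_11 twMask6_12 = true := by decide +kernel

theorem tw_reach6_12 : tw.reachStep 175 6 (twTree6P12.map leafOf) twMask6_12 twMask6_13 = true := by decide +kernel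

theorem tw_reach6_13 : tw.reachStep 175 6 (twTree6P13.map leafOf) twMask6_13 twMask6_14 = true := by decide +kernel

theorem tw_reach6_14 : tw.reachStep 175 6 (twTree6P14.map leafOf) twMask6_14 twMask6_15 = true := by decide +kernel

theorem tw_reach6_15 : tw.reachStep 175 6 (twTree6P15.map leafOf) twMask6_15 twMask6_16 = true := by decide +kernel

theorem tw_reach6_16 : tw.reachStep 175 6 (twTree6P16.map leafOf) twMask6_16 twMask6_17 = true := by decide +kernel

theorem tw_reach6_17 : tw.reachStep 175 6 (twTree6P17.map leafOf) twMask6_17 twMask6_18 = true := by decide +kernel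

theorem tw_reach6_18 : tw.reachStep 175 6 (twTree6P18.map leafOf) twMask6_18 twMask6_19 = true := by decide +kernel

theorem tw_reach6_19 : tw.reachStep 175 6 (twTree6P19.map leafOf) twMask6_19 twMask6_20 = true := by decide +kernel

theorem tw_reach6_20 : tw.reachStep 175 6 (twTree6P20.map leafOf) twMask6_20 twMask6_21 = true := by decide +kernel

theorem tw_reach6_21 : tw.reachStep 175 6 (twTree6P21.map leafOf) twMask6_21 twMask6_22 = true := by decide +kernel

theorem tw_reach6_22 : tw.reachStep 175 6 (twTree6P22.map leafOf) twMask6_22 twMask6_23 = true := by decide +kernel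

theorem tw_reach6_23 : tw.reachStep 175 6 (twTree6P23.map leafOf) twMask6_23 twMask6_24 = true := by decide +kernel

theorem tw_reach6_24 : tw.reachStep 175 6 (twTree6P24.map leafOf) twMask6_24 twMask6_25 = true := by decide +kernel

theorem tw_reach6_25 : tw.reachStep 175 6 (twTree6P25.map leafOf) twMask6_25 twMask6_26 = true := by decide +kernel

theorem tw_reach6_26 : tw.reachStep 175 6 (twTree6P26.map leafOf) twMask6_26 twMask6_27 = true := by decide +kernel

theorem tw_reach6_27 : tw.reachStep 175 6 (twTree6P27.map leafOf) twMask6_27 twMask6_28 = true := by decide +kernel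

theorem tw_reach6_28 : tw.reachStep 175 6 (twTree6P28.map leafOf) twMask6_28 twMask6_29 = true := by decide +kernel

theorem tw_reach6_29 : tw.reachStep 175 6 (twTree6P29.map leafOf) twMask6_29 twMask6_30 = true := by decide +kernel

theorem tw_reach6_30 : tw.reachStep 175 6 (twTree6P30.map leafOf) twMask6_30 (2 ^ 15180 - 1) = true := by decide +kernel

theorem tw_reach6 {P G : Type*} [Group P] [Group G] {gen0 : ℕ → P} {φ : P →* G}
    {H : Subgroup G} {t : G} (R : TRig tw gen0 φ H t) : ∀ p < 15180, tw.Reach 175 6 p := by
  intro p hp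
  refine TData.reachStep_spec R tw_reach6_30 (TData.reachStep_spec R tw_reach6_29 (TData.reachStep_spec R tw_reach6_28 (TData.reachStep_spec R tw_reach6_27 (TData.reachStep_spec R tw_reach6_26 (TData.reachStep_spec R tw_reach6_25 (TData.reachStep_spec R tw_reach6_24 (TData.reachStep_spec R tw_reach6_23 (TData.reachStep_spec R tw_reach6_22 (TData.reachStep_spec R tw_reach6_21 (TData.reachStep_spec R tw_reach6_20 (TData.reachStep_spec R tw_reach6_19 (TData.reachStep_spec R tw_reach6_18 (TData.reachStep_spec R tw_reach6_17 (TData.reachStep_spec R tw_reach6_16 (TData.reachStep_spec R tw_reach6_15 (TData.reachStep_spec R tw_reach6_14 (TData.reachStep_spec R tw_reach6_13 (TData.reachStep_spec R tw_reach6_12 (TData.reachStep_spec R tw_reach6_11 (TData.reachStep_spec R tw_reach6_10 (TData.reachStep_spec R tw_reach6_9 (TData.reachStep_spec R tw_reach6_8 (TData.reachStep_spec R tw_reach6_7 (TData.reachStep_spec R tw_reach6_6 (TData.reachStep_spec R tw_reach6_5 (TData.reachStep_spec R tw_reach6_4 (TData.reachStep_spec R tw_reach6_3 (TData.reachStep_spec R tw_reach6_2 (TData.reachStep_spec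 R tw_reach6_1 (TData.reachStep_spec R tw_reach6_0 (fun q hq => absurd hq (by simp)))))))))))))))))))))))))))))))) p ?_
  rw [Nat.testBit_two_pow_sub_one, decide_eq_true hp]

end CfsgLib.J4Pres
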