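import Cfsg.Agent.Lib.J4Pres.PzTwist
import Cfsg.Agent.Lib.J4Pres.PzStab1

/-!
Kernel checks: a chain of the stabiliser of one double coset.
-/

set_option autoImplicit false
set_option Elab.async false
set_option linter.style.longLine false

namespace CfsgLib.J4Pres
open CfsgLib.CosetEnum CfsgLib.TwistCoset
theorem k1_base0 : levBase pzCertL [] 9307 k1Gens0 k1Ents0 = true := by decide +kernel

theorem k1_walk0_0 : walkStep pzCertL k1Gens0 k1Ent0P0 [9307] [7935,10824,13378,13377,13909,12462,12461,10735,6910,6911,9337,9307] = true := by decide +kernel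

theorem k1_walk0_1 : walkStep pzCertL k1Gens0 k1Ent0P1 [7935,10824,13378,13377,13909,12462,12461,10735,6910,6911,9337,9307] [6318,3609,3268,12119,11359,12328,3424,6910,6911,9337,9307] = true := by decide +kernel

theorem k1_walk0_2 : walkStep pzCertL k1Gens0 k1Ent0P2 [6318,3609,3268,12119,11359,12328,3424,6910,6911,9337,9307] [10791,10805,14778,13810,13809,8989,6910,6911,9337,9307] = true := by decide +kernel

theorem k1_walk0_3 : walkStep pzCertL k1Gens0 k1Ent0P3 [10791,10805,14778,13810,13809,8989,6910,6911,9337,9307] [4319,2328,12205,10829,10830,10356,10357,6911,9337,9307] = true := by decide +kernel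

theorem k1_walk0_4 : walkStep pzCertL k1Gens0 k1Ent0P4 [4319,2328,12205,10829,10830,10356,10357,6911,9337,9307] [6312,7687,7688,10513,11548,11885,11376,5657,10357,6911,9337,9307] = true := by decide +kernel

theorem k1_walk0_5 : walkStep pzCertL k1Gens0 k1Ent0P5 [6312,7687,7688,10513,11548,11885,11376,5657,10357,6911,9337,9307] [7087,2639,2638,7402,10386,10387,6911,9337,9307] = true := by decide +kernel

theorem k1_walk0_6 : walkStep pzCertL k1Gens0 k1Ent0P6 [7087,2639,2638,7402,10386,10387,6911,9337,9307] [11827,12570,12569,12037,12038,10730,9551,11639,11640,9337,9307] = true := by decide +kernel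

theorem k1_walk0_7 : walkStep pzCertL k1Gens0 k1Ent0P7 [11827,12570,12569,12037,12038,10730,9551,11639,11640,9337,9307] [4837,4838,679,13243,13244,14095,9551,11639,11640,9337,9307] = true := by decide +kernel

theorem k1_walk0_8 : walkStep pzCertL k1Gens0 k1Ent0P8 [4837,4838,679,13243,13244,14095,9551,11639,11640,9337,9307] [13471,9245,9246,8974,8975,11862,11639,11640,9337,9307] = true := by decide +kernel

theorem k1_walk0_9 : walkStep pzCertL k1Gens0 k1Ent0P9 [13471,9245,9246,8974,8975,11862,11639,11640,9337,9307] [14018,10808,13553,11774,13203,11639,11640,9337,9307] = true := by decide +kernel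

theorem k1_walk0_10 : walkStep pzCertL k1Gens0 k1Ent0P10 [14018,10808,13553,11774,13203,11639,11640,9337,9307] [322,4132,11949,13320,15147,14023,13120,11496,11640,9337,9307] = true := by decide +kernel

theorem k1_walk0_11 : walkStep pzCertL k1Gens0 k1Ent0P11 [322,4132,11949,13320,15147,14023,13120,11496,11640,9337,9307] [9979,4271,8442,8443,4024,6395,12099,11496,11640,9337,9307] = true := by decide +kernel

theorem k1_walk0_12 : walkStep pzCertL k1Gens0 k1Ent0P12 [9979,4271,8442,8443,4024,6395,12099,11496,11640,9337,9307] [13814,12135,12071,12607,8985,8984,6804,6728,9337,9307] = true := by decide +kernel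

theorem k1_walk0_13 : walkStep pzCertL k1Gens0 k1Ent0P13 [13814,12135,12071,12607,8985,8984,6804,6728,9337,9307] [7248,7247,4639,3899,5241,1128,1129,1191,6804,6728,9337,9307] = true := by decide +kernel

theorem k1_walk0_14 : walkStep pzCertL k1Gens0 k1Ent0P14 [7248,7247,4639,3899,5241,1128,1129,1191,6804,6728,9337,9307] [13334,13658,9031,3372,14712,6105,6146,6728,9337,9307] = true := by decide +kernel

theorem k1_walk0_15 : walkStep pzCertL k1Gens0 k1Ent0P15 [13334,13658,9031,3372,14712,6105,6146,6728,9337,9307] [5215,11404,11403,11269,267,268,6146,6728,9337,9307] = true := by decide +kernel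

theorem k1_walk0_16 : walkStep pzCertL k1Gens0 k1Ent0P16 [5215,11404,11403,11269,267,268,6146,6728,9337,9307] [1716,7227,7214,7213,8340,7866,7867,8800,8799,9307] = true := by decide +kernel

theorem k1_walk0_17 : walkStep pzCertL k1Gens0 k1Ent0P17 [1716,7227,7214,7213,8340,7866,7867,8800,8799,9307] [2357,14880,13587,12061,12063,11219,11200,7867,8800,8799,9307] = true := by decide +kernel

theorem k1_walk0_18 : walkStep pzCertL k1Gens0 k1Ent0P18 [2357,14880,13587,12061,12063,11219,11200,7867,8800,8799,9307] [13654,4196,3819,3820,7867,8800,8799,9307] = true := by decide +kernel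

theorem k1_walk0_19 : walkStep pzCertL k1Gens0 k1Ent0P19 [13654,4196,3819,3820,7867,8800,8799,9307] [6153,9539,13496,12146,12145,5469,2811,8800,8799,9307] = true := by decide +kernel

theorem k1_walk0_20 : walkStep pzCertL k1Gens0 k1Ent0P20 [6153,9539,13496,12146,12145,5469,2811,8800,8799,9307] [11205,15131,12486,12487,12453,8800,8799,9307] = true := by decide +kernel

theorem k1_walk0_21 : walkStep pzCertL k1Gens0 k1Ent0P21 [11205,15131,12486,12487,12453,8800,8799,9307] [10563,10564,8798,8797,13442,13443,6281,12453,8800,8799,9307] = true := by decide +kernel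

theorem k1_walk0_22 : walkStep pzCertL k1Gens0 k1Ent0P22 [10563,10564,8798,8797,13442,13443,6281,12453,8800,8799,9307] [12930,4259,13480,14180,13057,2157,10596,10597,8799,9307] = true := by decide +kernel

theorem k1_walk0_23 : walkStep pzCertL k1Gens0 k1Ent0P23 [12930,4259,13480,14180,13057,2157,10596,10597,8799,9307] [5079,10684,10619,14731,13134,13133,10596,10597,8799,9307] = true := by decide +kernel

theorem k1_walk0_24 : walkStep pzCertL k1Gens0 k1Ent0P24 [5079,10684,10619,14731,13134,13133,10596,10597,8799,9307] [203,2951,2952,673,428,427,4143,10597,8799,9307] = true := by decide +kernel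

theorem k1_walk0_25 : walkStep pzCertL k1Gens0 k1Ent0P25 [203,2951,2952,673,428,427,4143,10597,8799,9307] [14765,13531,13529,11186,5077,5078,8799,9307] = true := by decide +kernel

theorem k1_walk0_26 : walkStep pzCertL k1Gens0 k1Ent0P26 [14765,13531,13529,11186,5077,5078,8799,9307] [6779,8759,8760,6361,5077,5078,8799,9307] = true := by decide +kernel

theorem k1_walk0_27 : walkStep pzCertL k1Gens0 k1Ent0P27 [6779,8759,8760,6361,5077,5078,8799,9307] [11384,11385,6917,8272,8404,6267,6268,5078,8799,9307] = true := by decide +kernel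

theorem k1_walk0_28 : walkStep pzCertL k1Gens0 k1Ent0P28 [11384,11385,6917,8272,8404,6267,6268,5078,8799,9307] [67,139,14954,14955,1570,5078,8799,9307] = true := by decide +kernel

theorem k1_walk0_29 : walkStep pzCertL k1Gens0 k1Ent0P29 [67,139,14954,14955,1570,5078,8799,9307] [12197,4175,4174,1085,1084,1676,2764,14313,14314,6271,6272,9307] = true := by decide +kernel

theorem k1_walk0_30 : walkStep pzCertL k1Gens0 k1Ent0P30 [12197,4175,4174,1085,1084,1676,2764,14313,14314,6271,6272,9307] [13638,12658,12657,12402,12512,8941,8942,6271,6272,9307] = true := by decide +kernel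

theorem k1_walk0_31 : walkStep pzCertL k1Gens0 k1Ent0P31 [13638,12658,12657,12402,12512,8941,8942,6271,6272,9307] [3396,7063,7064,8796,6873,8197,8196,8942,6271,6272,9307] = true := by decide +kernel

theorem k1_walk0_32 : walkStep pzCertL k1Gens0 k1Ent0P32 [3396,7063,7064,8796,6873,8197,8196,8942,6271,6272,9307] [3233,1356,1357,4010,12687,12688,10095,10094,5220,6271,6272,9307] = true := by decide +kernel

theorem k1_walk0_33 : walkStep pzCertL k1Gens0 k1Ent0P33 [3233,1356,1357,4010,12687,12688,10095,10094,5220,6271,6272,9307] [13278,5861,4399,4400,13146,13145,5394,6094,6272,9307] = true := by decide +kernel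

theorem k1_walk0_34 : walkStep pzCertL k1Gens0 k1Ent0P34 [13278,5861,4399,4400,13146,13145,5394,6094,6272,9307] [13560,13559,5767,5766,4276,9146,8596,5394,6094,6272,9307] = true := by decide +kernel

theorem k1_walk0_35 : walkStep pzCertL k1Gens0 k1Ent0P35 [13560,13559,5767,5766,4276,9146,8596,5394,6094,6272,9307] [7842,10087,7293,9224,9223,7397,1743,6094,6272,9307] = true := by decide +kernel

theorem k1_walk0_36 : walkStep pzCertL k1Gens0 k1Ent0P36 [7842,10087,7293,9224,9223,7397,1743,6094,6272,9307] [7461,9779,13078,13077,11746,1332,1333,3075,4729,8318,8319,9307] = true := by decide +kernel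

theorem k1_walk0_37 : walkStep pzCertL k1Gens0 k1Ent0P37 [7461,9779,13078,13077,11746,1332,1333,3075,4729,8318,8319,9307] [6893,7485,7486,14442,14441,13505,12953,4729,8318,8319,9307] = true := by decide +kernel

theorem k1_walk0_38 : walkStep pzCertL k1Gens0 k1Ent0P38 [6893,7485,7486,14442,14441,13505,12953,4729,8318,8319,9307] [3567,3566,10067,3193,7177,10001,8318,8319,9307] = true := by decide +kernel

theorem k1_walk0_39 : walkStep pzCertL k1Gens0 k1Ent0P39 [3567,3566,10067,3193,7177,10001,8318,8319,9307] [14382,14381,12296,12297,6967,4709,10668,14139,8319,9307] = true := by decide +kernel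

theorem k1_walk0_40 : walkStep pzCertL k1Gens0 k1Ent0P40 [14382,14381,12296,12297,6967,4709,10668,14139,8319,9307] [4442,9878,12604,9496,14455,11504,14161,14139,8319,9307] = true := by decide +kernel

theorem k1_walk0_41 : walkStep pzCertL k1Gens0 k1Ent0P41 [4442,9878,12604,9496,14455,11504,14161,14139,8319,9307] [3276,1396,1395,15009,13615,14139,8319,9307] = true := by decide +kernel

theorem k1_walk0_42 : walkStep pzCertL k1Gens0 k1Ent0P42 [3276,1396,1395,15009,13615,14139,8319,9307] [13609,11566,7383,14863,5771,14856,8319,9307] = true := by decide +kernel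

theorem k1_walk0_43 : walkOK pzCertL k1Gens0 k1Ent0P43 [13609,11566,7383,14863,5771,14856,8319,9307] = true := by decide +kernel

theorem k1_lev0 : levOK pzCertL [] 9307 k1Gens0 k1Ents0 = true := by
  refine levOK_of k1_base0 ?_
  simp only [k1Ents0, List.flatten_cons, List.flatten_nil, List.append_nil]
  exact walkStep_append k1_walk0_0 (walkStep_append k1_walk0_1 (walkStep_append k1_walk0_2 (walkStep_append k1_walk0_3 (walkStep_append k1_walk0_4 (walkStep_append k1_walk0_5 (walkStep_append k1_walk0_6 (walkStep_append k1_walk0_7 (walkStep_append k1_walk0_8 (walkStep_append k1_walk0_9 (walkStep_append k1_walk0_10 (walkStep_append k1_walk0_11 (walkStep_append k1_walk0_12 (walkStep_append k1_walk0_13 (walkStep_append k1_walk0_14 (walkStep_append k1_walk0_15 (walkStep_append k1_walk0_16 (walkStep_append k1_walk0_17 (walkStep_append k1_walk0_18 (walkStep_append k1_walk0_19 (walkStep_append k1_walk0_20 (walkStep_append k1_walk0_21 (walkStep_append k1_walk0_22 (walkStep_append k1_walk0_23 (walkStep_append k1_walk0_24 (walkStep_append k1_walk0_25 (walkStep_append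 k1_walk0_26 (walkStep_append k1_walk0_27 (walkStep_append k1_walk0_28 (walkStep_append k1_walk0_29 (walkStep_append k1_walk0_30 (walkStep_append k1_walk0_31 (walkStep_append k1_walk0_32 (walkStep_append k1_walk0_33 (walkStep_append k1_walk0_34 (walkStep_append k1_walk0_35 (walkStep_append k1_walk0_36 (walkStep_append k1_walk0_37 (walkStep_append k1_walk0_38 (walkStep_append k1_walk0_39 (walkStep_append k1_walk0_40 (walkStep_append k1_walk0_41 (walkStep_append k1_walk0_42 (k1_walk0_43)))))))))))))))))))))))))))))))))))))))))))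

theorem k1_base1 : levBase pzCertL [9307] 5858 k1Gens1 k1Ents1 = true := by decide +kernel

theorem k1_walk1_0 : walkOK pzCertL k1Gens1 k1Ent1P0 [5858] = true := by decide +kernel

theorem k1_lev1 : levOK pzCertL [9307] 5858 k1Gens1 k1Ents1 = true := by
  refine levOK_of k1_base1 ?_
  simp only [k1Ents1, List.flatten_cons, List.flatten_nil, List.append_nil]
  exact k1_walk1_0

theorem k1_base2 : levBase pzCertL [5858,9307] 2104 k1Gens2 k1Ents2 = true := by decide +kernel

theorem k1_walk2_0 : walkOK pzCertL k1Gens2 k1Ent2P0 [2104] = true := by decide +kernel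

theorem k1_lev2 : levOK pzCertL [5858,9307] 2104 k1Gens2 k1Ents2 = true := by
  refine levOK_of k1_base2 ?_
  simp only [k1Ents2, List.flatten_cons, List.flatten_nil, List.append_nil]
  exact k1_walk2_0

theorem k1_base3 : levBase pzCertL [2104,5858,9307] 12501 k1Gens3 k1Ents3 = true := by decide +kernel

theorem k1_walk3_0 : walkOK pzCertL k1Gens3 k1Ent3P0 [12501] = true := by decide +kernel

theorem k1_lev3 : levOK pzCertL [2104,5858,9307] 12501 k1Gens3 k1Ents3 = true := by
  refine levOK_of k1_base3 ?_
  simp only [k1Ents3, List.flatten_cons, List.flatten_nil, List.append_nil]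
  exact k1_walk3_0

theorem k1_base4 : levBase pzCertL [12501,2104,5858,9307] 6511 k1Gens4 k1Ents4 = true := by decide +kernel

theorem k1_walk4_0 : walkOK pzCertL k1Gens4 k1Ent4P0 [6511] = true := by decide +kernel

theorem k1_lev4 : levOK pzCertL [12501,2104,5858,9307] 6511 k1Gens4 k1Ents4 = true := by
  refine levOK_of k1_base4 ?_
  simp only [k1Ents4, List.flatten_cons, List.flatten_nil, List.append_nil]
  exact k1_walk4_0

theorem k1_cOK : cOK pzCertL [] k1Chain = true :=
  cOK_tree k1_lev0 (cOK_tree k1_lev1 (cOK_tree k1_lev2 (cOK_tree k1_lev3 (cOK_tree k1_lev4 (cOK_nil)))))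

theorem k1_len0 : k1Ents0.length = 10751 := by decide +kernel

theorem k1_len1 : k1Ents1.length = 95 := by decide +kernel

theorem k1_len2 : k1Ents2.length = 3 := by decide +kernel

theorem k1_len3 : k1Ents3.length = 3 := by decide +kernel

theorem k1_len4 : k1Ents4.length = 1 := by decide +kernel

theorem k1_size : cSize k1Chain = 33030144 := by
  simp [k1Chain, cSize, treeLev_length, k1_len0, k1_len1, k1_len2, k1_len3, k1_len4]

theorem k1_gens : k1Chain.map CLev.gens = k1Wits.map Prod.fst := rfl

end CfsgLib.J4Pres
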