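import Cfsg.Agent.Lib.J4Pres.PzTwist
import Cfsg.Agent.Lib.J4Pres.PzStab2

/-!
Kernel checks: a chain of the stabiliser of one double coset.
-/

set_option autoImplicit false
set_option Elab.async false
set_option linter.style.longLine false

namespace CfsgLib.J4Pres
open CfsgLib.CosetEnum CfsgLib.TwistCoset
theorem k2_base0 : levBase pzCertL [] 2575 k2Gens0 k2Ents0 = true := by decide +kernel

theorem k2_walk0_0 : walkStep pzCertL k2Gens0 k2Ent0P0 [2575] [11648,5442,11818,4516,2575] = true := by decide +kernel

theorem k2_walk0_1 : walkStep pzCertL k2Gens0 k2Ent0P1 [11648,5442,11818,4516,2575] [5863,12813,2261,2575] = true := by decide +kernel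

theorem k2_walk0_2 : walkStep pzCertL k2Gens0 k2Ent0P2 [5863,12813,2261,2575] [14560,14524,1854,2575] = true := by decide +kernel

theorem k2_walk0_3 : walkStep pzCertL k2Gens0 k2Ent0P3 [14560,14524,1854,2575] [10839,10199,13079,2575] = true := by decide +kernel

theorem k2_walk0_4 : walkStep pzCertL k2Gens0 k2Ent0P4 [10839,10199,13079,2575] [7369,7101,10238,2575] = true := by decide +kernel

theorem k2_walk0_5 : walkStep pzCertL k2Gens0 k2Ent0P5 [7369,7101,10238,2575] [5100,11912,322,2575] = true := by decide +kernel

theorem k2_walk0_6 : walkStep pzCertL k2Gens0 k2Ent0P6 [5100,11912,322,2575] [13138,11279,14189,11947,2575] = true := by decide +kernel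

theorem k2_walk0_7 : walkStep pzCertL k2Gens0 k2Ent0P7 [13138,11279,14189,11947,2575] [13821,10988,13632,11947,2575] = true := by decide +kernel

theorem k2_walk0_8 : walkStep pzCertL k2Gens0 k2Ent0P8 [13821,10988,13632,11947,2575] [9762,6025,11947,2575] = true := by decide +kernel

theorem k2_walk0_9 : walkStep pzCertL k2Gens0 k2Ent0P9 [9762,6025,11947,2575] [12744,8248,11947,2575] = true := by decide +kernel

theorem k2_walk0_10 : walkStep pzCertL k2Gens0 k2Ent0P10 [12744,8248,11947,2575] [12758,12440,810,11947,2575] = true := by decide +kernel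

theorem k2_walk0_11 : walkStep pzCertL k2Gens0 k2Ent0P11 [12758,12440,810,11947,2575] [5897,8985,9423,2575] = true := by decide +kernel

theorem k2_walk0_12 : walkStep pzCertL k2Gens0 k2Ent0P12 [5897,8985,9423,2575] [1750,13955,5235,9423,2575] = true := by decide +kernel

theorem k2_walk0_13 : walkStep pzCertL k2Gens0 k2Ent0P13 [1750,13955,5235,9423,2575] [3077,9563,2369,9423,2575] = true := by decide +kernel

theorem k2_walk0_14 : walkStep pzCertL k2Gens0 k2Ent0P14 [3077,9563,2369,9423,2575] [12432,9546,4902,9423,2575] = true := by decide +kernel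

theorem k2_walk0_15 : walkStep pzCertL k2Gens0 k2Ent0P15 [12432,9546,4902,9423,2575] [11636,1897,14120,648,2575] = true := by decide +kernel

theorem k2_walk0_16 : walkStep pzCertL k2Gens0 k2Ent0P16 [11636,1897,14120,648,2575] [6720,8279,8074,648,2575] = true := by decide +kernel

theorem k2_walk0_17 : walkStep pzCertL k2Gens0 k2Ent0P17 [6720,8279,8074,648,2575] [9990,3359,6491,2575] = true := by decide +kernel

theorem k2_walk0_18 : walkStep pzCertL k2Gens0 k2Ent0P18 [9990,3359,6491,2575] [5191,7587,6491,2575] = true := by decide +kernel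

theorem k2_walk0_19 : walkStep pzCertL k2Gens0 k2Ent0P19 [5191,7587,6491,2575] [14714,802,2575] = true := by decide +kernel

theorem k2_walk0_20 : walkStep pzCertL k2Gens0 k2Ent0P20 [14714,802,2575] [5140,5722,4116,2575] = true := by decide +kernel

theorem k2_walk0_21 : walkStep pzCertL k2Gens0 k2Ent0P21 [5140,5722,4116,2575] [1067,1436,4116,2575] = true := by decide +kernel

theorem k2_walk0_22 : walkStep pzCertL k2Gens0 k2Ent0P22 [1067,1436,4116,2575] [9672,10550,4116,2575] = true := by decide +kernel

theorem k2_walk0_23 : walkStep pzCertL k2Gens0 k2Ent0P23 [9672,10550,4116,2575] [11321,2032,13547,2575] = true := by decide +kernel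

theorem k2_walk0_24 : walkOK pzCertL k2Gens0 k2Ent0P24 [11321,2032,13547,2575] = true := by decide +kernel

theorem k2_lev0 : levOK pzCertL [] 2575 k2Gens0 k2Ents0 = true := by
  refine levOK_of k2_base0 ?_
  simp only [k2Ents0, List.flatten_cons, List.flatten_nil, List.append_nil]
  exact walkStep_append k2_walk0_0 (walkStep_append k2_walk0_1 (walkStep_append k2_walk0_2 (walkStep_append k2_walk0_3 (walkStep_append k2_walk0_4 (walkStep_append k2_walk0_5 (walkStep_append k2_walk0_6 (walkStep_append k2_walk0_7 (walkStep_append k2_walk0_8 (walkStep_append k2_walk0_9 (walkStep_append k2_walk0_10 (walkStep_append k2_walk0_11 (walkStep_append k2_walk0_12 (walkStep_append k2_walk0_13 (walkStep_append k2_walk0_14 (walkStep_append k2_walk0_15 (walkStep_append k2_walk0_16 (walkStep_append k2_walk0_17 (walkStep_append k2_walk0_18 (walkStep_append k2_walk0_19 (walkStep_append k2_walk0_20 (walkStep_append k2_walk0_21 (walkStep_append k2_walk0_22 (walkStep_append k2_walk0_23 (k2_walk0_24))))))))))))))))))))))))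

theorem k2_base1 : levBase pzCertL [2575] 10654 k2Gens1 k2Ents1 = true := by decide +kernel

theorem k2_walk1_0 : walkOK pzCertL k2Gens1 k2Ent1P0 [10654] = true := by decide +kernel

theorem k2_lev1 : levOK pzCertL [2575] 10654 k2Gens1 k2Ents1 = true := by
  refine levOK_of k2_base1 ?_
  simp only [k2Ents1, List.flatten_cons, List.flatten_nil, List.append_nil]
  exact k2_walk1_0

theorem k2_base2 : levBase pzCertL [10654,2575] 3495 k2Gens2 k2Ents2 = true := by decide +kernel

theorem k2_walk2_0 : walkOK pzCertL k2Gens2 k2Ent2P0 [3495] = true := by decide +kernel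

theorem k2_lev2 : levOK pzCertL [10654,2575] 3495 k2Gens2 k2Ents2 = true := by
  refine levOK_of k2_base2 ?_
  simp only [k2Ents2, List.flatten_cons, List.flatten_nil, List.append_nil]
  exact k2_walk2_0

theorem k2_cOK : cOK pzCertL [] k2Chain = true :=
  cOK_tree k2_lev0 (cOK_tree k2_lev1 (cOK_tree k2_lev2 (cOK_nil)))

theorem k2_len0 : k2Ents0.length = 6143 := by decide +kernel

theorem k2_len1 : k2Ents1.length = 11 := by decide +kernel

theorem k2_len2 : k2Ents2.length = 1 := by decide +kernel

theorem k2_size : cSize k2Chain = 147456 := by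
  simp [k2Chain, cSize, treeLev_length, k2_len0, k2_len1, k2_len2]

theorem k2_gens : k2Chain.map CLev.gens = k2Wits.map Prod.fst := rfl

end CfsgLib.J4Pres
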