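import Cfsg.Agent.Lib.J4Pres.PzTwist
import Cfsg.Agent.Lib.J4Pres.PzStab3

/-!
Kernel checks: a chain of the stabiliser of one double coset.
-/

set_option autoImplicit false
set_option Elab.async false
set_option linter.style.longLine false

namespace CfsgLib.J4Pres
open CfsgLib.CosetEnum CfsgLib.TwistCoset
theorem k3_base0 : levBase pzCertL [] 14307 k3Gens0 k3Ents0 = true := by decide +kernel

theorem k3_walk0_0 : walkStep pzCertL k3Gens0 k3Ent0P0 [14307] [7149,7263,11146,14298,14307] = true := by decide +kernel

theorem k3_walk0_1 : walkStep pzCertL k3Gens0 k3Ent0P1 [7149,7263,11146,14298,14307] [9083,7463,4669,6680,14307] = true := by decide +kernel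

theorem k3_walk0_2 : walkStep pzCertL k3Gens0 k3Ent0P2 [9083,7463,4669,6680,14307] [9727,3628,8897,6680,14307] = true := by decide +kernel

theorem k3_walk0_3 : walkStep pzCertL k3Gens0 k3Ent0P3 [9727,3628,8897,6680,14307] [12089,7939,255,10730,11650,14307] = true := by decide +kernel

theorem k3_walk0_4 : walkStep pzCertL k3Gens0 k3Ent0P4 [12089,7939,255,10730,11650,14307] [5414,3009,11524,11650,14307] = true := by decide +kernel

theorem k3_walk0_5 : walkStep pzCertL k3Gens0 k3Ent0P5 [5414,3009,11524,11650,14307] [3237,159,2429,5951,11650,14307] = true := by decide +kernel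

theorem k3_walk0_6 : walkStep pzCertL k3Gens0 k3Ent0P6 [3237,159,2429,5951,11650,14307] [3519,9027,4614,11650,14307] = true := by decide +kernel

theorem k3_walk0_7 : walkStep pzCertL k3Gens0 k3Ent0P7 [3519,9027,4614,11650,14307] [112,4186,10364,2746,12440,14307] = true := by decide +kernel

theorem k3_walk0_8 : walkStep pzCertL k3Gens0 k3Ent0P8 [112,4186,10364,2746,12440,14307] [9620,10623,14990,12440,14307] = true := by decide +kernel

theorem k3_walk0_9 : walkStep pzCertL k3Gens0 k3Ent0P9 [9620,10623,14990,12440,14307] [10907,6016,10722,4552,14307] = true := by decide +kernel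

theorem k3_walk0_10 : walkStep pzCertL k3Gens0 k3Ent0P10 [10907,6016,10722,4552,14307] [14163,11482,14028,15105,14307] = true := by decide +kernel

theorem k3_walk0_11 : walkStep pzCertL k3Gens0 k3Ent0P11 [14163,11482,14028,15105,14307] [9740,9938,389,1190,14307] = true := by decide +kernel

theorem k3_walk0_12 : walkStep pzCertL k3Gens0 k3Ent0P12 [9740,9938,389,1190,14307] [2236,3687,428,14307] = true := by decide +kernel

theorem k3_walk0_13 : walkStep pzCertL k3Gens0 k3Ent0P13 [2236,3687,428,14307] [14626,8957,4258,13089,14307] = true := by decide +kernel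

theorem k3_walk0_14 : walkStep pzCertL k3Gens0 k3Ent0P14 [14626,8957,4258,13089,14307] [13966,3052,10628,910,14307] = true := by decide +kernel

theorem k3_walk0_15 : walkOK pzCertL k3Gens0 k3Ent0P15 [13966,3052,10628,910,14307] = true := by decide +kernel

theorem k3_lev0 : levOK pzCertL [] 14307 k3Gens0 k3Ents0 = true := by
  refine levOK_of k3_base0 ?_
  simp only [k3Ents0, List.flatten_cons, List.flatten_nil, List.append_nil]
  exact walkStep_append k3_walk0_0 (walkStep_append k3_walk0_1 (walkStep_append k3_walk0_2 (walkStep_append k3_walk0_3 (walkStep_append k3_walk0_4 (walkStep_append k3_walk0_5 (walkStep_append k3_walk0_6 (walkStep_append k3_walk0_7 (walkStep_append k3_walk0_8 (walkStep_append k3_walk0_9 (walkStep_append k3_walk0_10 (walkStep_append k3_walk0_11 (walkStep_append k3_walk0_12 (walkStep_append k3_walk0_13 (walkStep_append k3_walk0_14 (k3_walk0_15)))))))))))))))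

theorem k3_base1 : levBase pzCertL [14307] 0 k3Gens1 k3Ents1 = true := by decide +kernel

theorem k3_walk1_0 : walkOK pzCertL k3Gens1 k3Ent1P0 [0] = true := by decide +kernel

theorem k3_lev1 : levOK pzCertL [14307] 0 k3Gens1 k3Ents1 = true := by
  refine levOK_of k3_base1 ?_
  simp only [k3Ents1, List.flatten_cons, List.flatten_nil, List.append_nil]
  exact k3_walk1_0

theorem k3_cOK : cOK pzCertL [] k3Chain = true :=
  cOK_tree k3_lev0 (cOK_tree k3_lev1 (cOK_nil))

theorem k3_len0 : k3Ents0.length = 3839 := by decide +kernel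

theorem k3_len1 : k3Ents1.length = 3 := by decide +kernel

theorem k3_size : cSize k3Chain = 15360 := by
  simp [k3Chain, cSize, treeLev_length, k3_len0, k3_len1]

theorem k3_gens : k3Chain.map CLev.gens = k3Wits.map Prod.fst := rfl

end CfsgLib.J4Pres
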