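import Cfsg.Agent.Lib.J4Pres.PzTwist
import Cfsg.Agent.Lib.J4Pres.PzStab4

/-!
Kernel checks: a chain of the stabiliser of one double coset.
-/

set_option autoImplicit false
set_option Elab.async false
set_option linter.style.longLine false

namespace CfsgLib.J4Pres
open CfsgLib.CosetEnum CfsgLib.TwistCoset
theorem k4_base0 : levBase pzCertL [] 1176 k4Gens0 k4Ents0 = true := by decide +kernel

theorem k4_walk0_0 : walkStep pzCertL k4Gens0 k4Ent0P0 [1176] [2742,1011,7684,5199,13423,1176] = true := by decide +kernel

theorem k4_walk0_1 : walkStep pzCertL k4Gens0 k4Ent0P1 [2742,1011,7684,5199,13423,1176] [3207,3267,722,13423,1176] = true := by decide +kernel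

theorem k4_walk0_2 : walkStep pzCertL k4Gens0 k4Ent0P2 [3207,3267,722,13423,1176] [6742,4878,11086,4874,1176] = true := by decide +kernel

theorem k4_walk0_3 : walkStep pzCertL k4Gens0 k4Ent0P3 [6742,4878,11086,4874,1176] [3986,6711,2397,4874,1176] = true := by decide +kernel

theorem k4_walk0_4 : walkStep pzCertL k4Gens0 k4Ent0P4 [3986,6711,2397,4874,1176] [4716,10549,7936,1176] = true := by decide +kernel

theorem k4_walk0_5 : walkStep pzCertL k4Gens0 k4Ent0P5 [4716,10549,7936,1176] [11352,7936,1176] = true := by decide +kernel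

theorem k4_walk0_6 : walkStep pzCertL k4Gens0 k4Ent0P6 [11352,7936,1176] [15071,13559,9190,7936,1176] = true := by decide +kernel

theorem k4_walk0_7 : walkStep pzCertL k4Gens0 k4Ent0P7 [15071,13559,9190,7936,1176] [8622,1449,7936,1176] = true := by decide +kernel

theorem k4_walk0_8 : walkStep pzCertL k4Gens0 k4Ent0P8 [8622,1449,7936,1176] [1629,9516,15170,14481,13603,1176] = true := by decide +kernel

theorem k4_walk0_9 : walkStep pzCertL k4Gens0 k4Ent0P9 [1629,9516,15170,14481,13603,1176] [2775,11913,12731,9646,13603,1176] = true := by decide +kernel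

theorem k4_walk0_10 : walkStep pzCertL k4Gens0 k4Ent0P10 [2775,11913,12731,9646,13603,1176] [2865,11215,9666,4565,13603,1176] = true := by decide +kernel

theorem k4_walk0_11 : walkStep pzCertL k4Gens0 k4Ent0P11 [2865,11215,9666,4565,13603,1176] [7187,9228,10934,4565,13603,1176] = true := by decide +kernel

theorem k4_walk0_12 : walkStep pzCertL k4Gens0 k4Ent0P12 [7187,9228,10934,4565,13603,1176] [4717,13897,8528,5631,13603,1176] = true := by decide +kernel

theorem k4_walk0_13 : walkStep pzCertL k4Gens0 k4Ent0P13 [4717,13897,8528,5631,13603,1176] [9733,8257,3620,5631,13603,1176] = true := by decide +kernel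

theorem k4_walk0_14 : walkStep pzCertL k4Gens0 k4Ent0P14 [9733,8257,3620,5631,13603,1176] [4334,14148,10922,11948,13603,1176] = true := by decide +kernel

theorem k4_walk0_15 : walkStep pzCertL k4Gens0 k4Ent0P15 [4334,14148,10922,11948,13603,1176] [9327,12611,13980,549,13603,1176] = true := by decide +kernel

theorem k4_walk0_16 : walkStep pzCertL k4Gens0 k4Ent0P16 [9327,12611,13980,549,13603,1176] [4239,5388,3480,11422,13603,1176] = true := by decide +kernel

theorem k4_walk0_17 : walkStep pzCertL k4Gens0 k4Ent0P17 [4239,5388,3480,11422,13603,1176] [738,11183,2629,13603,1176] = true := by decide +kernel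

theorem k4_walk0_18 : walkStep pzCertL k4Gens0 k4Ent0P18 [738,11183,2629,13603,1176] [3090,9240,2629,13603,1176] = true := by decide +kernel

theorem k4_walk0_19 : walkStep pzCertL k4Gens0 k4Ent0P19 [3090,9240,2629,13603,1176] [9544,13214,9017,11294,13603,1176] = true := by decide +kernel

theorem k4_walk0_20 : walkStep pzCertL k4Gens0 k4Ent0P20 [9544,13214,9017,11294,13603,1176] [14647,9772,6991,11294,13603,1176] = true := by decide +kernel

theorem k4_walk0_21 : walkStep pzCertL k4Gens0 k4Ent0P21 [14647,9772,6991,11294,13603,1176] [12394,11416,3837,8911,1176] = true := by decide +kernel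

theorem k4_walk0_22 : walkStep pzCertL k4Gens0 k4Ent0P22 [12394,11416,3837,8911,1176] [9198,4192,12066,8911,1176] = true := by decide +kernel

theorem k4_walk0_23 : walkStep pzCertL k4Gens0 k4Ent0P23 [9198,4192,12066,8911,1176] [3701,1911,7520,13466,8911,1176] = true := by decide +kernel

theorem k4_walk0_24 : walkStep pzCertL k4Gens0 k4Ent0P24 [3701,1911,7520,13466,8911,1176] [2492,4680,7044,15082,8911,1176] = true := by decide +kernel

theorem k4_walk0_25 : walkStep pzCertL k4Gens0 k4Ent0P25 [2492,4680,7044,15082,8911,1176] [13846,2464,6629,4896,8911,1176] = true := by decide +kernel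

theorem k4_walk0_26 : walkStep pzCertL k4Gens0 k4Ent0P26 [13846,2464,6629,4896,8911,1176] [4376,9084,9165,8911,1176] = true := by decide +kernel

theorem k4_walk0_27 : walkStep pzCertL k4Gens0 k4Ent0P27 [4376,9084,9165,8911,1176] [9749,8950,11875,1846,8911,1176] = true := by decide +kernel

theorem k4_walk0_28 : walkStep pzCertL k4Gens0 k4Ent0P28 [9749,8950,11875,1846,8911,1176] [11152,85,7724,12850,8911,1176] = true := by decide +kernel

theorem k4_walk0_29 : walkStep pzCertL k4Gens0 k4Ent0P29 [11152,85,7724,12850,8911,1176] [10154,5216,8388,7015,1176] = true := by decide +kernel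

theorem k4_walk0_30 : walkStep pzCertL k4Gens0 k4Ent0P30 [10154,5216,8388,7015,1176] [4614,3054,14440,7015,1176] = true := by decide +kernel

theorem k4_walk0_31 : walkStep pzCertL k4Gens0 k4Ent0P31 [4614,3054,14440,7015,1176] [14024,12157,5287,7015,1176] = true := by decide +kernel

theorem k4_walk0_32 : walkStep pzCertL k4Gens0 k4Ent0P32 [14024,12157,5287,7015,1176] [6576,9176,12593,7078,1176] = true := by decide +kernel

theorem k4_walk0_33 : walkStep pzCertL k4Gens0 k4Ent0P33 [6576,9176,12593,7078,1176] [4022,685,12134,7078,1176] = true := by decide +kernel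

theorem k4_walk0_34 : walkStep pzCertL k4Gens0 k4Ent0P34 [4022,685,12134,7078,1176] [6150,3615,12688,4486,1176] = true := by decide +kernel

theorem k4_walk0_35 : walkStep pzCertL k4Gens0 k4Ent0P35 [6150,3615,12688,4486,1176] [3579,12591,8739,4486,1176] = true := by decide +kernel

theorem k4_walk0_36 : walkStep pzCertL k4Gens0 k4Ent0P36 [3579,12591,8739,4486,1176] [7130,4427,2930,4692,1176] = true := by decide +kernel

theorem k4_walk0_37 : walkStep pzCertL k4Gens0 k4Ent0P37 [7130,4427,2930,4692,1176] [8521,12488,12989,878,4692,1176] = true := by decide +kernel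

theorem k4_walk0_38 : walkStep pzCertL k4Gens0 k4Ent0P38 [8521,12488,12989,878,4692,1176] [5137,4163,7401,14435,4692,1176] = true := by decide +kernel

theorem k4_walk0_39 : walkStep pzCertL k4Gens0 k4Ent0P39 [5137,4163,7401,14435,4692,1176] [10698,11723,10673,4692,1176] = true := by decide +kernel

theorem k4_walk0_40 : walkStep pzCertL k4Gens0 k4Ent0P40 [10698,11723,10673,4692,1176] [3739,7077,3583,13277,4692,1176] = true := by decide +kernel

theorem k4_walk0_41 : walkStep pzCertL k4Gens0 k4Ent0P41 [3739,7077,3583,13277,4692,1176] [4758,8035,14433,6704,4692,1176] = true := by decide +kernel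

theorem k4_walk0_42 : walkStep pzCertL k4Gens0 k4Ent0P42 [4758,8035,14433,6704,4692,1176] [8087,4388,9236,6364,966,1176] = true := by decide +kernel

theorem k4_walk0_43 : walkStep pzCertL k4Gens0 k4Ent0P43 [8087,4388,9236,6364,966,1176] [2220,9910,14602,966,1176] = true := by decide +kernel

theorem k4_walk0_44 : walkStep pzCertL k4Gens0 k4Ent0P44 [2220,9910,14602,966,1176] [10817,12632,11767,966,1176] = true := by decide +kernel

theorem k4_walk0_45 : walkStep pzCertL k4Gens0 k4Ent0P45 [10817,12632,11767,966,1176] [1475,5659,9849,1062,966,1176] = true := by decide +kernel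

theorem k4_walk0_46 : walkOK pzCertL k4Gens0 k4Ent0P46 [1475,5659,9849,1062,966,1176] = true := by decide +kernel

theorem k4_lev0 : levOK pzCertL [] 1176 k4Gens0 k4Ents0 = true := by
  refine levOK_of k4_base0 ?_
  simp only [k4Ents0, List.flatten_cons, List.flatten_nil, List.append_nil]
  exact walkStep_append k4_walk0_0 (walkStep_append k4_walk0_1 (walkStep_append k4_walk0_2 (walkStep_append k4_walk0_3 (walkStep_append k4_walk0_4 (walkStep_append k4_walk0_5 (walkStep_append k4_walk0_6 (walkStep_append k4_walk0_7 (walkStep_append k4_walk0_8 (walkStep_append k4_walk0_9 (walkStep_append k4_walk0_10 (walkStep_append k4_walk0_11 (walkStep_append k4_walk0_12 (walkStep_append k4_walk0_13 (walkStep_append k4_walk0_14 (walkStep_append k4_walk0_15 (walkStep_append k4_walk0_16 (walkStep_append k4_walk0_17 (walkStep_append k4_walk0_18 (walkStep_append k4_walk0_19 (walkStep_append k4_walk0_20 (walkStep_append k4_walk0_21 (walkStep_append k4_walk0_22 (walkStep_append k4_walk0_23 (walkStep_append k4_walk0_24 (walkStep_append k4_walk0_25 (walkStep_append k4_walk0_26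 (walkStep_append k4_walk0_27 (walkStep_append k4_walk0_28 (walkStep_append k4_walk0_29 (walkStep_append k4_walk0_30 (walkStep_append k4_walk0_31 (walkStep_append k4_walk0_32 (walkStep_append k4_walk0_33 (walkStep_append k4_walk0_34 (walkStep_append k4_walk0_35 (walkStep_append k4_walk0_36 (walkStep_append k4_walk0_37 (walkStep_append k4_walk0_38 (walkStep_append k4_walk0_39 (walkStep_append k4_walk0_40 (walkStep_append k4_walk0_41 (walkStep_append k4_walk0_42 (walkStep_append k4_walk0_43 (walkStep_append k4_walk0_44 (walkStep_append k4_walk0_45 (k4_walk0_46))))))))))))))))))))))))))))))))))))))))))))))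

theorem k4_base1 : levBase pzCertL [1176] 963 k4Gens1 k4Ents1 = true := by decide +kernel

theorem k4_walk1_0 : walkOK pzCertL k4Gens1 k4Ent1P0 [963] = true := by decide +kernel

theorem k4_lev1 : levOK pzCertL [1176] 963 k4Gens1 k4Ents1 = true := by
  refine levOK_of k4_base1 ?_
  simp only [k4Ents1, List.flatten_cons, List.flatten_nil, List.append_nil]
  exact k4_walk1_0

theorem k4_base2 : levBase pzCertL [963,1176] 13948 k4Gens2 k4Ents2 = true := by decide +kernel

theorem k4_walk2_0 : walkOK pzCertL k4Gens2 k4Ent2P0 [13948] = true := by decide +kernel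

theorem k4_lev2 : levOK pzCertL [963,1176] 13948 k4Gens2 k4Ents2 = true := by
  refine levOK_of k4_base2 ?_
  simp only [k4Ents2, List.flatten_cons, List.flatten_nil, List.append_nil]
  exact k4_walk2_0

theorem k4_base3 : levBase pzCertL [13948,963,1176] 5035 k4Gens3 k4Ents3 = true := by decide +kernel

theorem k4_walk3_0 : walkOK pzCertL k4Gens3 k4Ent3P0 [5035] = true := by decide +kernel

theorem k4_lev3 : levOK pzCertL [13948,963,1176] 5035 k4Gens3 k4Ents3 = true := by
  refine levOK_of k4_base3 ?_
  simp only [k4Ents3, List.flatten_cons, List.flatten_nil, List.append_nil]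
  exact k4_walk3_0

theorem k4_cOK : cOK pzCertL [] k4Chain = true :=
  cOK_tree k4_lev0 (cOK_tree k4_lev1 (cOK_tree k4_lev2 (cOK_tree k4_lev3 (cOK_nil))))

theorem k4_len0 : k4Ents0.length = 11519 := by decide +kernel

theorem k4_len1 : k4Ents1.length = 191 := by decide +kernel

theorem k4_len2 : k4Ents2.length = 3 := by decide +kernel

theorem k4_len3 : k4Ents3.length = 1 := by decide +kernel

theorem k4_size : cSize k4Chain = 17694720 := by
  simp [k4Chain, cSize, treeLev_length, k4_len0, k4_len1, k4_len2, k4_len3]

theorem k4_gens : k4Chain.map CLev.gens = k4Wits.map Prod.fst := rfl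

end CfsgLib.J4Pres
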