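import Cfsg.Agent.Lib.J4Pres.PzTwist
import Cfsg.Agent.Lib.J4Pres.PzStab5

/-!
Kernel checks: a chain of the stabiliser of one double coset.
-/

set_option autoImplicit false
set_option Elab.async false
set_option linter.style.longLine false

namespace CfsgLib.J4Pres
open CfsgLib.CosetEnum CfsgLib.TwistCoset
theorem k5_base0 : levBase pzCertL [] 4033 k5Gens0 k5Ents0 = true := by decide +kernel

theorem k5_walk0_0 : walkStep pzCertL k5Gens0 k5Ent0P0 [4033] [12444,1734,9107,8708,4033] = true := by decide +kernel

theorem k5_walk0_1 : walkStep pzCertL k5Gens0 k5Ent0P1 [12444,1734,9107,8708,4033] [6847,5881,6972,4033] = true := by decide +kernel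

theorem k5_walk0_2 : walkStep pzCertL k5Gens0 k5Ent0P2 [6847,5881,6972,4033] [14758,10891,12416,4033] = true := by decide +kernel

theorem k5_walk0_3 : walkStep pzCertL k5Gens0 k5Ent0P3 [14758,10891,12416,4033] [5374,7063,12120,4033] = true := by decide +kernel

theorem k5_walk0_4 : walkStep pzCertL k5Gens0 k5Ent0P4 [5374,7063,12120,4033] [13058,9759,2157,4033] = true := by decide +kernel

theorem k5_walk0_5 : walkStep pzCertL k5Gens0 k5Ent0P5 [13058,9759,2157,4033] [5551,9237,7540,5159,4033] = true := by decide +kernel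

theorem k5_walk0_6 : walkStep pzCertL k5Gens0 k5Ent0P6 [5551,9237,7540,5159,4033] [11163,9916,2205,5159,4033] = true := by decide +kernel

theorem k5_walk0_7 : walkStep pzCertL k5Gens0 k5Ent0P7 [11163,9916,2205,5159,4033] [11983,7916,12296,12087,4033] = true := by decide +kernel

theorem k5_walk0_8 : walkStep pzCertL k5Gens0 k5Ent0P8 [11983,7916,12296,12087,4033] [14570,12087,4033] = true := by decide +kernel

theorem k5_walk0_9 : walkOK pzCertL k5Gens0 k5Ent0P9 [14570,12087,4033] = true := by decide +kernel

theorem k5_lev0 : levOK pzCertL [] 4033 k5Gens0 k5Ents0 = true := by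
  refine levOK_of k5_base0 ?_
  simp only [k5Ents0, List.flatten_cons, List.flatten_nil, List.append_nil]
  exact walkStep_append k5_walk0_0 (walkStep_append k5_walk0_1 (walkStep_append k5_walk0_2 (walkStep_append k5_walk0_3 (walkStep_append k5_walk0_4 (walkStep_append k5_walk0_5 (walkStep_append k5_walk0_6 (walkStep_append k5_walk0_7 (walkStep_append k5_walk0_8 (k5_walk0_9)))))))))

theorem k5_base1 : levBase pzCertL [4033] 0 k5Gens1 k5Ents1 = true := by decide +kernel

theorem k5_walk1_0 : walkOK pzCertL k5Gens1 k5Ent1P0 [0] = true := by decide +kernel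

theorem k5_lev1 : levOK pzCertL [4033] 0 k5Gens1 k5Ents1 = true := by
  refine levOK_of k5_base1 ?_
  simp only [k5Ents1, List.flatten_cons, List.flatten_nil, List.append_nil]
  exact k5_walk1_0

theorem k5_cOK : cOK pzCertL [] k5Chain = true :=
  cOK_tree k5_lev0 (cOK_tree k5_lev1 (cOK_nil))

theorem k5_len0 : k5Ents0.length = 2303 := by decide +kernel

theorem k5_len1 : k5Ents1.length = 3 := by decide +kernel

theorem k5_size : cSize k5Chain = 9216 := by
  simp [k5Chain, cSize, treeLev_length, k5_len0, k5_len1]

theorem k5_gens : k5Chain.map CLev.gens = k5Wits.map Prod.fst := rfl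

end CfsgLib.J4Pres
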