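import Cfsg.Agent.Lib.J4Pres.PzTwist
import Cfsg.Agent.Lib.J4Pres.PzStab6

/-!
Kernel checks: a chain of the stabiliser of one double coset.
-/

set_option autoImplicit false
set_option Elab.async false
set_option linter.style.longLine false

namespace CfsgLib.J4Pres
open CfsgLib.CosetEnum CfsgLib.TwistCoset
theorem k6_base0 : levBase pzCertL [] 11063 k6Gens0 k6Ents0 = true := by decide +kernel

theorem k6_walk0_0 : walkStep pzCertL k6Gens0 k6Ent0P0 [11063] [8555,9855,6705,8132,11063] = true := by decide +kernel

theorem k6_walk0_1 : walkStep pzCertL k6Gens0 k6Ent0P1 [8555,9855,6705,8132,11063] [2392,7789,13358,12306,8132,11063] = true := by decide +kernel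

theorem k6_walk0_2 : walkStep pzCertL k6Gens0 k6Ent0P2 [2392,7789,13358,12306,8132,11063] [3407,9584,4472,9495,1793,2368,11063] = true := by decide +kernel

theorem k6_walk0_3 : walkStep pzCertL k6Gens0 k6Ent0P3 [3407,9584,4472,9495,1793,2368,11063] [4123,8853,11820,2368,11063] = true := by decide +kernel

theorem k6_walk0_4 : walkStep pzCertL k6Gens0 k6Ent0P4 [4123,8853,11820,2368,11063] [13478,7571,13829,1184,4289,2368,11063] = true := by decide +kernel

theorem k6_walk0_5 : walkStep pzCertL k6Gens0 k6Ent0P5 [13478,7571,13829,1184,4289,2368,11063] [3988,6496,5853,5531,12864,13711,11063] = true := by decide +kernel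

theorem k6_walk0_6 : walkStep pzCertL k6Gens0 k6Ent0P6 [3988,6496,5853,5531,12864,13711,11063] [13988,11340,13711,11063] = true := by decide +kernel

theorem k6_walk0_7 : walkStep pzCertL k6Gens0 k6Ent0P7 [13988,11340,13711,11063] [6567,10687,746,7501,9329,5103,11063] = true := by decide +kernel

theorem k6_walk0_8 : walkStep pzCertL k6Gens0 k6Ent0P8 [6567,10687,746,7501,9329,5103,11063] [13780,11285,5747,9720,10132,5103,11063] = true := by decide +kernel

theorem k6_walk0_9 : walkStep pzCertL k6Gens0 k6Ent0P9 [13780,11285,5747,9720,10132,5103,11063] [7567,11097,14074,1096,60,7064,11063] = true := by decide +kernel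

theorem k6_walk0_10 : walkStep pzCertL k6Gens0 k6Ent0P10 [7567,11097,14074,1096,60,7064,11063] [4837,8802,4524,14881,4834,11063] = true := by decide +kernel

theorem k6_walk0_11 : walkStep pzCertL k6Gens0 k6Ent0P11 [4837,8802,4524,14881,4834,11063] [5696,2936,535,8031,4041,4834,11063] = true := by decide +kernel

theorem k6_walk0_12 : walkOK pzCertL k6Gens0 k6Ent0P12 [5696,2936,535,8031,4041,4834,11063] = true := by decide +kernel

theorem k6_lev0 : levOK pzCertL [] 11063 k6Gens0 k6Ents0 = true := by
  refine levOK_of k6_base0 ?_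
  simp only [k6Ents0, List.flatten_cons, List.flatten_nil, List.append_nil]
  exact walkStep_append k6_walk0_0 (walkStep_append k6_walk0_1 (walkStep_append k6_walk0_2 (walkStep_append k6_walk0_3 (walkStep_append k6_walk0_4 (walkStep_append k6_walk0_5 (walkStep_append k6_walk0_6 (walkStep_append k6_walk0_7 (walkStep_append k6_walk0_8 (walkStep_append k6_walk0_9 (walkStep_append k6_walk0_10 (walkStep_append k6_walk0_11 (k6_walk0_12))))))))))))

theorem k6_base1 : levBase pzCertL [11063] 0 k6Gens1 k6Ents1 = true := by decide +kernel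

theorem k6_walk1_0 : walkOK pzCertL k6Gens1 k6Ent1P0 [0] = true := by decide +kernel

theorem k6_lev1 : levOK pzCertL [11063] 0 k6Gens1 k6Ents1 = true := by
  refine levOK_of k6_base1 ?_
  simp only [k6Ents1, List.flatten_cons, List.flatten_nil, List.append_nil]
  exact k6_walk1_0

theorem k6_cOK : cOK pzCertL [] k6Chain = true :=
  cOK_tree k6_lev0 (cOK_tree k6_lev1 (cOK_nil))

theorem k6_len0 : k6Ents0.length = 3035 := by decide +kernel

theorem k6_len1 : k6Ents1.length = 1 := by decide +kernel

theorem k6_size : cSize k6Chain = 6072 := by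
  simp [k6Chain, cSize, treeLev_length, k6_len0, k6_len1]

theorem k6_gens : k6Chain.map CLev.gens = k6Wits.map Prod.fst := rfl

end CfsgLib.J4Pres
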