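import Cfsg.Agent.Lib.J4Pres.PzRig
import Cfsg.Agent.Lib.J4Pres.PzStabCheck1
import Cfsg.Agent.Lib.J4Pres.PzStabCheck2
import Cfsg.Agent.Lib.J4Pres.PzStabCheck3
import Cfsg.Agent.Lib.J4Pres.PzStabCheck4
import Cfsg.Agent.Lib.J4Pres.PzStabCheck5
import Cfsg.Agent.Lib.J4Pres.PzStabCheck6
import Cfsg.Agent.Lib.J4Pres.PzReach0
import Cfsg.Agent.Lib.J4Pres.PzReach1
import Cfsg.Agent.Lib.J4Pres.PzReach2
import Cfsg.Agent.Lib.J4Pres.PzReach3
import Cfsg.Agent.Lib.J4Pres.PzReach4
import Cfsg.Agent.Lib.J4Pres.PzReach5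
import Cfsg.Agent.Lib.J4Pres.PzReach6

/-!
An upper bound for the index of the subgroup of x, y and z in the presented fourth Janko group.
-/

set_option autoImplicit false

namespace CfsgLib.J4Pres

open Cfsg CfsgLib.CosetEnum CfsgLib.TwistCoset Cfsg.Spor

/-- the word of a stabiliser fact -/
noncomputable def stabWord (f : ℕ) : List ℕ :=
  match tw.fct f with
  | .stab _ p => p
  | _ => []

/-- every generator is a product of stabiliser facts of the state -/
noncomputable def witOK (i : ℕ) (ws : List (List (List ℕ) × List (List (ℕ × Bool)))) : Bool :=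
  ws.all fun e => (e.1 == e.2.map fun k => k.flatMap fun z => tw.sgn z.2 (stabWord z.1)) &&
    e.2.all fun k => k.all fun z => Nat.blt z.1 175 &&
      match tw.fct z.1 with
      | .stab i' _ => Nat.beq i' i
      | _ => false

theorem stab_mem {i : ℕ} {z : ℕ × Bool} (hz : z.1 < 175) {p : List ℕ}
    (hf : tw.fct z.1 = .stab i p) :
    prodW pzGen (tw.sgn z.2 p) ∈ tw.Kgrp pzGen 175 i := by
  have h : prodW pzGen p ∈ tw.Kgrp pzGen 175 i := Subgroup.subset_closure ⟨z.1, hz, p, hf, rfl⟩
  cases z.2 with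
  | false => exact h
  | true =>
    rw [TData.sgn, if_pos rfl, TData.rev_eq rig]
    exact inv_mem h

theorem wit_mem {i : ℕ} {ws : List (List (List ℕ) × List (List (ℕ × Bool)))}
    (h : witOK i ws = true) {gs : List (List ℕ)} (hgs : gs ∈ ws.map Prod.fst) {g : List ℕ}
    (hg : g ∈ gs) : prodW pzGen g ∈ tw.Kgrp pzGen 175 i := by
  simp only [witOK, List.all_eq_true, Bool.and_eq_true, beq_iff_eq, Nat.blt_eq] at h
  obtain ⟨e, he, rfl⟩ := List.mem_map.1 hgs
  obtain ⟨h1, h2⟩ := h e he
  rw [h1] at hg
  obtain ⟨k, hk, rfl⟩ := List.mem_map.1 hg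
  have hks := h2 k hk
  clear hk hg h1
  induction k with
  | nil => exact one_mem _
  | cons z k ih =>
    rw [List.flatMap_cons, prodW_append]
    refine mul_mem ?_ (ih fun a ha => hks a (List.mem_cons_of_mem _ ha))
    obtain ⟨hz, h3⟩ := hks z List.mem_cons_self
    cases hf : tw.fct z.1 with
    | edge a b c d => simp [hf] at h3
    | stab i' p =>
      simp only [hf] at h3
      obtain rfl := Nat.eq_of_beq_eq_true h3
      rw [stabWord, hf]
      exact stab_mem hz hf

theorem index_of_chain {i n : ℕ} {ls : List CLev}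
    {ws : List (List (List ℕ) × List (List (ℕ × Bool)))} (h : cOK pzCertL [] ls = true)
    (hn : cSize ls = n) (hg : ls.map CLev.gens = ws.map Prod.fst) (hw : witOK i ws = true) :
    n * (tw.Kgrp pzGen 175 i).index ≤ 501397585920 := by
  haveI := finite_PZ
  have hc : n ≤ Nat.card (tw.Kgrp pzGen 175 i) := by
    rw [← hn]
    refine pzAct.card_ge h fun l hl g hgl => wit_mem hw ?_ hgl
    rw [← hg]
    exact List.mem_map_of_mem hl
  calc n * (tw.Kgrp pzGen 175 i).index ≤ Nat.card (tw.Kgrp pzGen 175 i) * (tw.Kgrp pzGen 175 i).index :=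
        Nat.mul_le_mul_right _ hc
    _ = Nat.card PZ := Subgroup.card_mul_index _
    _ = 501397585920 := card_PZ

theorem k1_wit : witOK 1 k1Wits = true := by decide +kernel

theorem k2_wit : witOK 2 k2Wits = true := by decide +kernel

theorem k3_wit : witOK 3 k3Wits = true := by decide +kernel

theorem k4_wit : witOK 4 k4Wits = true := by decide +kernel

theorem k5_wit : witOK 5 k5Wits = true := by decide +kernel

theorem k6_wit : witOK 6 k6Wits = true := by decide +kernel

theorem state0_check : ([0, 1, 3].zip (List.range 3)).all (fun e =>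
    match tw.fct e.2 with
    | .stab i p => Nat.beq i 0 && (p == [e.1])
    | _ => false) = true := by decide +kernel

theorem Kgrp_zero : tw.Kgrp pzGen 175 0 = ⊤ := by
  have h := state0_check
  simp only [List.all_eq_true] at h
  have hm : ∀ e ∈ [0, 1, 3].zip (List.range 3), pzGen e.1 ∈ tw.Kgrp pzGen 175 0 := by
    intro e he
    have h' := h e he
    have h2 : e.2 < 3 := List.mem_range.1 (List.of_mem_zip he).2
    cases hf : tw.fct e.2 with
    | edge a b c d => simp [hf] at h'
    | stab i p =>
      simp only [hf, Bool.and_eq_true, beq_iff_eq] at h'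
      obtain rfl := Nat.eq_of_beq_eq_true h'.1
      exact Subgroup.subset_closure ⟨e.2, by omega, p, hf, by rw [h'.2, prodW_single]⟩
  rw [eq_top_iff, ← pzGen_top, Subgroup.closure_le]
  rintro _ ⟨g, hg, rfl⟩
  rw [pz_data.1] at hg
  interval_cases g
  · exact hm (0, 0) (by decide)
  · exact hm (1, 1) (by decide)
  · have e : pzCertE.inv 1 = 2 := by decide +kernel
    rw [← e, (inv_eq_of_mul_eq_one_right (pz_inv pz_data.2.1 1)).symm]
    exact inv_mem (hm (1, 1) (by decide))
  · exact hm (3, 2) (by decide)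

theorem finite_index_le : Finite (J4 ⧸ subXYZ) ∧ subXYZ.index ≤ 173067389 := by
  haveI := finite_PZ
  have hK : tw.C = pzCertL := rfl
  have hN : tw.C.N = 15180 := pz_data.2.2.2.2.2.2.1
  have hrun : ∀ w, (∀ g ∈ w, g < tw.C.K) → tw.C.run 0 w < tw.C.N := fun w hw => by
    change pzCertL.run 0 w < pzCertL.N
    rw [run0_eq hw]
    exact Fin.isLt _
  have hns : tw.ns = 7 := by
    have h := tw_misc
    simp only [Bool.and_eq_true] at h
    exact Nat.eq_of_beq_eq_true h.2
  have hroots : ∀ i < tw.ns, tw.rootsOK 175 i = true := by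
    rw [hns]
    intro i hi
    interval_cases i
    exacts [tw_roots0, tw_roots1, tw_roots2, tw_roots3, tw_roots4, tw_roots5, tw_roots6]
  have hreach : ∀ i < tw.ns, ∀ p < tw.C.N, tw.Reach 175 i p := by
    rw [hns, hN]
    intro i hi
    interval_cases i
    exacts [tw_reach0 rig, tw_reach1 rig, tw_reach2 rig, tw_reach3 rig, tw_reach4 rig, tw_reach5 rig,
      tw_reach6 rig]
  obtain ⟨hf, hle⟩ := TData.finite_index_le rig tw_cos tw_holds (by omega) hroots hreach hrun
  refine ⟨hf, hle.trans ?_⟩
  rw [← Fin.sum_congr' (fun i : Fin tw.ns => (tw.Kgrp pzGen 175 i).index) hns.symm]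
  simp only [Fin.sum_univ_seven, Fin.val_cast]
  have h0 : (tw.Kgrp pzGen 175 0).index = 1 := by rw [Kgrp_zero, Subgroup.index_top]
  have h1 := index_of_chain k1_cOK k1_size k1_gens k1_wit
  have h2 := index_of_chain k2_cOK k2_size k2_gens k2_wit
  have h3 := index_of_chain k3_cOK k3_size k3_gens k3_wit
  have h4 := index_of_chain k4_cOK k4_size k4_gens k4_wit
  have h5 := index_of_chain k5_cOK k5_size k5_gens k5_wit
  have h6 := index_of_chain k6_cOK k6_size k6_gens k6_wit
  simp only [Fin.val_zero, Fin.val_one, Fin.val_two, show ((3 : Fin 7) : ℕ) = 3 from rfl,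
    show ((4 : Fin 7) : ℕ) = 4 from rfl, show ((5 : Fin 7) : ℕ) = 5 from rfl,
    show ((6 : Fin 7) : ℕ) = 6 from rfl]
  omega

theorem finite_J4 : Finite J4 := by
  haveI := finite_PZ
  haveI := finite_index_le.1
  haveI : Finite toH.range := Finite.of_surjective _ toH.rangeRestrict_surjective
  haveI : Finite subXYZ := toH_range ▸ this
  exact Finite.of_equiv _ (Subgroup.groupEquivQuotientProdSubgroup (s := subXYZ)).symm

theorem card_J4_le : Nat.card J4 ≤ 86775571046077562880 := by
  haveI := finite_J4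
  have h : Nat.card subXYZ ≤ 501397585920 := by
    haveI := finite_PZ
    rw [toH_range, ← card_PZ]
    exact Nat.card_le_card_of_surjective _ toH.rangeRestrict_surjective
  rw [← subXYZ.card_mul_index]
  calc Nat.card subXYZ * subXYZ.index ≤ 501397585920 * 173067389 :=
        Nat.mul_le_mul h finite_index_le.2
    _ = 86775571046077562880 := by norm_num

end CfsgLib.J4Pres
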