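import Cfsg.Agent.Lib.J4Pres.TrioElem
import Cfsg.Agent.Lib.J4Pres.CheckPzE
import Cfsg.Agent.Lib.J4Pres.CheckPzL
import Cfsg.Agent.Lib.TwistCoset.Act

/-!
The presented group of x, y, z: a bound for its order, its action on 15180 points and its map
to the fourth Janko group.
-/

set_option autoImplicit false

namespace CfsgLib.J4Pres

open Cfsg CfsgLib.CosetEnum CfsgLib.TwistCoset Cfsg.Spor

/-- the letters x, y, y⁻¹, z as free generators -/
def pzFree : ℕ → FreeGroup (Fin 3)
  | 0 => FreeGroup.of 0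
  | 1 => FreeGroup.of 1
  | 2 => (FreeGroup.of 1)⁻¹
  | 3 => FreeGroup.of 2
  | _ => 1

/-- the relators -/
def pzRelSet : Set (FreeGroup (Fin 3)) := {x | ∃ r ∈ pzCertE.rels, prodW pzFree r = x}

/-- the presented group -/
abbrev PZ : Type := PresentedGroup pzRelSet

/-- its letters -/
def pzGen (i : ℕ) : PZ := PresentedGroup.mk pzRelSet (pzFree i)

theorem pzGen_rel {r : List ℕ} (hr : r ∈ pzCertE.rels) : prodW pzGen r = 1 := by
  unfold pzGen
  rw [← map_prodW]
  exact PresentedGroup.one_of_mem ⟨r, hr, rfl⟩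

theorem pzGen_of_ge {g : ℕ} (h : 4 ≤ g) : pzGen g = 1 := by
  obtain ⟨n, rfl⟩ : ∃ n, g = n + 4 := ⟨g - 4, by omega⟩
  simp [pzGen, pzFree]

theorem pz_data : pzCertE.K = 4 ∧ pzCertE.invs = [0, 2, 1, 3] ∧ pzCertE.subs = [[0], [1]] ∧
    pzCertE.N = 2048 ∧ pzCertL.K = 4 ∧ pzCertL.invs = [0, 2, 1, 3] ∧ pzCertL.N = 15180 ∧
    pzCertL.rels = pzCertE.rels ∧ [0, 0] ∈ pzCertE.rels ∧ [3, 3] ∈ pzCertE.rels ∧
    (∀ r ∈ m24CertG.rels, r ∈ pzCertE.rels) ∧ (∀ r ∈ pzCertE.rels, ∀ g ∈ r, g < 4) := by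
  decide +kernel

theorem pz_inv {C : Cert} (hi : C.invs = [0, 2, 1, 3]) (g : ℕ) :
    pzGen g * pzGen (C.inv g) = 1 := by
  obtain ⟨-, -, -, -, -, -, -, -, h0, h3, -⟩ := pz_data
  have e0 := pzGen_rel h0
  have e3 := pzGen_rel h3
  simp only [prodW_cons, prodW_nil, mul_one] at e0 e3
  rw [Cert.inv, hi]
  match g with
  | 0 => exact e0
  | 1 => change PresentedGroup.mk _ (pzFree 1) * PresentedGroup.mk _ (pzFree 2) = 1
         rw [← map_mul]; simp [pzFree]
  | 2 => change PresentedGroup.mk _ (pzFree 2) * PresentedGroup.mk _ (pzFree 1) = 1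
         rw [← map_mul]; simp [pzFree]
  | 3 => exact e3
  | n + 4 => simp [pzGen_of_ge]

theorem pzGen_top : Subgroup.closure {y | ∃ g < pzCertE.K, pzGen g = y} = ⊤ := by
  rw [eq_top_iff, ← PresentedGroup.closure_range_of pzRelSet, Subgroup.closure_le]
  rintro _ ⟨i, rfl⟩
  rw [pz_data.1]
  fin_cases i
  exacts [Subgroup.subset_closure ⟨0, by norm_num, rfl⟩, Subgroup.subset_closure ⟨1, by norm_num, rfl⟩,
    Subgroup.subset_closure ⟨3, by norm_num, rfl⟩]

theorem pz_model {C : Cert} (hK : C.K = 4) (hi : C.invs = [0, 2, 1, 3])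
    (hR : C.rels = pzCertE.rels) {H : Subgroup PZ} (hs : ∀ w ∈ C.subs, prodW pzGen w ∈ H) :
    Model C H pzGen :=
  ⟨by rw [hK]; exact pzGen_of_ge le_rfl, pz_inv hi, fun _ hr => pzGen_rel (hR ▸ hr), hs⟩

theorem exists_xyHom : ∃ f : M24P →* PZ, ∀ g < 3, f (m24Gen g) = pzGen g := by
  have e : ∀ g < 3,
      FreeGroup.lift (fun i : Fin 2 => pzGen (i : ℕ)) (twoFree g) = pzGen g := by
    intro g hg
    interval_cases g <;> simp [twoFree, pzGen, pzFree]
  have key : ∀ r ∈ twoRels m24CertG.rels, FreeGroup.lift (fun i : Fin 2 => pzGen (i : ℕ)) r = 1 := by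
    rintro _ ⟨w, hw, rfl⟩
    have hl : m24CertG.rels.all (fun r => r.all fun g => Nat.blt g 3) = true := by decide +kernel
    simp only [List.all_eq_true, Nat.blt_eq] at hl
    rw [map_prodW, prodW_congr (gen' := pzGen) fun g hg => e g (hl w hw g hg)]
    exact pzGen_rel (pz_data.2.2.2.2.2.2.2.2.2.2.1 w hw)
  exact ⟨PresentedGroup.toGroup key, fun g hg => e g hg⟩

theorem card_PZ_le : Finite PZ ∧ Nat.card PZ ≤ 2048 * 244823040 := by
  obtain ⟨f, hf⟩ := exists_xyHom
  haveI := m24P_card_le.1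
  haveI : Finite f.range := Finite.of_surjective _ f.rangeRestrict_surjective
  have hc : Nat.card f.range ≤ 244823040 :=
    (Nat.card_le_card_of_surjective _ f.rangeRestrict_surjective).trans m24P_card_le.2
  have m : Model pzCertE f.range pzGen := pz_model pz_data.1 pz_data.2.1 rfl fun w hw => by
    rw [pz_data.2.2.1] at hw
    simp only [List.mem_cons, List.not_mem_nil, or_false] at hw
    rcases hw with rfl | rfl
    exacts [⟨m24Gen 0, by simp [hf]⟩, ⟨m24Gen 1, by simp [hf]⟩]
  have h := finite_card_le pzCertE_complete m _ hc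
  rw [pzGen_top, pz_data.2.2.2.1] at h
  haveI := h.1
  exact ⟨Finite.of_equiv _ Subgroup.topEquiv.toEquiv,
    (Nat.card_congr Subgroup.topEquiv.toEquiv).ge.trans h.2⟩

theorem finite_PZ : Finite PZ := card_PZ_le.1

/-- the letters in the Janko group -/
noncomputable def jz (g : ℕ) : J4 := if g < 3 then jg g else if g = 3 then zz else 1

theorem jz_of_lt {g : ℕ} (h : g < 3) : jz g = jg g := if_pos h

theorem jz_three : jz 3 = zz := by simp [jz]

theorem prodW_jz {w : List ℕ} (h : okW w = true) : prodW jz w = prodW jg w :=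
  prodW_congr fun _ hg => jz_of_lt (okW_lt h _ hg)

/-- the relators that say how z commutes and multiplies -/
noncomputable def pzShape : Bool :=
  match startParts with
  | [(p, _), (q, _), (r, _)] =>
    okW (upW 64 q) && okW (upW 64 r) && (upW 64 p == []) &&
      relBase == [0, trioCertZ.run 0 (upW 64 q), trioCertZ.run 0 (upW 64 r)] &&
      trioCertZ.subs.all okW && trioCertT.rels.all okW &&
      pzCertE.rels == trioCertT.rels ++ [[3, 3]] ++
          trioCertZ.subs.map (fun s => trioCertZ.revInv s ++ [3] ++ s ++ [3]) ++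
        [[3] ++ trioCertZ.revInv (upW 64 q) ++ [3] ++ upW 64 q ++
          trioCertZ.revInv (upW 64 r) ++ [3] ++ upW 64 r]
  | _ => false

theorem okW_rev {w : List ℕ} (h : okW w = true) : okW (trioCertZ.revInv w) = true := by
  simp only [okW, List.all_eq_true, Nat.blt_eq, Cert.revInv, List.mem_reverse, List.mem_map]
  rintro g ⟨k, hk, rfl⟩
  exact trioCertZ_complete.inv_lt (okW_lt h k hk)

theorem prodW_jz_rev {w : List ℕ} (h : okW w = true) :
    prodW jz (trioCertZ.revInv w) = (prodW jg w)⁻¹ := by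
  rw [prodW_jz (okW_rev h), zModel.revInv_eq]

theorem jz_rel {r : List ℕ} (hr : r ∈ pzCertE.rels) : prodW jz r = 1 := by
  have h : pzShape = true := by decide +kernel
  unfold pzShape at h
  split at h
  case h_2 => simp at h
  rename_i p a q b r' c _
  simp only [Bool.and_eq_true, beq_iff_eq, List.all_eq_true] at h
  obtain ⟨⟨⟨⟨⟨⟨hq, hr'⟩, -⟩, hbase⟩, hsubs⟩, hT⟩, hrels⟩ := h
  rw [hrels] at hr
  simp only [List.mem_append, List.mem_singleton, List.mem_map] at hr
  rcases hr with ((hr | rfl) | ⟨s, hs, rfl⟩) | rfl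
  · rw [prodW_jz (hT r hr)]
    exact trioModel.rel r hr
  · simp [jz_three, zz_sq]
  · have hc : Commute (prodW jg s) zz := mem_centZ.1 (zModel.sub s hs)
    simp only [prodW_append, prodW_jz_rev (hsubs s hs), prodW_jz (hsubs s hs), prodW_single, jz_three]
    calc (prodW jg s)⁻¹ * zz * prodW jg s * zz
        = (prodW jg s)⁻¹ * (prodW jg s * zz) * zz := by rw [hc.eq]; group
      _ = zz * zz := by group
      _ = 1 := zz_sq
  · have e : ∀ u, okW u = true → (prodW jg u)⁻¹ * zz * prodW jg u = zeta (trioCertZ.run 0 u) := by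
      intro u hu
      rw [← zeta_zero]
      exact (zeta_conj trioCertZ_complete.N_pos (okW_lt hu)).2
    have h0 := base_rel
    rw [hbase] at h0
    simp only [prodW_cons, prodW_nil, mul_one, zeta_zero, ← e _ hq, ← e _ hr'] at h0
    simp only [prodW_append, prodW_jz_rev hq, prodW_jz_rev hr', prodW_jz hq, prodW_jz hr',
      prodW_single, jz_three]
    simpa [mul_assoc] using h0

theorem exists_toH : ∃ f : PZ →* J4, ∀ g, f (pzGen g) = jz g := by
  have e : ∀ g, FreeGroup.lift (fun i : Fin 3 => [jg 0, jg 1, zz].get i) (pzFree g) = jz g := by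
    intro g
    by_cases hg : g < 4
    · interval_cases g <;> simp [pzFree, jz, jg_one, jg_two]
    · obtain ⟨n, rfl⟩ : ∃ n, g = n + 4 := ⟨g - 4, by omega⟩
      simp [pzFree, jz, show ¬ n + 4 < 3 by omega, show n + 4 ≠ 3 by omega]
  have key : ∀ r ∈ pzRelSet, FreeGroup.lift (fun i : Fin 3 => [jg 0, jg 1, zz].get i) r = 1 := by
    rintro _ ⟨w, hw, rfl⟩
    rw [map_prodW, prodW_congr (gen' := jz) fun g _ => e g]
    exact jz_rel hw
  exact ⟨PresentedGroup.toGroup key, e⟩

/-- the map to the Janko group -/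
noncomputable def toH : PZ →* J4 := exists_toH.choose

theorem toH_gen (g : ℕ) : toH (pzGen g) = jz g := exists_toH.choose_spec g

theorem toH_word (w : List ℕ) : toH (prodW pzGen w) = prodW jz w := by
  rw [map_prodW]
  exact prodW_congr fun g _ => toH_gen g

theorem pz_cancel {x : ℕ} (hx : x < pzCertL.N) {g : ℕ} (hg : g < 4) :
    pzCertL.T (pzCertL.T x g) (pzCertL.inv g) = x := by
  have h2 := pzCertL_action.act x hx
  unfold Cert.actOK at h2
  simp only [strict_eq, band_eq_true] at h2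
  have h3 := Cert.allBelow_spec h2.1 g (pz_data.2.2.2.2.1.symm ▸ hg)
  simp only [band_eq_true, Cert.invK_eq] at h3
  exact Nat.eq_of_beq_eq_true h3.2

theorem exists_pzAct : ∃ ψ : PZ →* (Equiv.Perm (Fin pzCertL.N))ᵐᵒᵖ, ∀ g < 4,
    ψ (pzGen g) = MulOpposite.op (letterPerm pzCertL_complete pzCertL_action g)⁻¹ := by
  let p := letterPerm pzCertL_complete pzCertL_action
  let f : ℕ → (Equiv.Perm (Fin pzCertL.N))ᵐᵒᵖ := fun g => MulOpposite.op (p g)⁻¹
  have hf : ∀ w, prodW f w = MulOpposite.op (prodW p w)⁻¹ := by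
    intro w
    induction w with
    | nil => simp
    | cons g w ih => rw [prodW_cons, ih, prodW_cons, ← MulOpposite.op_mul, mul_inv_rev]
  have h12 : p 1 * p 2 = 1 := by
    refine Equiv.ext fun x => Fin.ext ?_
    have e : p 1 * p 2 = prodW p [1, 2] := by simp
    rw [e, prodW_letterPerm pzCertL_complete pzCertL_action (w := [1, 2]) (fun g hg => by
      rw [pz_data.2.2.2.2.1]
      simp at hg
      omega)]
    have hi : pzCertL.inv 1 = 2 ∧ pzCertL.inv 2 = 1 := by decide +kernel
    simp only [Cert.revInv, List.map_cons, List.map_nil, List.reverse_cons, List.reverse_nil,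
      List.nil_append, List.singleton_append, Cert.run_cons, Cert.run_nil, Equiv.Perm.coe_one,
      id_eq, hi.1, hi.2]
    simpa [hi.1] using pz_cancel x.2 (g := 1) (by norm_num)
  let q : Fin 3 → (Equiv.Perm (Fin pzCertL.N))ᵐᵒᵖ := fun i => [f 0, f 1, f 3].get i
  have e : ∀ g < 4, FreeGroup.lift q (pzFree g) = f g := by
    intro g hg
    have : (f 1)⁻¹ = f 2 := by
      simp only [f, ← MulOpposite.op_inv, inv_inv]
      rw [eq_inv_of_mul_eq_one_right h12, inv_inv]
    interval_cases g <;> simp [pzFree, q, this]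
  have key : ∀ r ∈ pzRelSet, FreeGroup.lift q r = 1 := by
    rintro _ ⟨w, hw, rfl⟩
    obtain ⟨-, -, -, -, -, -, -, hR, -, -, -, hl⟩ := pz_data
    rw [map_prodW, prodW_congr (gen' := f) fun g hg => e g (hl w hw g hg), hf,
      prodW_letterPerm_rel pzCertL_complete pzCertL_action w (hR.symm ▸ hw), inv_one,
      MulOpposite.op_one]
  exact ⟨PresentedGroup.toGroup key, e⟩

/-- the action on 15180 points -/
noncomputable def pzAct : Act pzCertL pzGen where
  ψ := exists_pzAct.choose
  inv_mul := pz_inv pz_data.2.2.2.2.2.1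
  inv_lt _ hg := pzCertL_complete.inv_lt hg
  apply w := by
    induction w with
    | nil => intro _ x; simp [Cert.run_nil]
    | cons g w ih =>
      intro hw x
      rw [List.forall_mem_cons] at hw
      rw [prodW_cons, map_mul, exists_pzAct.choose_spec g (pz_data.2.2.2.2.1 ▸ hw.1),
        MulOpposite.unop_mul, MulOpposite.unop_op, Equiv.Perm.mul_apply, ih hw.2, Cert.run_cons]
      congr 1
      simp [letterPerm, hw.1]

end CfsgLib.J4Pres
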