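import Cfsg.Agent.Lib.J4Pres.PzTwist
import Cfsg.Agent.Lib.J4Pres.PzTree5

/-!
Kernel checks of the reached points of one double coset.
-/

set_option autoImplicit false
set_option Elab.async false
set_option linter.style.longLine false

namespace CfsgLib.J4Pres
open CfsgLib.CosetEnum CfsgLib.TwistCoset

theorem tw_reach5_0 : tw.reachStep 175 5 (twTree5P0.map leafOf) 0 twMask5_1 = true := by decide +kernel

theorem tw_reach5_1 : tw.reachStep 175 5 (twTree5P1.map leafOf) twMask5_1 twMask5_2 = true := by decide +kernel

theorem tw_reach5_2 : tw.reachStep 175 5 (twTree5P2.map leafOf) twMask5_2 twMask5_3 = true := by decide +kernel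

theorem tw_reach5_3 : tw.reachStep 175 5 (twTree5P3.map leafOf) twMask5_3 twMask5_4 = true := by decide +kernel

theorem tw_reach5_4 : tw.reachStep 175 5 (twTree5P4.map leafOf) twMask5_4 twMask5_5 = true := by decide +kernel

theorem tw_reach5_5 : tw.reachStep 175 5 (twTree5P5.map leafOf) twMask5_5 twMask5_6 = true := by decide +kernel

theorem tw_reach5_6 : tw.reachStep 175 5 (twTree5P6.map leafOf) twMask5_6 twMask5_7 = true := by decide +kernel

theorem tw_reach5_7 : tw.reachStep 175 5 (twTree5P7.map leafOf) twMask5_7 twMask5_8 = true := by decide +kernel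

theorem tw_reach5_8 : tw.reachStep 175 5 (twTree5P8.map leafOf) twMask5_8 twMask5_9 = true := by decide +kernel

theorem tw_reach5_9 : tw.reachStep 175 5 (twTree5P9.map leafOf) twMask5_9 twMask5_10 = true := by decide +kernel

theorem tw_reach5_10 : tw.reachStep 175 5 (twTree5P10.map leafOf) twMask5_10 twMask5_11 = true := by decide +kernel

theorem tw_reach5_11 : tw.reachStep 175 5 (twTree5P11.map leafOf) twMask5_11 twMask5_12 = true := by decide +kernel

theorem tw_reach5_12 : tw.reachStep 175 5 (twTree5P12.map leafOf) twMask5_12 twMask5_13 = true := by decide +kernel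

theorem tw_reach5_13 : tw.reachStep 175 5 (twTree5P13.map leafOf) twMask5_13 twMask5_14 = true := by decide +kernel

theorem tw_reach5_14 : tw.reachStep 175 5 (twTree5P14.map leafOf) twMask5_14 twMask5_15 = true := by decide +kernel

theorem tw_reach5_15 : tw.reachStep 175 5 (twTree5P15.map leafOf) twMask5_15 twMask5_16 = true := by decide +kernel

theorem tw_reach5_16 : tw.reachStep 175 5 (twTree5P16.map leafOf) twMask5_16 twMask5_17 = true := by decide +kernel

theorem tw_reach5_17 : tw.reachStep 175 5 (twTree5P17.map leafOf) twMask5_17 twMask5_18 = true := by decide +kernel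

theorem tw_reach5_18 : tw.reachStep 175 5 (twTree5P18.map leafOf) twMask5_18 twMask5_19 = true := by decide +kernel

theorem tw_reach5_19 : tw.reachStep 175 5 (twTree5P19.map leafOf) twMask5_19 twMask5_20 = true := by decide +kernel

theorem tw_reach5_20 : tw.reachStep 175 5 (twTree5P20.map leafOf) twMask5_20 twMask5_21 = true := by decide +kernel

theorem tw_reach5_21 : tw.reachStep 175 5 (twTree5P21.map leafOf) twMask5_21 twMask5_22 = true := by decide +kernel

theorem tw_reach5_22 : tw.reachStep 175 5 (twTree5P22.map leafOf) twMask5_22 twMask5_23 = true := by decide +kernel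

theorem tw_reach5_23 : tw.reachStep 175 5 (twTree5P23.map leafOf) twMask5_23 twMask5_24 = true := by decide +kernel

theorem tw_reach5_24 : tw.reachStep 175 5 (twTree5P24.map leafOf) twMask5_24 twMask5_25 = true := by decide +kernel

theorem tw_reach5_25 : tw.reachStep 175 5 (twTree5P25.map leafOf) twMask5_25 twMask5_26 = true := by decide +kernel

theorem tw_reach5_26 : tw.reachStep 175 5 (twTree5P26.map leafOf) twMask5_26 twMask5_27 = true := by decide +kernel

theorem tw_reach5_27 : tw.reachStep 175 5 (twTree5P27.map leafOf) twMask5_27 twMask5_28 = true := by decide +kernel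

theorem tw_reach5_28 : tw.reachStep 175 5 (twTree5P28.map leafOf) twMask5_28 twMask5_29 = true := by decide +kernel

theorem tw_reach5_29 : tw.reachStep 175 5 (twTree5P29.map leafOf) twMask5_29 twMask5_30 = true := by decide +kernel

theorem tw_reach5_30 : tw.reachStep 175 5 (twTree5P30.map leafOf) twMask5_30 (2 ^ 15180 - 1) = true := by decide +kernel

theorem tw_reach5 {P G : Type*} [Group P] [Group G] {gen0 : ℕ → P} {φ : P →* G}
    {H : Subgroup G} {t : G} (R : TRig tw gen0 φ H t) : ∀ p < 15180, tw.Reach 175 5 p := by
  intro p hp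
  refine TData.reachStep_spec R tw_reach5_30 (TData.reachStep_spec R tw_reach5_29 (TData.reachStep_spec R tw_reach5_28 (TData.reachStep_spec R tw_reach5_27 (TData.reachStep_spec R tw_reach5_26 (TData.reachStep_spec R tw_reach5_25 (TData.reachStep_spec R tw_reach5_24 (TData.reachStep_spec R tw_reach5_23 (TData.reachStep_spec R tw_reach5_22 (TData.reachStep_spec R tw_reach5_21 (TData.reachStep_spec R tw_reach5_20 (TData.reachStep_spec R tw_reach5_19 (TData.reachStep_spec R tw_reach5_18 (TData.reachStep_spec R tw_reach5_17 (TData.reachStep_spec R tw_reach5_16 (TData.reachStep_spec R tw_reach5_15 (TData.reachStep_spec R tw_reach5_14 (TData.reachStep_spec R tw_reach5_13 (TData.reachStep_spec R tw_reach5_12 (TData.reachStep_spec R tw_reach5_11 (TData.reachStep_spec R tw_reach5_10 (TData.reachStep_spec R tw_reach5_9 (TData.reachStep_spec R tw_reach5_8 (TData.reachStep_spec R tw_reach5_7 (TData.reachStep_spec R tw_reach5_6 (TData.reachStep_spec R tw_reach5_5 (TData.reachStep_spec R tw_reach5_4 (TData.reachStep_spec R tw_reach5_3 (TData.reachStep_spec R tw_reach5_2 (TData.reachStep_spec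 R tw_reach5_1 (TData.reachStep_spec R tw_reach5_0 (fun q hq => absurd hq (by simp)))))))))))))))))))))))))))))))) p ?_
  rw [Nat.testBit_two_pow_sub_one, decide_eq_true hp]

end CfsgLib.J4Pres
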