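import Mathlib.Data.List.Basic

/-!
Words for the action of t on the subgroup of x, y and z.
-/

set_option autoImplicit false
set_option linter.style.longLine false

namespace CfsgLib.J4Pres

/-- the conjugating word of the translation on which t acts -/
def twG : List ℕ := [0, 1, 0, 2, 0, 1, 0, 1, 0, 1, 0, 1, 0, 1]

/-- its trios among the fifteen -/
def twTri : List ℕ := [0, 1, 2]

/-- the permutation by which t moves the translation -/
def twM : List ℕ := [0, 1, 0, 1, 0, 2, 0, 2, 0, 1, 0, 1, 0, 1, 0, 1, 0, 1, 0, 2, 0, 2, 0, 1, 0, 1, 0, 1, 0, 2, 0, 2, 0, 2, 0, 1, 0, 1, 0, 2, 0, 2, 0, 1, 0, 1, 0, 2, 0, 2, 0, 1, 0, 1, 0, 1, 0, 1, 0, 1, 0, 2, 0, 2, 0, 1, 0, 1, 0, 1, 0, 2, 0, 2, 0, 2, 0, 1, 0, 1, 0, 2, 0, 2, 0, 1, 0, 1, 0, 2, 0, 2, 0, 1, 0, 1, 0, 1, 0, 1, 0, 1, 0, 2, 0, 2, 0, 1, 0, 1, 0, 1, 0, 2, 0, 2, 0, 2, 0, 1, 0, 1, 0, 2, 0, 2]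

/-- moves from the conjugate -/
def twMovesA : List (ℕ × Bool × ℕ × List ℕ × List ℕ) := [
  (0, false, 25723972, [0, 4], [7]),
  (2, true, 35813708187014305585220728962652255229109267066040207615554302651831230993, [], []),
  (1, true, 177313232328094706114113637465257926575096271630092733859129263416209961357244804381346191422492280900, [], [])]

/-- moves from the product -/
def twMovesB : List (ℕ × Bool × ℕ × List ℕ × List ℕ) := [
  (0, false, 25723972, [4], [7, 0])]

/-- the conjugating word of the third generator -/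
def zdW : List ℕ := [1, 0, 1, 0, 1, 0, 1, 0, 2, 0]

end CfsgLib.J4Pres
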