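import Cfsg.Agent.Lib.J4Pres.TrioElem
import Cfsg.Agent.Lib.J4Pres.PzWords

/-!
Words in x, y, z and t equal to one in the presented fourth Janko group, and the action of t on
a translation.
-/

set_option autoImplicit false

namespace CfsgLib.J4Pres

open Cfsg CfsgLib.CosetEnum Cfsg.Spor

/-- the letters x, y, y⁻¹, z, t -/
noncomputable def j5 (g : ℕ) : J4 :=
  if g < 3 then jg g else if g = 3 then zz else if g = 4 then tt else 1

theorem j5_three : j5 3 = zz := by simp [j5]

theorem j5_four : j5 4 = tt := by simp [j5]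

theorem prodW_j5 {w : List ℕ} (h : okW w = true) : prodW j5 w = prodW jg w :=
  prodW_congr fun g hg => if_pos (okW_lt h g hg)

/-- a word twice -/
def twice (w : List ℕ) : List ℕ := w ++ w

/-- a word three times -/
def thrice (w : List ℕ) : List ℕ := w ++ w ++ w

/-- the word of the relator on the line -/
def lineRel : List ℕ :=
  thrice ([1] ++ trioCertT.revInv [1, 0, 2, 0, 1, 0, 2, 0] ++ [4] ++ [1, 0, 2, 0, 1, 0, 2, 0])

/-- the word of the translation relator -/
def pairRel : List ℕ := twice (ruleM ++ [4] ++ trioCertT.revInv ruleDW ++ [4] ++ ruleDW)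

/-- the word saying what z is -/
def zdRel : List ℕ := thrice ([1] ++ trioCertT.revInv zdW ++ [4] ++ zdW) ++ [3]

/-- the relators -/
def relsJ : List (List ℕ) := [lineRel, pairRel, zdRel]

theorem gen6_flat (k : ℕ) (hk : k < 12) {v : List ℕ} (h : (flatRel k).map fold6 = v) :
    prodW gen6 v = 1 := by
  rw [← h]
  exact (gen6_map_fold _).trans (gen6_relator hk)

/-- from five letters to six: the letter of t changes -/
def toSix (g : ℕ) : ℕ := if g = 4 then 3 else g

theorem prodW_toSix {v : List ℕ} (h : (v.all fun g => Nat.blt g 3 || Nat.beq g 4) = true) :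
    prodW j5 v = prodW gen6 (v.map toSix) := by
  simp only [List.all_eq_true, Bool.or_eq_true, Nat.blt_eq] at h
  rw [prodW, prodW, List.map_map]
  refine congrArg List.prod (List.map_congr_left fun g hg => ?_)
  rcases h g hg with h' | h'
  · simp [j5, toSix, h', show g ≠ 4 by omega, jg_gen6 g h']
  · obtain rfl := Nat.eq_of_beq_eq_true h'
    simp [toSix, j5_four, gen6_three]

theorem lineRel_one : prodW j5 lineRel = 1 := by
  rw [prodW_toSix (by decide +kernel)]
  exact gen6_flat 10 (by norm_num) (by decide +kernel)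

theorem pairRel_one : prodW j5 pairRel = 1 := by
  rw [prodW_toSix (by decide +kernel)]
  exact gen6_flat 11 (by norm_num) (by decide +kernel)

theorem y_cube : jg 1 * jg 1 * jg 1 = 1 := by
  have := m24Gen_model.rel (powWord [1] 3) (by decide +kernel)
  rw [prodW_powWord, prodW_cons, prodW_nil, mul_one] at this
  rw [jg, ← map_mul, ← map_mul, ← pow_three', this, map_one]

theorem cube_eq : (jg 1 * ((prodW jg zdW)⁻¹ * tt * prodW jg zdW)) ^ 3 = zz := by
  have hw : okW zdW = true := by decide +kernel
  obtain ⟨h0, hc⟩ := tau_conj (i := 0) trioCertT_complete.N_pos (okW_lt hw)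
  rw [tau_zero] at hc
  obtain ⟨h1, hc1⟩ := tau_conj h0 (okW_lt (w := [1]) (by decide +kernel))
  obtain ⟨-, hc2⟩ := tau_conj h1 (okW_lt (w := [1]) (by decide +kernel))
  rw [prodW_single] at hc1 hc2
  rw [hc, pow_three']
  set k0 := trioCertT.run 0 zdW with hk0
  set k1 := trioCertT.run k0 [1] with hk1
  set k2 := trioCertT.run k1 [1] with hk2
  have hz : zz = tau k2 * tau k1 * tau k0 := by
    have hk : zLetters.map (fun i => sextTrios.getD i 0) = [k2, k1, k0] := by
      rw [hk2, hk1, hk0]; decide +kernel
    have hlt : ∀ i ∈ zLetters, i < 15 := by decide +kernel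
    have e : prodW sg zLetters = prodW tau (zLetters.map fun i => sextTrios.getD i 0) := by
      rw [prodW, prodW, List.map_map]
      exact congrArg List.prod (List.map_congr_left fun i hi => sg_of_lt (hlt i hi))
    rw [zz, e, hk]
    simp [mul_assoc]
  rw [hz, ← hc2, ← hc1]
  set y := jg 1
  set A := tau k0
  calc y * A * (y * A) * (y * A) = (y * y * y) * (y⁻¹ * (y⁻¹ * A * y) * y * (y⁻¹ * A * y) * A) := by
        group
    _ = y⁻¹ * (y⁻¹ * A * y) * y * (y⁻¹ * A * y) * A := by rw [y_cube, one_mul]

theorem zdRel_one : prodW j5 zdRel = 1 := by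
  have hw : okW zdW = true := by decide +kernel
  have hr : okW (trioCertT.revInv zdW) = true := by decide +kernel
  have hm : Model trioCertT (⊤ : Subgroup J4) jg :=
    jg_model rfl rfl (by decide +kernel) (fun _ _ => trivial)
  have h1 : okW [1] = true := rfl
  simp only [zdRel, thrice, prodW_append, prodW_j5 h1, prodW_j5 hw, prodW_j5 hr, hm.revInv_eq,
    prodW_single, j5_three, j5_four]
  have e := cube_eq
  rw [pow_three'] at e
  simp only [mul_assoc] at e ⊢
  calc _ = (jg 1 * ((prodW jg zdW)⁻¹ * (tt * prodW jg zdW)) * (jg 1 * ((prodW jg zdW)⁻¹ * (tt * prodW jg zdW))) *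
      (jg 1 * ((prodW jg zdW)⁻¹ * (tt * prodW jg zdW)))) * zz := by group
    _ = 1 := by simp only [mul_assoc]; rw [← zz_sq]; simp only [← mul_assoc] at e ⊢; rw [e]

theorem relsJ_one : ∀ r ∈ relsJ, prodW j5 r = 1 := by
  simp only [relsJ, List.mem_cons, List.not_mem_nil, or_false]
  rintro r (rfl | rfl | rfl)
  exacts [lineRel_one, pairRel_one, zdRel_one]

/-- both chains end in the same trios and in words with the same permutation -/
noncomputable def twistOK : Bool :=
  match runMoves twMovesA ([], 0 :: (sImg twG twTri ++ [0])), runMoves twMovesB (twM, sImg twG twTri) with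
  | some a, some b => okW a.1 && okW b.1 && a.2 == b.2 && imgW a.1 == imgW b.1
  | _, _ => false

theorem twist_z : tt * ((prodW jg twG)⁻¹ * zz * prodW jg twG) * tt =
    prodW jg twM * ((prodW jg twG)⁻¹ * zz * prodW jg twG) := by
  have h : twistOK = true := by decide +kernel
  have hg : okW twG = true := by decide +kernel
  have hs : sameS twTri zLetters = true := by decide +kernel
  have hA : ∀ k ∈ 0 :: (sImg twG twTri ++ [0]), k < trioCertT.N := by decide +kernel
  have hB : ∀ k ∈ sImg twG twTri, k < trioCertT.N := by decide +kernel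
  unfold twistOK at h
  split at h
  case h_2 => simp at h
  rename_i a b ha hb
  simp only [Bool.and_eq_true, beq_iff_eq] at h
  have ea := runMoves_spec (s := ([], 0 :: (sImg twG twTri ++ [0]))) hA ha
  have eb := runMoves_spec (s := (twM, sImg twG twTri)) hB hb
  have e : stVal a = stVal b := by
    rw [stVal, stVal, h.1.2, jg_eq_of_img h.1.1.1 h.1.1.2 h.2]
  rw [ea, eb] at e
  have hs' := hs
  simp only [sameS, Bool.and_eq_true, List.all_eq_true, Nat.blt_eq] at hs'
  have ez : prodW tau (sImg twG twTri) = (prodW jg twG)⁻¹ * zz * prodW jg twG := by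
    rw [sImg_spec hg hs'.1.1, sg_same hs, zz]
  simpa [stVal, prodW_append, ez, tau_zero, mul_assoc] using e

end CfsgLib.J4Pres
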