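import Cfsg.Agent.Lib.J4Pres.PzTwist
import Cfsg.Agent.Lib.J4Pres.PzTop

/-!
Kernel checks: a chain of the presented subgroup on 15180 points.
-/

set_option autoImplicit false
set_option Elab.async false
set_option linter.style.longLine false

namespace CfsgLib.J4Pres
open CfsgLib.CosetEnum CfsgLib.TwistCoset
theorem top_base0 : levBase pzCertL [] 0 topGens0 topEnts0 = true := by decide +kernel

theorem top_walk0_0 : walkStep pzCertL topGens0 topEnt0P0 [0] [11688,14118,14117,5062,5061,4041,4040,4039,4038,4037,1411,1412,1219,1218,215,216,92,91,82,81,4,3,2,1,0] = true := by decide +kernel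

theorem top_walk0_1 : walkStep pzCertL topGens0 topEnt0P1 [11688,14118,14117,5062,5061,4041,4040,4039,4038,4037,1411,1412,1219,1218,215,216,92,91,82,81,4,3,2,1,0] [15093,14475,14476,14477,13619,4893,4376,4377,1407,1408,1409,1410,1411,1412,1219,1218,215,216,92,91,82,81,4,3,2,1,0] = true := by decide +kernel

theorem top_walk0_2 : walkStep pzCertL topGens0 topEnt0P2 [15093,14475,14476,14477,13619,4893,4376,4377,1407,1408,1409,1410,1411,1412,1219,1218,215,216,92,91,82,81,4,3,2,1,0] [7253,7252,1723,1722,1220,1219,1218,215,216,92,91,82,81,4,3,2,1,0] = true := by decide +kernel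

theorem top_walk0_3 : walkStep pzCertL topGens0 topEnt0P3 [7253,7252,1723,1722,1220,1219,1218,215,216,92,91,82,81,4,3,2,1,0] [6318,4026,4025,2498,2497,515,516,411,412,213,214,215,216,92,91,82,81,4,3,2,1,0] = true := by decide +kernel

theorem top_walk0_4 : walkStep pzCertL topGens0 topEnt0P4 [6318,4026,4025,2498,2497,515,516,411,412,213,214,215,216,92,91,82,81,4,3,2,1,0] [2479,207,208,209,210,211,212,213,214,215,216,92,91,82,81,4,3,2,1,0] = true := by decide +kernel

theorem top_walk0_5 : walkStep pzCertL topGens0 topEnt0P5 [2479,207,208,209,210,211,212,213,214,215,216,92,91,82,81,4,3,2,1,0] [4615,4614,4613,5271,5270,3905,3906,2521,2522,2449,2448,211,212,213,214,215,216,92,91,82,81,4,3,2,1,0] = true := by decide +kernel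

theorem top_walk0_6 : walkStep pzCertL topGens0 topEnt0P6 [4615,4614,4613,5271,5270,3905,3906,2521,2522,2449,2448,211,212,213,214,215,216,92,91,82,81,4,3,2,1,0] [9773,2535,2534,1356,1357,1358,1359,271,272,273,274,94,93,92,91,82,81,4,3,2,1,0] = true := by decide +kernel

theorem top_walk0_7 : walkStep pzCertL topGens0 topEnt0P7 [9773,2535,2534,1356,1357,1358,1359,271,272,273,274,94,93,92,91,82,81,4,3,2,1,0] [9500,10178,10177,4266,4267,4268,4269,4270,4271,2151,2150,270,271,272,273,274,94,93,92,91,82,81,4,3,2,1,0] = true := by decide +kernel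

theorem top_walk0_8 : walkStep pzCertL topGens0 topEnt0P8 [9500,10178,10177,4266,4267,4268,4269,4270,4271,2151,2150,270,271,272,273,274,94,93,92,91,82,81,4,3,2,1,0] [11622,3080,3079,3078,3077,1375,1374,1373,1372,273,274,94,93,92,91,82,81,4,3,2,1,0] = true := by decide +kernel

theorem top_walk0_9 : walkStep pzCertL topGens0 topEnt0P9 [11622,3080,3079,3078,3077,1375,1374,1373,1372,273,274,94,93,92,91,82,81,4,3,2,1,0] [3613,3612,3283,286,2023,2024,2025,2026,2027,2028,1373,1372,273,274,94,93,92,91,82,81,4,3,2,1,0] = true := by decide +kernel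

theorem top_walk0_10 : walkStep pzCertL topGens0 topEnt0P10 [3613,3612,3283,286,2023,2024,2025,2026,2027,2028,1373,1372,273,274,94,93,92,91,82,81,4,3,2,1,0] [10973,10972,10971,10970,8442,8443,6396,3101,1372,273,274,94,93,92,91,82,81,4,3,2,1,0] = true := by decide +kernel

theorem top_walk0_11 : walkStep pzCertL topGens0 topEnt0P11 [10973,10972,10971,10970,8442,8443,6396,3101,1372,273,274,94,93,92,91,82,81,4,3,2,1,0] [5197,628,629,630,631,1031,1030,1029,1028,709,710,306,307,161,160,37,36,14,13,6,5,4,3,2,1,0] = true := by decide +kernel

theorem top_walk0_12 : walkStep pzCertL topGens0 topEnt0P12 [5197,628,629,630,631,1031,1030,1029,1028,709,710,306,307,161,160,37,36,14,13,6,5,4,3,2,1,0] [9127,9126,9125,9124,12499,3485,3420,302,303,304,305,306,307,161,160,37,36,14,13,6,5,4,3,2,1,0] = true := by decide +kernel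

theorem top_walk0_13 : walkStep pzCertL topGens0 topEnt0P13 [9127,9126,9125,9124,12499,3485,3420,302,303,304,305,306,307,161,160,37,36,14,13,6,5,4,3,2,1,0] [11417,7833,7832,2899,2898,2867,2866,253,254,255,256,257,258,43,42,41,40,39,38,37,36,14,13,6,5,4,3,2,1,0] = true := by decide +kernel

theorem top_walk0_14 : walkStep pzCertL topGens0 topEnt0P14 [11417,7833,7832,2899,2898,2867,2866,253,254,255,256,257,258,43,42,41,40,39,38,37,36,14,13,6,5,4,3,2,1,0] [4648,4649,2911,2910,535,536,537,538,121,120,41,40,39,38,37,36,14,13,6,5,4,3,2,1,0] = true := by decide +kernel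

theorem top_walk0_15 : walkStep pzCertL topGens0 topEnt0P15 [4648,4649,2911,2910,535,536,537,538,121,120,41,40,39,38,37,36,14,13,6,5,4,3,2,1,0] [4627,3064,527,528,677,676,641,640,39,38,37,36,14,13,6,5,4,3,2,1,0] = true := by decide +kernel

theorem top_walk0_16 : walkStep pzCertL topGens0 topEnt0P16 [4627,3064,527,528,677,676,641,640,39,38,37,36,14,13,6,5,4,3,2,1,0] [9579,3506,2010,2009,2050,2051,2052,2053,309,308,155,156,18,17,16,15,14,13,6,5,4,3,2,1,0] = true := by decide +kernel

theorem top_walk0_17 : walkStep pzCertL topGens0 topEnt0P17 [9579,3506,2010,2009,2050,2051,2052,2053,309,308,155,156,18,17,16,15,14,13,6,5,4,3,2,1,0] [2104,2029,154,155,156,18,17,16,15,14,13,6,5,4,3,2,1,0] = true := by decide +kernel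

theorem top_walk0_18 : walkStep pzCertL topGens0 topEnt0P18 [2104,2029,154,155,156,18,17,16,15,14,13,6,5,4,3,2,1,0] [12687,12686,3751,2824,342,341,340,339,338,337,336,335,279,278,20,19,18,17,16,15,14,13,6,5,4,3,2,1,0] = true := by decide +kernel

theorem top_walk0_19 : walkStep pzCertL topGens0 topEnt0P19 [12687,12686,3751,2824,342,341,340,339,338,337,336,335,279,278,20,19,18,17,16,15,14,13,6,5,4,3,2,1,0] [3167,3168,3169,3170,2684,239,238,237,200,199,198,197,192,191,16,15,14,13,6,5,4,3,2,1,0] = true := by decide +kernel

theorem top_walk0_20 : walkStep pzCertL topGens0 topEnt0P20 [3167,3168,3169,3170,2684,239,238,237,200,199,198,197,192,191,16,15,14,13,6,5,4,3,2,1,0] [2617,2618,2619,2622,2623,1765,236,15,14,13,6,5,4,3,2,1,0] = true := by decide +kernel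

theorem top_walk0_21 : walkStep pzCertL topGens0 topEnt0P21 [2617,2618,2619,2622,2623,1765,236,15,14,13,6,5,4,3,2,1,0] [2058,2057,2056,2055,1802,1803,758,157,13,6,5,4,3,2,1,0] = true := by decide +kernel

theorem top_walk0_22 : walkStep pzCertL topGens0 topEnt0P22 [2058,2057,2056,2055,1802,1803,758,157,13,6,5,4,3,2,1,0] [1488,1489,1490,1491,1568,1567,1566,1565,1514,1513,1512,1511,111,112,113,114,115,116,89,88,48,47,2,1,0] = true := by decide +kernel

theorem top_walk0_23 : walkStep pzCertL topGens0 topEnt0P23 [1488,1489,1490,1491,1568,1567,1566,1565,1514,1513,1512,1511,111,112,113,114,115,116,89,88,48,47,2,1,0] [6039,838,839,109,110,111,112,113,114,115,116,89,88,48,47,2,1,0] = true := by decide +kernel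

theorem top_walk0_24 : walkStep pzCertL topGens0 topEnt0P24 [6039,838,839,109,110,111,112,113,114,115,116,89,88,48,47,2,1,0] [9387,9388,8589,8588,8587,7787,3984,1343,1342,1341,1340,845,844,115,116,89,88,48,47,2,1,0] = true := by decide +kernel

theorem top_walk0_25 : walkStep pzCertL topGens0 topEnt0P25 [9387,9388,8589,8588,8587,7787,3984,1343,1342,1341,1340,845,844,115,116,89,88,48,47,2,1,0] [1471,1470,1469,1468,394,395,396,397,1580,1579,1341,1340,845,844,115,116,89,88,48,47,2,1,0] = true := by decide +kernel

theorem top_walk0_26 : walkStep pzCertL topGens0 topEnt0P26 [1471,1470,1469,1468,394,395,396,397,1580,1579,1341,1340,845,844,115,116,89,88,48,47,2,1,0] [5322,3833,682,683,684,685,686,687,688,689,848,847,326,327,54,53,52,51,50,49,48,47,2,1,0] = true := by decide +kernel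

theorem top_walk0_27 : walkStep pzCertL topGens0 topEnt0P27 [5322,3833,682,683,684,685,686,687,688,689,848,847,326,327,54,53,52,51,50,49,48,47,2,1,0] [9498,7691,7692,7693,7694,6187,6186,6185,6184,6149,906,327,54,53,52,51,50,49,48,47,2,1,0] = true := by decide +kernel

theorem top_walk0_28 : walkStep pzCertL topGens0 topEnt0P28 [9498,7691,7692,7693,7694,6187,6186,6185,6184,6149,906,327,54,53,52,51,50,49,48,47,2,1,0] [1169,983,984,985,986,885,884,883,882,58,57,56,55,54,53,52,51,50,49,48,47,2,1,0] = true := by decide +kernel

theorem top_walk0_29 : walkStep pzCertL topGens0 topEnt0P29 [1169,983,984,985,986,885,884,883,882,58,57,56,55,54,53,52,51,50,49,48,47,2,1,0] [7700,9998,9997,9996,9995,6124,6123,6122,6121,3637,3638,1240,1239,1238,867,51,50,49,48,47,2,1,0] = true := by decide +kernel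

theorem top_walk0_30 : walkStep pzCertL topGens0 topEnt0P30 [7700,9998,9997,9996,9995,6124,6123,6122,6121,3637,3638,1240,1239,1238,867,51,50,49,48,47,2,1,0] [8025,1484,1483,1482,2580,2579,2603,2602,660,661,662,663,664,665,50,49,48,47,2,1,0] = true := by decide +kernel

theorem top_walk0_31 : walkStep pzCertL topGens0 topEnt0P31 [8025,1484,1483,1482,2580,2579,2603,2602,660,661,662,663,664,665,50,49,48,47,2,1,0] [863,864,865,866,662,663,664,665,50,49,48,47,2,1,0] = true := by decide +kernel

theorem top_walk0_32 : walkStep pzCertL topGens0 topEnt0P32 [863,864,865,866,662,663,664,665,50,49,48,47,2,1,0] [11522,4456,2977,2978,2979,2980,2981,2982,3599,3598,1142,1143,1144,1145,865,866,662,663,664,665,50,49,48,47,2,1,0] = true := by decide +kernel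

theorem top_walk0_33 : walkStep pzCertL topGens0 topEnt0P33 [11522,4456,2977,2978,2979,2980,2981,2982,3599,3598,1142,1143,1144,1145,865,866,662,663,664,665,50,49,48,47,2,1,0] [8638,8639,8640,8641,8102,8103,8642,8643,3537,3536,3535,819,818,817,816,698,697,664,665,50,49,48,47,2,1,0] = true := by decide +kernel

theorem top_walk0_34 : walkStep pzCertL topGens0 topEnt0P34 [8638,8639,8640,8641,8102,8103,8642,8643,3537,3536,3535,819,818,817,816,698,697,664,665,50,49,48,47,2,1,0] [8689,8688,8687,5993,5992,5991,5388,816,698,697,664,665,50,49,48,47,2,1,0] = true := by decide +kernel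

theorem top_walk0_35 : walkStep pzCertL topGens0 topEnt0P35 [8689,8688,8687,5993,5992,5991,5388,816,698,697,664,665,50,49,48,47,2,1,0] [12878,4675,3851,3850,3849,3848,3255,3256,3257,3258,365,366,2394,2393,700,699,698,697,664,665,50,49,48,47,2,1,0] = true := by decide +kernel

theorem top_walk0_36 : walkStep pzCertL topGens0 topEnt0P36 [12878,4675,3851,3850,3849,3848,3255,3256,3257,3258,365,366,2394,2393,700,699,698,697,664,665,50,49,48,47,2,1,0] [6084,6085,6086,6087,6088,6089,6090,6091,6092,5602,842,665,50,49,48,47,2,1,0] = true := by decide +kernel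

theorem top_walk0_37 : walkStep pzCertL topGens0 topEnt0P37 [6084,6085,6086,6087,6088,6089,6090,6091,6092,5602,842,665,50,49,48,47,2,1,0] [13205,13204,9726,9725,9724,9723,7312,7311,5003,5004,2077,2078,2079,2080,1637,1638,1256,1255,756,755,754,85,1,0] = true := by decide +kernel

theorem top_walk0_38 : walkStep pzCertL topGens0 topEnt0P38 [13205,13204,9726,9725,9724,9723,7312,7311,5003,5004,2077,2078,2079,2080,1637,1638,1256,1255,756,755,754,85,1,0] [14862,14863,9480,1931,1932,1933,1934,1935,1828,1829,1210,1209,233,234,77,78,79,80,11,12,0] = true := by decide +kernel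

theorem top_walk0_39 : walkStep pzCertL topGens0 topEnt0P39 [14862,14863,9480,1931,1932,1933,1934,1935,1828,1829,1210,1209,233,234,77,78,79,80,11,12,0] [9456,9275,1935,1828,1829,1210,1209,233,234,77,78,79,80,11,12,0] = true := by decide +kernel

theorem top_walk0_40 : walkStep pzCertL topGens0 topEnt0P40 [9456,9275,1935,1828,1829,1210,1209,233,234,77,78,79,80,11,12,0] [12827,12826,9079,9080,9081,9082,9083,9084,9085,1907,1817,141,142,1826,1827,1828,1829,1210,1209,233,234,77,78,79,80,11,12,0] = true := by decide +kernel

theorem top_walk0_41 : walkStep pzCertL topGens0 topEnt0P41 [12827,12826,9079,9080,9081,9082,9083,9084,9085,1907,1817,141,142,1826,1827,1828,1829,1210,1209,233,234,77,78,79,80,11,12,0] [4884,4885,2563,2564,2565,2566,1944,1945,1230,1231,1212,1211,1210,1209,233,234,77,78,79,80,11,12,0] = true := by decide +kernel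

theorem top_walk0_42 : walkStep pzCertL topGens0 topEnt0P42 [4884,4885,2563,2564,2565,2566,1944,1945,1230,1231,1212,1211,1210,1209,233,234,77,78,79,80,11,12,0] [7001,7000,6999,9156,7972,1901,1463,1462,229,230,231,232,233,234,77,78,79,80,11,12,0] = true := by decide +kernel

theorem top_walk0_43 : walkStep pzCertL topGens0 topEnt0P43 [7001,7000,6999,9156,7972,1901,1463,1462,229,230,231,232,233,234,77,78,79,80,11,12,0] [13301,11721,11720,11719,11718,7900,7899,1443,1444,1445,1152,1151,1150,1149,172,171,170,169,75,76,77,78,79,80,11,12,0] = true := by decide +kernel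

theorem top_walk0_44 : walkStep pzCertL topGens0 topEnt0P44 [13301,11721,11720,11719,11718,7900,7899,1443,1444,1445,1152,1151,1150,1149,172,171,170,169,75,76,77,78,79,80,11,12,0] [11831,11832,11884,11551,3013,3273,3274,3275,3276,2273,2274,2275,2276,1181,1180,469,468,170,169,75,76,77,78,79,80,11,12,0] = true := by decide +kernel

theorem top_walk0_45 : walkStep pzCertL topGens0 topEnt0P45 [11831,11832,11884,11551,3013,3273,3274,3275,3276,2273,2274,2275,2276,1181,1180,469,468,170,169,75,76,77,78,79,80,11,12,0] [5963,5962,5961,1249,1250,1251,1147,70,71,72,73,74,75,76,77,78,79,80,11,12,0] = true := by decide +kernel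

theorem top_walk0_46 : walkStep pzCertL topGens0 topEnt0P46 [5963,5962,5961,1249,1250,1251,1147,70,71,72,73,74,75,76,77,78,79,80,11,12,0] [6893,6892,6862,1108,1107,1106,71,72,73,74,75,76,77,78,79,80,11,12,0] = true := by decide +kernel

theorem top_walk0_47 : walkStep pzCertL topGens0 topEnt0P47 [6893,6892,6862,1108,1107,1106,71,72,73,74,75,76,77,78,79,80,11,12,0] [318,319,870,871,872,873,874,875,73,74,75,76,77,78,79,80,11,12,0] = true := by decide +kernel

theorem top_walk0_48 : walkStep pzCertL topGens0 topEnt0P48 [318,319,870,871,872,873,874,875,73,74,75,76,77,78,79,80,11,12,0] [7270,7271,7272,7273,11681,11680,7094,6181,873,874,875,73,74,75,76,77,78,79,80,11,12,0] = true := by decide +kernel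

theorem top_walk0_49 : walkStep pzCertL topGens0 topEnt0P49 [7270,7271,7272,7273,11681,11680,7094,6181,873,874,875,73,74,75,76,77,78,79,80,11,12,0] [7570,7571,7572,9095,9094,9093,9092,9070,9069,1784,1785,5805,5806,5807,5808,2354,2353,2144,2145,795,794,793,185,80,11,12,0] = true := by decide +kernel

theorem top_walk0_50 : walkStep pzCertL topGens0 topEnt0P50 [7570,7571,7572,9095,9094,9093,9092,9070,9069,1784,1785,5805,5806,5807,5808,2354,2353,2144,2145,795,794,793,185,80,11,12,0] [8289,8290,7936,1428,1429,1430,1431,1432,1433,1434,416,415,97,98,24,23,22,21,9,10,11,12,0] = true := by decide +kernel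

theorem top_walk0_51 : walkStep pzCertL topGens0 topEnt0P51 [8289,8290,7936,1428,1429,1430,1431,1432,1433,1434,416,415,97,98,24,23,22,21,9,10,11,12,0] [11224,11225,11226,7739,7738,2316,1431,1432,1433,1434,416,415,97,98,24,23,22,21,9,10,11,12,0] = true := by decide +kernel

theorem top_walk0_52 : walkStep pzCertL topGens0 topEnt0P52 [11224,11225,11226,7739,7738,2316,1431,1432,1433,1434,416,415,97,98,24,23,22,21,9,10,11,12,0] [8298,7984,4214,4103,417,416,415,97,98,24,23,22,21,9,10,11,12,0] = true := by decide +kernel

theorem top_walk0_53 : walkStep pzCertL topGens0 topEnt0P53 [8298,7984,4214,4103,417,416,415,97,98,24,23,22,21,9,10,11,12,0] [11114,8484,8483,7726,7725,7724,4567,506,507,508,181,182,26,25,24,23,22,21,9,10,11,12,0] = true := by decide +kernel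

theorem top_walk0_54 : walkStep pzCertL topGens0 topEnt0P54 [11114,8484,8483,7726,7725,7724,4567,506,507,508,181,182,26,25,24,23,22,21,9,10,11,12,0] [4654,541,540,539,32,31,30,29,28,27,26,25,24,23,22,21,9,10,11,12,0] = true := by decide +kernel

theorem top_walk0_55 : walkStep pzCertL topGens0 topEnt0P55 [4654,541,540,539,32,31,30,29,28,27,26,25,24,23,22,21,9,10,11,12,0] [13752,13528,13439,13359,4140,4139,4138,447,446,445,444,443,442,28,27,26,25,24,23,22,21,9,10,11,12,0] = true := by decide +kernel

theorem top_walk0_56 : walkStep pzCertL topGens0 topEnt0P56 [13752,13528,13439,13359,4140,4139,4138,447,446,445,444,443,442,28,27,26,25,24,23,22,21,9,10,11,12,0] [9682,9681,9680,9679,13428,4426,479,478,477,443,442,28,27,26,25,24,23,22,21,9,10,11,12,0] = true := by decide +kernel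

theorem top_walk0_57 : walkStep pzCertL topGens0 topEnt0P57 [9682,9681,9680,9679,13428,4426,479,478,477,443,442,28,27,26,25,24,23,22,21,9,10,11,12,0] [8035,8034,8033,1499,1498,1497,1449,1448,132,131,102,101,100,99,22,21,9,10,11,12,0] = true := by decide +kernel

theorem top_walk0_58 : walkStep pzCertL topGens0 topEnt0P58 [8035,8034,8033,1499,1498,1497,1449,1448,132,131,102,101,100,99,22,21,9,10,11,12,0] [2094,226,385,384,383,382,100,99,22,21,9,10,11,12,0] = true := by decide +kernel

theorem top_walk0_59 : walkStep pzCertL topGens0 topEnt0P59 [2094,226,385,384,383,382,100,99,22,21,9,10,11,12,0] [10477,2708,2413,2412,7194,7195,6339,6338,6450,6449,1203,1204,2594,2595,959,960,383,382,100,99,22,21,9,10,11,12,0] = true := by decide +kernel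

theorem top_walk0_60 : walkOK pzCertL topGens0 topEnt0P60 [10477,2708,2413,2412,7194,7195,6339,6338,6450,6449,1203,1204,2594,2595,959,960,383,382,100,99,22,21,9,10,11,12,0] = true := by decide +kernel

theorem top_lev0 : levOK pzCertL [] 0 topGens0 topEnts0 = true := by
  refine levOK_of top_base0 ?_
  simp only [topEnts0, List.flatten_cons, List.flatten_nil, List.append_nil]
  exact walkStep_append top_walk0_0 (walkStep_append top_walk0_1 (walkStep_append top_walk0_2 (walkStep_append top_walk0_3 (walkStep_append top_walk0_4 (walkStep_append top_walk0_5 (walkStep_append top_walk0_6 (walkStep_append top_walk0_7 (walkStep_append top_walk0_8 (walkStep_append top_walk0_9 (walkStep_append top_walk0_10 (walkStep_append top_walk0_11 (walkStep_append top_walk0_12 (walkStep_append top_walk0_13 (walkStep_append top_walk0_14 (walkStep_append top_walk0_15 (walkStep_append top_walk0_16 (walkStep_append top_walk0_17 (walkStep_append top_walk0_18 (walkStep_append top_walk0_19 (walkStep_append top_walk0_20 (walkStep_append top_walk0_21 (walkStep_append top_walk0_22 (walkStep_append top_walk0_23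 (walkStep_append top_walk0_24 (walkStep_append top_walk0_25 (walkStep_append top_walk0_26 (walkStep_append top_walk0_27 (walkStep_append top_walk0_28 (walkStep_append top_walk0_29 (walkStep_append top_walk0_30 (walkStep_append top_walk0_31 (walkStep_append top_walk0_32 (walkStep_append top_walk0_33 (walkStep_append top_walk0_34 (walkStep_append top_walk0_35 (walkStep_append top_walk0_36 (walkStep_append top_walk0_37 (walkStep_append top_walk0_38 (walkStep_append top_walk0_39 (walkStep_append top_walk0_40 (walkStep_append top_walk0_41 (walkStep_append top_walk0_42 (walkStep_append top_walk0_43 (walkStep_append top_walk0_44 (walkStep_append top_walk0_45 (walkStep_append top_walk0_46 (walkStep_append top_walk0_47 (walkStep_append top_walk0_48 (walkStep_append top_walk0_49 (walkStep_append top_walk0_50 (walkStep_append top_walk0_51 (walkStep_append top_walk0_52 (walkStep_append top_walk0_53 (walkStep_append top_walk0_54 (walkStep_append top_walk0_55 (walkStep_append top_walk0_56 (walkStep_append top_walk0_57 (walkStep_append top_walk0_58 (walkStep_append top_walk0_59 (top_walk0_60))))))))))))))))))))))))))))))))))))))))))))))))))))))))))))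

theorem top_base1 : levBase pzCertL [0] 8637 topGens1 topEnts1 = true := by decide +kernel

theorem top_walk1_0 : walkStep pzCertL topGens1 topEnt1P0 [8637] [11978,11979,8439,10108,12961,12960,3792,10603,14759,7631,7630,12924,9219,9220,2628,4066,4067,13672,13673,12673,8636,8637] = true := by decide +kernel

theorem top_walk1_1 : walkStep pzCertL topGens1 topEnt1P1 [11978,11979,8439,10108,12961,12960,3792,10603,14759,7631,7630,12924,9219,9220,2628,4066,4067,13672,13673,12673,8636,8637] [12826,12853,5792,5791,1254,1253,6416,1751,7280,7281,10812,9051,9050,4067,13672,13673,12673,8636,8637] = true := by decide +kernel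

theorem top_walk1_2 : walkStep pzCertL topGens1 topEnt1P2 [12826,12853,5792,5791,1254,1253,6416,1751,7280,7281,10812,9051,9050,4067,13672,13673,12673,8636,8637] [9298,15049,11499,11240,10507,10506,10642,14042,11572,14029,14030,14511,14510,12715,12716,13673,12673,8636,8637] = true := by decide +kernel

theorem top_walk1_3 : walkStep pzCertL topGens1 topEnt1P3 [9298,15049,11499,11240,10507,10506,10642,14042,11572,14029,14030,14511,14510,12715,12716,13673,12673,8636,8637] [9110,9111,4248,4249,13316,13318,14610,14611,13917,12178,9302,5633,14115,14116,14510,12715,12716,13673,12673,8636,8637] = true := by decide +kernel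

theorem top_walk1_4 : walkStep pzCertL topGens1 topEnt1P4 [9110,9111,4248,4249,13316,13318,14610,14611,13917,12178,9302,5633,14115,14116,14510,12715,12716,13673,12673,8636,8637] [10107,3960,3961,13528,13522,8567,8566,9955,10304,4244,4105,5552,5551,3666,3207,3206,12716,13673,12673,8636,8637] = true := by decide +kernel

theorem top_walk1_5 : walkStep pzCertL topGens1 topEnt1P5 [10107,3960,3961,13528,13522,8567,8566,9955,10304,4244,4105,5552,5551,3666,3207,3206,12716,13673,12673,8636,8637] [4204,14330,6065,6066,9175,2665,5088,5087,7381,14607,12596,4054,2374,2095,2096,6505,6456,10405,10404,8636,8637] = true := by decide +kernel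

theorem top_walk1_6 : walkStep pzCertL topGens1 topEnt1P6 [4204,14330,6065,6066,9175,2665,5088,5087,7381,14607,12596,4054,2374,2095,2096,6505,6456,10405,10404,8636,8637] [7401,7400,12888,10323,2356,2355,6653,6654,13186,13185,2132,2095,2096,6505,6456,10405,10404,8636,8637] = true := by decide +kernel

theorem top_walk1_7 : walkStep pzCertL topGens1 topEnt1P7 [7401,7400,12888,10323,2356,2355,6653,6654,13186,13185,2132,2095,2096,6505,6456,10405,10404,8636,8637] [10895,10896,8590,8591,9588,9587,2096,6505,6456,10405,10404,8636,8637] = true := by decide +kernel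

theorem top_walk1_8 : walkStep pzCertL topGens1 topEnt1P8 [10895,10896,8590,8591,9588,9587,2096,6505,6456,10405,10404,8636,8637] [4463,4464,4698,4699,2965,2964,4161,2415,2414,2020,9587,2096,6505,6456,10405,10404,8636,8637] = true := by decide +kernel

theorem top_walk1_9 : walkStep pzCertL topGens1 topEnt1P9 [4463,4464,4698,4699,2965,2964,4161,2415,2414,2020,9587,2096,6505,6456,10405,10404,8636,8637] [9748,9749,2644,1621,1510,7303,7304,3182,5964,14096,14095,11862,11861,5373,5372,7370,6456,10405,10404,8636,8637] = true := by decide +kernel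

theorem top_walk1_10 : walkStep pzCertL topGens1 topEnt1P10 [9748,9749,2644,1621,1510,7303,7304,3182,5964,14096,14095,11862,11861,5373,5372,7370,6456,10405,10404,8636,8637] [1886,2113,5691,2277,10982,6362,6363,9564,13567,13566,5372,7370,6456,10405,10404,8636,8637] = true := by decide +kernel

theorem top_walk1_11 : walkStep pzCertL topGens1 topEnt1P11 [1886,2113,5691,2277,10982,6362,6363,9564,13567,13566,5372,7370,6456,10405,10404,8636,8637] [14621,13234,13455,14087,14088,14093,13804,13918,12179,3615,9198,9197,14359,11198,11218,8501,8502,6456,10405,10404,8636,8637] = true := by decide +kernel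

theorem top_walk1_12 : walkStep pzCertL topGens1 topEnt1P12 [14621,13234,13455,14087,14088,14093,13804,13918,12179,3615,9198,9197,14359,11198,11218,8501,8502,6456,10405,10404,8636,8637] [1575,1551,1386,1387,4839,4840,3356,3355,4347,4346,1854,9349,9272,12697,11218,8501,8502,6456,10405,10404,8636,8637] = true := by decide +kernel

theorem top_walk1_13 : walkStep pzCertL topGens1 topEnt1P13 [1575,1551,1386,1387,4839,4840,3356,3355,4347,4346,1854,9349,9272,12697,11218,8501,8502,6456,10405,10404,8636,8637] [1457,1456,1915,1914,142,171,172,3089,1713,1712,2273,4323,4324,1677,8502,6456,10405,10404,8636,8637] = true := by decide +kernel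

theorem top_walk1_14 : walkStep pzCertL topGens1 topEnt1P14 [1457,1456,1915,1914,142,171,172,3089,1713,1712,2273,4323,4324,1677,8502,6456,10405,10404,8636,8637] [9476,9482,7161,7162,8697,14815,11765,11764,14940,12040,12039,14598,14597,7760,5860,15154,15155,8502,6456,10405,10404,8636,8637] = true := by decide +kernel

theorem top_walk1_15 : walkStep pzCertL topGens1 topEnt1P15 [9476,9482,7161,7162,8697,14815,11765,11764,14940,12040,12039,14598,14597,7760,5860,15154,15155,8502,6456,10405,10404,8636,8637] [1841,1842,686,4668,4669,5044,3726,14422,14421,10404,8636,8637] = true := by decide +kernel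

theorem top_walk1_16 : walkStep pzCertL topGens1 topEnt1P16 [1841,1842,686,4668,4669,5044,3726,14422,14421,10404,8636,8637] [2106,2105,183,184,476,14880,14881,7611,14553,14053,14545,14422,14421,10404,8636,8637] = true := by decide +kernel

theorem top_walk1_17 : walkStep pzCertL topGens1 topEnt1P17 [2106,2105,183,184,476,14880,14881,7611,14553,14053,14545,14422,14421,10404,8636,8637] [12912,3671,3541,8166,14235,14236,14900,14019,14020,8275,1598,1599,14949,14978,11654,14053,14545,14422,14421,10404,8636,8637] = true := by decide +kernel

theorem top_walk1_18 : walkStep pzCertL topGens1 topEnt1P18 [12912,3671,3541,8166,14235,14236,14900,14019,14020,8275,1598,1599,14949,14978,11654,14053,14545,14422,14421,10404,8636,8637] [9617,7079,7078,5306,14107,14172,14545,14422,14421,10404,8636,8637] = true := by decide +kernel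

theorem top_walk1_19 : walkStep pzCertL topGens1 topEnt1P19 [9617,7079,7078,5306,14107,14172,14545,14422,14421,10404,8636,8637] [6213,13058,5616,5615,12713,13906,13907,14201,14200,10016,9487,11368,11367,14172,14545,14422,14421,10404,8636,8637] = true := by decide +kernel

theorem top_walk1_20 : walkStep pzCertL topGens1 topEnt1P20 [6213,13058,5616,5615,12713,13906,13907,14201,14200,10016,9487,11368,11367,14172,14545,14422,14421,10404,8636,8637] [10806,8769,8770,3779,14529,9280,11612,11613,5622,5621,14421,10404,8636,8637] = true := by decide +kernel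

theorem top_walk1_21 : walkStep pzCertL topGens1 topEnt1P21 [10806,8769,8770,3779,14529,9280,11612,11613,5622,5621,14421,10404,8636,8637] [14132,8792,8791,5638,13300,13299,7746,7429,7430,4974,5136,4590,11613,5622,5621,14421,10404,8636,8637] = true := by decide +kernel

theorem top_walk1_22 : walkStep pzCertL topGens1 topEnt1P22 [14132,8792,8791,5638,13300,13299,7746,7429,7430,4974,5136,4590,11613,5622,5621,14421,10404,8636,8637] [14564,14565,10958,4597,4590,11613,5622,5621,14421,10404,8636,8637] = true := by decide +kernel

theorem top_walk1_23 : walkStep pzCertL topGens1 topEnt1P23 [14564,14565,10958,4597,4590,11613,5622,5621,14421,10404,8636,8637] [9989,6200,8248,8128,6736,8420,8421,12813,6010,6011,1281,13401,13402,11290,12731,12674,8637] = true := by decide +kernel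

theorem top_walk1_24 : walkStep pzCertL topGens1 topEnt1P24 [9989,6200,8248,8128,6736,8420,8421,12813,6010,6011,1281,13401,13402,11290,12731,12674,8637] [3667,3668,8132,14988,8963,8962,13019,12799,12246,12173,6325,12132,12131,13402,11290,12731,12674,8637] = true := by decide +kernel

theorem top_walk1_25 : walkStep pzCertL topGens1 topEnt1P25 [3667,3668,8132,14988,8963,8962,13019,12799,12246,12173,6325,12132,12131,13402,11290,12731,12674,8637] [8240,14309,10260,12744,5918,5813,8720,8719,13786,13283,5630,5629,15147,3657,3711,12112,12131,13402,11290,12731,12674,8637] = true := by decide +kernel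

theorem top_walk1_26 : walkStep pzCertL topGens1 topEnt1P26 [8240,14309,10260,12744,5918,5813,8720,8719,13786,13283,5630,5629,15147,3657,3711,12112,12131,13402,11290,12731,12674,8637] [13307,13306,15124,11908,11491,9042,9041,2348,2306,9798,3137,3136,3540,3627,10359,12731,12674,8637] = true := by decide +kernel

theorem top_walk1_27 : walkStep pzCertL topGens1 topEnt1P27 [13307,13306,15124,11908,11491,9042,9041,2348,2306,9798,3137,3136,3540,3627,10359,12731,12674,8637] [8930,10880,10879,8637] = true := by decide +kernel

theorem top_walk1_28 : walkStep pzCertL topGens1 topEnt1P28 [8930,10880,10879,8637] [6631,6291,6292,11767,11766,11440,7166,7165,14544,13067,14755,6039,6073,867,811,8929,8930,10880,10879,8637] = true := by decide +kernel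

theorem top_walk1_29 : walkStep pzCertL topGens1 topEnt1P29 [6631,6291,6292,11767,11766,11440,7166,7165,14544,13067,14755,6039,6073,867,811,8929,8930,10880,10879,8637] [189,323,322,4132,4131,4283,1060,1059,1410,1409,3870,11808,5974,5973,811,8929,8930,10880,10879,8637] = true := by decide +kernel

theorem top_walk1_30 : walkStep pzCertL topGens1 topEnt1P30 [189,323,322,4132,4131,4283,1060,1059,1410,1409,3870,11808,5974,5973,811,8929,8930,10880,10879,8637] [13867,7719,7718,14551,12002,14338,14337,12998,4600,5298,10003,10002,6297,6298,12881,12882,8930,10880,10879,8637] = true := by decide +kernel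

theorem top_walk1_31 : walkStep pzCertL topGens1 topEnt1P31 [13867,7719,7718,14551,12002,14338,14337,12998,4600,5298,10003,10002,6297,6298,12881,12882,8930,10880,10879,8637] [14033,11508,11507,8014,10123,14207,14208,7572,1309,1310,7605,11449,11448,10002,6297,6298,12881,12882,8930,10880,10879,8637] = true := by decide +kernel

theorem top_walk1_32 : walkStep pzCertL topGens1 topEnt1P32 [14033,11508,11507,8014,10123,14207,14208,7572,1309,1310,7605,11449,11448,10002,6297,6298,12881,12882,8930,10880,10879,8637] [4487,610,609,513,3231,3786,3787,3443,3444,1038,1039,3340,12352,12351,6298,12881,12882,8930,10880,10879,8637] = true := by decide +kernel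

theorem top_walk1_33 : walkStep pzCertL topGens1 topEnt1P33 [4487,610,609,513,3231,3786,3787,3443,3444,1038,1039,3340,12352,12351,6298,12881,12882,8930,10880,10879,8637] [6784,14489,13435,13436,12351,6298,12881,12882,8930,10880,10879,8637] = true := by decide +kernel

theorem top_walk1_34 : walkStep pzCertL topGens1 topEnt1P34 [6784,14489,13435,13436,12351,6298,12881,12882,8930,10880,10879,8637] [6030,2502,681,680,37,2693,2694,2171,2172,352,8910,8909,12632,12073,12882,8930,10880,10879,8637] = true := by decide +kernel

theorem top_walk1_35 : walkStep pzCertL topGens1 topEnt1P35 [6030,2502,681,680,37,2693,2694,2171,2172,352,8910,8909,12632,12073,12882,8930,10880,10879,8637] [1653,1602,4051,3198,3199,3622,12833,12832,10665,7462,12909,12910,8909,12632,12073,12882,8930,10880,10879,8637] = true := by decide +kernel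

theorem top_walk1_36 : walkStep pzCertL topGens1 topEnt1P36 [1653,1602,4051,3198,3199,3622,12833,12832,10665,7462,12909,12910,8909,12632,12073,12882,8930,10880,10879,8637] [4609,4483,4638,2840,2841,1991,1990,2990,1163,1164,1535,3552,3551,2828,10879,8637] = true := by decide +kernel

theorem top_walk1_37 : walkStep pzCertL topGens1 topEnt1P37 [4609,4483,4638,2840,2841,1991,1990,2990,1163,1164,1535,3552,3551,2828,10879,8637] [2522,3875,2406,2407,3347,3348,1453,3581,3580,2310,2311,670,313,312,3551,2828,10879,8637] = true := by decide +kernel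

theorem top_walk1_38 : walkStep pzCertL topGens1 topEnt1P38 [2522,3875,2406,2407,3347,3348,1453,3581,3580,2310,2311,670,313,312,3551,2828,10879,8637] [14353,14345,5008,1650,1649,14742,14743,7622,7621,9190,9189,13023,10215,10216,8114,5080,10388,9627,10879,8637] = true := by decide +kernel

theorem top_walk1_39 : walkStep pzCertL topGens1 topEnt1P39 [14353,14345,5008,1650,1649,14742,14743,7622,7621,9190,9189,13023,10215,10216,8114,5080,10388,9627,10879,8637] [7914,7915,4695,9909,5214,4880,8095,13582,13581,4803,11895,7022,7023,5080,10388,9627,10879,8637] = true := by decide +kernel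

theorem top_walk1_40 : walkStep pzCertL topGens1 topEnt1P40 [7914,7915,4695,9909,5214,4880,8095,13582,13581,4803,11895,7022,7023,5080,10388,9627,10879,8637] [14976,14977,6170,6171,5512,9687,9686,8934,10713,10714,2616,10079,6349,7669,5279,9206,9205,9627,10879,8637] = true := by decide +kernel

theorem top_walk1_41 : walkStep pzCertL topGens1 topEnt1P41 [14976,14977,6170,6171,5512,9687,9686,8934,10713,10714,2616,10079,6349,7669,5279,9206,9205,9627,10879,8637] [9226,10782,10781,5902,4113,4243,14896,11295,7592,9236,9235,10226,5609,5279,9206,9205,9627,10879,8637] = true := by decide +kernel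

theorem top_walk1_42 : walkStep pzCertL topGens1 topEnt1P42 [9226,10782,10781,5902,4113,4243,14896,11295,7592,9236,9235,10226,5609,5279,9206,9205,9627,10879,8637] [2651,15089,12436,10871,10872,12678,9661,8997,8996,7701,5279,9206,9205,9627,10879,8637] = true := by decide +kernel

theorem top_walk1_43 : walkOK pzCertL topGens1 topEnt1P43 [2651,15089,12436,10871,10872,12678,9661,8997,8996,7701,5279,9206,9205,9627,10879,8637] = true := by decide +kernel

theorem top_lev1 : levOK pzCertL [0] 8637 topGens1 topEnts1 = true := by
  refine levOK_of top_base1 ?_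
  simp only [topEnts1, List.flatten_cons, List.flatten_nil, List.append_nil]
  exact walkStep_append top_walk1_0 (walkStep_append top_walk1_1 (walkStep_append top_walk1_2 (walkStep_append top_walk1_3 (walkStep_append top_walk1_4 (walkStep_append top_walk1_5 (walkStep_append top_walk1_6 (walkStep_append top_walk1_7 (walkStep_append top_walk1_8 (walkStep_append top_walk1_9 (walkStep_append top_walk1_10 (walkStep_append top_walk1_11 (walkStep_append top_walk1_12 (walkStep_append top_walk1_13 (walkStep_append top_walk1_14 (walkStep_append top_walk1_15 (walkStep_append top_walk1_16 (walkStep_append top_walk1_17 (walkStep_append top_walk1_18 (walkStep_append top_walk1_19 (walkStep_append top_walk1_20 (walkStep_append top_walk1_21 (walkStep_append top_walk1_22 (walkStep_append top_walk1_23 (walkStep_append top_walk1_24 (walkStep_append top_walk1_25 (walkStep_append top_walk1_26 (walkStep_append top_walk1_27 (walkStep_append top_walk1_28 (walkStep_append top_walk1_29 (walkStep_append top_walk1_30 (walkStep_append top_walk1_31 (walkStep_append top_walk1_32 (walkStep_append top_walk1_33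 (walkStep_append top_walk1_34 (walkStep_append top_walk1_35 (walkStep_append top_walk1_36 (walkStep_append top_walk1_37 (walkStep_append top_walk1_38 (walkStep_append top_walk1_39 (walkStep_append top_walk1_40 (walkStep_append top_walk1_41 (walkStep_append top_walk1_42 (top_walk1_43)))))))))))))))))))))))))))))))))))))))))))

theorem top_base2 : levBase pzCertL [8637,0] 5111 topGens2 topEnts2 = true := by decide +kernel

theorem top_walk2_0 : walkOK pzCertL topGens2 topEnt2P0 [5111] = true := by decide +kernel

theorem top_lev2 : levOK pzCertL [8637,0] 5111 topGens2 topEnts2 = true := by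
  refine levOK_of top_base2 ?_
  simp only [topEnts2, List.flatten_cons, List.flatten_nil, List.append_nil]
  exact top_walk2_0

theorem top_base3 : levBase pzCertL [5111,8637,0] 5920 topGens3 topEnts3 = true := by decide +kernel

theorem top_walk3_0 : walkOK pzCertL topGens3 topEnt3P0 [5920] = true := by decide +kernel

theorem top_lev3 : levOK pzCertL [5111,8637,0] 5920 topGens3 topEnts3 = true := by
  refine levOK_of top_base3 ?_
  simp only [topEnts3, List.flatten_cons, List.flatten_nil, List.append_nil]
  exact top_walk3_0

theorem top_base4 : levBase pzCertL [5920,5111,8637,0] 674 topGens4 topEnts4 = true := by decide +kernel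

theorem top_walk4_0 : walkOK pzCertL topGens4 topEnt4P0 [674] = true := by decide +kernel

theorem top_lev4 : levOK pzCertL [5920,5111,8637,0] 674 topGens4 topEnts4 = true := by
  refine levOK_of top_base4 ?_
  simp only [topEnts4, List.flatten_cons, List.flatten_nil, List.append_nil]
  exact top_walk4_0

theorem top_base5 : levBase pzCertL [674,5920,5111,8637,0] 9799 topGens5 topEnts5 = true := by decide +kernel

theorem top_walk5_0 : walkOK pzCertL topGens5 topEnt5P0 [9799] = true := by decide +kernel

theorem top_lev5 : levOK pzCertL [674,5920,5111,8637,0] 9799 topGens5 topEnts5 = true := by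
  refine levOK_of top_base5 ?_
  simp only [topEnts5, List.flatten_cons, List.flatten_nil, List.append_nil]
  exact top_walk5_0

theorem top_cOK : cOK pzCertL [] topChain = true :=
  cOK_tree top_lev0 (cOK_tree top_lev1 (cOK_tree top_lev2 (cOK_tree top_lev3 (cOK_tree top_lev4 (cOK_tree top_lev5 (cOK_nil))))))

theorem top_len0 : topEnts0.length = 15179 := by decide +kernel

theorem top_len1 : topEnts1.length = 10751 := by decide +kernel

theorem top_len2 : topEnts2.length = 95 := by decide +kernel

theorem top_len3 : topEnts3.length = 3 := by decide +kernel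

theorem top_len4 : topEnts4.length = 3 := by decide +kernel

theorem top_len5 : topEnts5.length = 1 := by decide +kernel

theorem top_size : cSize topChain = 501397585920 := by
  simp [topChain, cSize, treeLev_length, top_len0, top_len1, top_len2, top_len3, top_len4, top_len5]

theorem top_bases : topChain.map CLev.base = tw.B := rfl

end CfsgLib.J4Pres
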