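import Cfsg.Agent.Lib.J4Pres.PzTwist

/-!
Kernel checks of the certified double cosets.
-/

set_option autoImplicit false
set_option Elab.async false

namespace CfsgLib.J4Pres

open CfsgLib.CosetEnum CfsgLib.TwistCoset

theorem tw_fact0 : ((List.range 25).all fun k => tw.factOK (0 + k)) = true := by decide +kernel

theorem tw_fact25 : ((List.range 25).all fun k => tw.factOK (25 + k)) = true := by decide +kernel

theorem tw_fact50 : ((List.range 25).all fun k => tw.factOK (50 + k)) = true := by decide +kernel

theorem tw_fact75 : ((List.range 25).all fun k => tw.factOK (75 + k)) = true := by decide +kernel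

theorem tw_fact100 : ((List.range 25).all fun k => tw.factOK (100 + k)) = true := by decide +kernel

theorem tw_fact125 : ((List.range 25).all fun k => tw.factOK (125 + k)) = true := by decide +kernel

theorem tw_fact150 : ((List.range 25).all fun k => tw.factOK (150 + k)) = true := by decide +kernel

theorem tw_facts : ∀ n < 175, tw.factOK n = true := by
  intro n hn
  by_cases h0 : n < 25
  · have := List.all_eq_true.mp tw_fact0 (n - 0) (List.mem_range.mpr (by omega))
    rwa [show 0 + (n - 0) = n by omega] at this
  by_cases h25 : n < 50
  · have := List.all_eq_true.mp tw_fact25 (n - 25) (List.mem_range.mpr (by omega))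
    rwa [show 25 + (n - 25) = n by omega] at this
  by_cases h50 : n < 75
  · have := List.all_eq_true.mp tw_fact50 (n - 50) (List.mem_range.mpr (by omega))
    rwa [show 50 + (n - 50) = n by omega] at this
  by_cases h75 : n < 100
  · have := List.all_eq_true.mp tw_fact75 (n - 75) (List.mem_range.mpr (by omega))
    rwa [show 75 + (n - 75) = n by omega] at this
  by_cases h100 : n < 125
  · have := List.all_eq_true.mp tw_fact100 (n - 100) (List.mem_range.mpr (by omega))
    rwa [show 100 + (n - 100) = n by omega] at this
  by_cases h125 : n < 150
  · have := List.all_eq_true.mp tw_fact125 (n - 125) (List.mem_range.mpr (by omega))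
    rwa [show 125 + (n - 125) = n by omega] at this
  by_cases h150 : n < 175
  · have := List.all_eq_true.mp tw_fact150 (n - 150) (List.mem_range.mpr (by omega))
    rwa [show 150 + (n - 150) = n by omega] at this
  omega

theorem tw_cos : tw.cosOK = true := by decide +kernel

theorem tw_roots0 : tw.rootsOK 175 0 = true := by decide +kernel

theorem tw_roots1 : tw.rootsOK 175 1 = true := by decide +kernel

theorem tw_roots2 : tw.rootsOK 175 2 = true := by decide +kernel

theorem tw_roots3 : tw.rootsOK 175 3 = true := by decide +kernel

theorem tw_roots4 : tw.rootsOK 175 4 = true := by decide +kernel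

theorem tw_roots5 : tw.rootsOK 175 5 = true := by decide +kernel

theorem tw_roots6 : tw.rootsOK 175 6 = true := by decide +kernel

end CfsgLib.J4Pres
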