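import Cfsg.Agent.Lib.J4Pres.PzPres
import Cfsg.Agent.Lib.J4Pres.PzRels
import Cfsg.Agent.Lib.J4Pres.PzTwistCheck
import Cfsg.Agent.Lib.J4Pres.PzTopCheck

/-!
The group side of the double coset certificate in the presented fourth Janko group.
-/

set_option autoImplicit false

namespace CfsgLib.J4Pres

open Cfsg CfsgLib.CosetEnum CfsgLib.TwistCoset Cfsg.Spor

/-- the formal inverse of one of the five letters -/
def inv5 (c : ℕ) : ℕ := [0, 2, 1, 3, 4].getD c c

/-- the formal inverse of a word in the five letters -/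
def iw5 (w : List ℕ) : List ℕ := (w.map inv5).reverse

/-- a relator or its inverse, rotated -/
def menuRot (e : ℕ × Bool × ℕ) : List ℕ :=
  let r := if e.2.1 then iw5 (relsJ.getD e.1 []) else relsJ.getD e.1 []
  r.drop e.2.2 ++ r.take e.2.2

theorem jg_zero_inv : (jg 0)⁻¹ = jg 0 := by
  refine inv_eq_of_mul_eq_one_right ?_
  rw [jg, ← map_mul]
  have := m24Gen_inv_mul 0
  rw [show m24CertG.inv 0 = 0 from rfl] at this
  rw [this, map_one]

theorem j5_inv (c : ℕ) : j5 (inv5 c) = (j5 c)⁻¹ := by
  by_cases h : c < 5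
  · interval_cases c <;>
      simp [inv5, j5, jg_zero_inv, jg_one, jg_two, tt_inv, inv_eq_of_mul_eq_one_right zz_sq]
  · rw [inv5, List.getD_eq_default _ _ (by simp; omega)]
    simp [j5, show ¬ c < 3 by omega, show c ≠ 3 by omega, show c ≠ 4 by omega]

theorem prodW_iw5 : ∀ w : List ℕ, prodW j5 (iw5 w) = (prodW j5 w)⁻¹
  | [] => by simp [iw5]
  | c :: w => by
    have e : iw5 (c :: w) = iw5 w ++ [inv5 c] := by simp [iw5]
    rw [e, prodW_append, prodW_iw5 w, prodW_single, prodW_cons, j5_inv, mul_inv_rev]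

theorem menuRot_one {e : ℕ × Bool × ℕ} (h : e.1 < relsJ.length) : prodW j5 (menuRot e) = 1 := by
  have hr : prodW j5 (if e.2.1 then iw5 (relsJ.getD e.1 []) else relsJ.getD e.1 []) = 1 := by
    have h1 : prodW j5 (relsJ.getD e.1 []) = 1 := by
      rw [List.getD_eq_getElem _ _ h]
      exact relsJ_one _ (List.getElem_mem h)
    split
    · rw [prodW_iw5, h1, inv_one]
    · exact h1
  unfold menuRot
  dsimp only
  generalize (if e.2.1 then iw5 (relsJ.getD e.1 []) else relsJ.getD e.1 []) = r at hr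
  rw [prodW_append]
  rw [← List.take_append_drop e.2.2 r, prodW_append] at hr
  exact mul_eq_one_comm.mp hr

theorem menu_checks :
    ((tw.menuE == witE.map fun e => iw5 (menuRot e).tail) &&
      (witE.all fun e => Nat.blt e.1 relsJ.length && ((menuRot e).head? == some 4)) &&
      (tw.menuS == witS.map fun e => menuRot e) &&
      (witS.all fun e => Nat.blt e.1 relsJ.length) &&
      ((tw.menuE ++ tw.menuS).all fun Q => Q.all fun c => Nat.ble c 4)) = true := by
  decide +kernel

theorem prodW_twoPart {Q : List ℕ} (h : ∀ c ∈ Q, c ≤ 4) :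
    prodW (fun c => if c < tw.C.K then toH (pzGen c) else tt) Q = prodW j5 Q := by
  refine prodW_congr fun c hc => ?_
  have hK : tw.C.K = 4 := pz_data.2.2.2.2.1
  rw [hK]
  by_cases h' : c < 4
  · rw [if_pos h', toH_gen]
    by_cases h3 : c < 3
    · simp [j5, jz, h3]
    · obtain rfl : c = 3 := by omega
      simp [j5, jz]
  · obtain rfl : c = 4 := by have := h c hc; omega
    simp [j5_four]

theorem menuE_ok : ∀ Q ∈ tw.menuE,
    prodW (fun c => if c < tw.C.K then toH (pzGen c) else tt) Q = tt := by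
  have h := menu_checks
  simp only [Bool.and_eq_true, beq_iff_eq, List.all_eq_true, Nat.blt_eq, Nat.ble_eq] at h
  obtain ⟨⟨⟨⟨hE, hEw⟩, -⟩, -⟩, hlt⟩ := h
  intro Q hQ
  rw [prodW_twoPart (hlt Q (List.mem_append_left _ hQ))]
  rw [hE, List.mem_map] at hQ
  obtain ⟨e, he, rfl⟩ := hQ
  obtain ⟨he1, he2⟩ := hEw e he
  have h1 := menuRot_one he1
  cases hr : menuRot e with
  | nil => simp [hr] at he2
  | cons c r =>
    simp only [hr, List.head?_cons, Option.some.injEq] at he2
    subst he2
    rw [hr, prodW_cons, j5_four] at h1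
    rw [List.tail_cons, prodW_iw5]
    exact inv_eq_of_mul_eq_one_left h1

theorem menuS_ok : ∀ Q ∈ tw.menuS,
    prodW (fun c => if c < tw.C.K then toH (pzGen c) else tt) Q = 1 := by
  have h := menu_checks
  simp only [Bool.and_eq_true, beq_iff_eq, List.all_eq_true, Nat.blt_eq, Nat.ble_eq] at h
  obtain ⟨⟨⟨⟨-, -⟩, hS⟩, hSw⟩, hlt⟩ := h
  intro Q hQ
  rw [prodW_twoPart (hlt Q (List.mem_append_right _ hQ))]
  rw [hS, List.mem_map] at hQ
  obtain ⟨e, he, rfl⟩ := hQ
  exact menuRot_one (hSw e he)

theorem card_PZ : Nat.card PZ = 501397585920 := by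
  haveI := finite_PZ
  refine le_antisymm (card_PZ_le.2.trans (by norm_num)) ?_
  have h := pzAct.card_ge (K := (⊤ : Subgroup PZ)) top_cOK fun _ _ _ _ => trivial
  rwa [top_size, Subgroup.card_top] at h

theorem eq_sound0 {l m : List ℕ} (h : tw.eq l m = true) : prodW pzGen l = prodW pzGen m := by
  haveI := finite_PZ
  refine pzAct.eqW_sound top_cOK (card_PZ.le.trans top_size.ge) ?_
  rw [top_bases]
  exact h

theorem twist_checks :
    (match tw.U with
    | [(a, b), (c, d), (e, f)] => (a == [0]) && (b == [0]) && tw.eq c d && okW c &&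
        trioCertT.subs.contains c &&
        tw.eq e (trioCertT.revInv twG ++ [3] ++ twG) &&
        tw.eq f (twM ++ trioCertT.revInv twG ++ [3] ++ twG)
    | _ => false) = true := by decide +kernel

theorem twist_U : ∀ e ∈ tw.U, toH (prodW pzGen e.1) * tt = tt * toH (prodW pzGen e.2) := by
  have h := twist_checks
  split at h
  case h_2 => simp at h
  rename_i a b c d e f hU
  simp only [Bool.and_eq_true, beq_iff_eq, List.contains_iff_mem] at h
  obtain ⟨⟨⟨⟨⟨⟨ha, hb⟩, hcd⟩, hc⟩, hcs⟩, he⟩, hf⟩ := h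
  rw [hU]
  have hcent : ∀ w ∈ trioCertT.subs, prodW jg w * tt = tt * prodW jg w := fun w hw =>
    mem_centT.1 (trioModel.sub w hw)
  simp only [List.mem_cons, List.not_mem_nil, or_false]
  rintro p (rfl | rfl | rfl)
  · subst ha hb
    rw [toH_word, prodW_jz rfl]
    exact hcent [0] (by decide +kernel)
  · rw [← eq_sound0 hcd, toH_word, prodW_jz hc]
    exact hcent c hcs
  · have hg : okW twG = true := by decide +kernel
    have hgi : okW (trioCertT.revInv twG) = true := by decide +kernel
    have hm : okW twM = true := by decide +kernel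
    have hr : Model trioCertT (⊤ : Subgroup J4) jg :=
      jg_model rfl rfl (by decide +kernel) (fun _ _ => trivial)
    rw [eq_sound0 he, eq_sound0 hf, toH_word, toH_word]
    simp only [prodW_append, prodW_jz hg, prodW_jz hgi, prodW_jz hm, prodW_single, jz_three, hr.revInv_eq]
    have h := twist_z
    set Z := (prodW jg twG)⁻¹ * zz * prodW jg twG
    calc (prodW jg twG)⁻¹ * zz * prodW jg twG * tt = (tt * tt) * (Z * tt) := by rw [tt_sq, one_mul]
      _ = tt * (tt * Z * tt) := by group
      _ = tt * (prodW jg twM * Z) := by rw [h]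
      _ = tt * (prodW jg twM * (prodW jg twG)⁻¹ * zz * prodW jg twG) := by simp only [Z, mul_assoc]

/-- the subgroup of x, y and z -/
noncomputable def subXYZ : Subgroup J4 := Subgroup.closure {jg 0, jg 1, zz}

theorem toH_range : subXYZ = toH.range := by
  rw [MonoidHom.range_eq_map, ← pzGen_top, MonoidHom.map_closure]
  apply le_antisymm
  · rw [subXYZ, Subgroup.closure_le]
    rintro x (rfl | rfl | rfl)
    · exact Subgroup.subset_closure ⟨pzGen 0, ⟨0, by simp [pz_data.1], rfl⟩, by simp [toH_gen, jz]⟩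
    · exact Subgroup.subset_closure ⟨pzGen 1, ⟨1, by simp [pz_data.1], rfl⟩, by simp [toH_gen, jz]⟩
    · exact Subgroup.subset_closure ⟨pzGen 3, ⟨3, by simp [pz_data.1], rfl⟩, by simp [toH_gen, jz]⟩
  · rw [Subgroup.closure_le]
    rintro _ ⟨_, ⟨g, hg, rfl⟩, rfl⟩
    rw [pz_data.1] at hg
    rw [toH_gen, subXYZ]
    interval_cases g
    · exact Subgroup.subset_closure (by simp [jz])
    · exact Subgroup.subset_closure (by simp [jz])
    · rw [show jz 2 = (jg 1)⁻¹ by simp [jz, jg_one, jg_two]]
      exact inv_mem (Subgroup.subset_closure (by simp))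
    · exact Subgroup.subset_closure (by simp [jz])

theorem gen_top_J4 : Subgroup.closure (insert tt (subXYZ : Set J4)) = ⊤ := by
  rw [eq_top_iff, ← PresentedGroup.closure_range_of (coxRelators J4.edges ∪ {r | r ∈ J4.extra}),
    Subgroup.closure_le]
  rintro _ ⟨i, rfl⟩
  have hx : jg 0 ∈ subXYZ := Subgroup.subset_closure (by simp)
  have hy : jg 1 ∈ subXYZ := Subgroup.subset_closure (by simp)
  cases i
  case x => exact Subgroup.subset_closure (Set.mem_insert_of_mem _ (jg_zero ▸ hx))
  case y => exact Subgroup.subset_closure (Set.mem_insert_of_mem _ (jg_one ▸ hy))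
  case t => exact Subgroup.subset_closure (Set.mem_insert _ _)

theorem tw_misc : ((tw.pgens == pzCertL.subs) && (tw.par.getD 0 (0, []) == (0, [])) &&
    (tw.sq == []) && Nat.beq tw.ns 7) = true := by decide +kernel

theorem run0_eq {w : List ℕ} (hw : ∀ g ∈ w, g < pzCertL.K) :
    pzCertL.run 0 w = ((pzAct.ψ (prodW pzGen w)).unop ⟨0, pzCertL_complete.N_pos⟩ : ℕ) :=
  (pzAct.apply w hw ⟨0, pzCertL_complete.N_pos⟩).symm

theorem rig : TRig tw pzGen toH subXYZ tt where
  inv_mul := pzAct.inv_mul
  inv_lt := pzAct.inv_lt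
  eq_sound _ _ h := eq_sound0 h
  H_eq := toH_range
  gen_top := gen_top_J4
  gen0_top := by
    rw [show tw.C.K = pzCertE.K from pz_data.2.2.2.2.1.trans pz_data.1.symm]
    exact pzGen_top
  twist := twist_U
  t_sq := by
    have h := tw_misc
    simp only [Bool.and_eq_true, beq_iff_eq] at h
    rw [h.1.2, prodW_nil, map_one, tt_sq]
  menuE := menuE_ok
  menuS := menuS_ok
  par0 := by
    have h := tw_misc
    simp only [Bool.and_eq_true, beq_iff_eq] at h
    exact h.1.1.2
  fixZero w hw h0 := by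
    have h := tw_misc
    simp only [Bool.and_eq_true, beq_iff_eq] at h
    rw [h.1.1.1]
    exact mem_of_run_eq_zero pzCertL_complete
      (pz_model (H := Subgroup.closure {y | ∃ x ∈ pzCertL.subs, prodW pzGen x = y})
        pz_data.2.2.2.2.1 pz_data.2.2.2.2.2.1 pz_data.2.2.2.2.2.2.2.1
        fun u hu => Subgroup.subset_closure ⟨u, hu, rfl⟩) hw h0
  run_cong u w hu hw h := by
    change pzCertL.run 0 u = pzCertL.run 0 w
    rw [run0_eq hu, run0_eq hw, h]

/-- the facts all hold -/
theorem tw_holds : ∀ f < 175, TData.Holds rig (tw.fct f) := TData.facts_holds rig tw_facts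

end CfsgLib.J4Pres
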