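import Cfsg.Agent.Lib.TwistCoset.Tree
import Cfsg.Agent.Lib.J4Pres.PzDataL

/-!
The certified double cosets.
-/

set_option autoImplicit false
set_option linter.style.longLine false

namespace CfsgLib.J4Pres
open CfsgLib.CosetEnum CfsgLib.TwistCoset
/-- part 0 of the facts -/
noncomputable def twFactsP0 : List (Fact) := [
  .stab 0 [0],
  .stab 0 [1],
  .stab 0 [3],
  .edge 0 [] 1 [],
  .edge 1 [] 0 [],
  .stab 1 [0],
  .stab 1 (wOf 13 0x1010102020101),
  .stab 1 (wOf 59 0x10103203010202020301302010201020102010102020102010101010201),
  .edge 1 [2] 2 [],
  .edge 2 [] 1 [2],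
  .stab 2 (wOf 65 0x20102010302013020130102010201020201010201010101010101020202020202),
  .stab 2 (wOf 71 0x10103023020103023020102010101020101020102010102020102020101010101020102),
  .stab 2 (wOf 65 0x1010202020101020202010202020102020202020201010101010102010102010),
  .stab 2 (wOf 68 0x2010302301303101010202020202010101010102020101020102010201020102010),
  .stab 2 (wOf 72 0x102020103020132020102020201020202020101020102020101010201010201020102010)]

/-- part 1 of the facts -/
noncomputable def twFactsP1 : List (Fact) := [
  .stab 2 (wOf 77 0x20201020301020130203101020202020201020202020202010101010101020101010101020202),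
  .stab 2 (wOf 63 0x20301020301302010202010202010101010101010202010201020201020102),
  .stab 2 (wOf 63 0x101030230201030230201020201020201010101010101020201010102010101),
  .edge 2 (wOf 17 0x10101020201010201) 2 (wOf 82 0x2020202010320201010102010202010202010101020101010201010201010102020201010201010101),
  .edge 2 (wOf 82 0x2020202010320201010102010202010202010101020101010201010201010102020201010201010101) 2 (wOf 17 0x10101020201010201),
  .edge 1 [2,0,2] 3 [],
  .edge 3 [] 1 [2,0,2],
  .stab 3 (wOf 64 0x2010201020301020101010102020202010201010102020101010101010202020),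
  .stab 3 (wOf 63 0x202010103023020130132010202010102020201020202020201010201010101),
  .stab 3 (wOf 83 0x10203010102020301301020102010102010101020101010201020102020201010201010102010101020),
  .stab 3 (wOf 80 0x20102010203010201020102010202010201010102010101020101010201010202010102010101010),
  .stab 3 (wOf 80 0x20301010203010103013020202010201010102010202010101010102020201020102020102020101),
  .edge 2 [2,0,1] 3 (wOf 76 0x2020201030230101010302020202010202010101020101020101010102020101010101020102),
  .edge 3 (wOf 76 0x2020201030230101010302020202010202010101020101020101010102020101010101020102) 2 [2,0,1],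
  .edge 2 (wOf 46 0x2020103023020302010302020201020101020201020102) 2 (wOf 61 0x102030102320201010202010101020201020202010101010102010101010)]

/-- part 2 of the facts -/
noncomputable def twFactsP2 : List (Fact) := [
  .edge 2 (wOf 61 0x102030102320201010202010101020201020202010101010102010101010) 2 (wOf 46 0x2020103023020302010302020201020101020201020102),
  .edge 2 (wOf 23 0x20102020301013023010303) 2 (wOf 77 0x1020301010301302010102020202020101010101010201010202020102010202020101020202),
  .edge 2 (wOf 77 0x1020301010301302010102020202020101010101010201010202020102010202020101020202) 2 (wOf 23 0x20102020301013023010303),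
  .edge 3 (wOf 21 0x101030202010103020230) 3 (wOf 61 0x2020203010203020103030202020201020201020102010101020102020102),
  .edge 3 (wOf 61 0x2020203010203020103030202020201020201020102010101020102020102) 3 (wOf 21 0x101030202010103020230),
  .edge 2 (wOf 35 0x2010203010201303101010202010102010) 2 (wOf 97 0x101010203010230202302020202010202010102010102010101020101010102020201020102010101020201010102010),
  .edge 2 (wOf 97 0x101010203010230202302020202010202010102010102010101020101010102020201020102010101020201010102010) 2 (wOf 35 0x2010203010201303101010202010102010),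
  .edge 1 (wOf 17 0x20101030201030202) 4 [],
  .edge 4 [] 1 (wOf 17 0x20101030201030202),
  .stab 4 (wOf 78 0x202020203010101302030232010202010102010201020201010201020202020102020101010202),
  .stab 4 (wOf 72 0x201030201020103020131010202020101020101010202010202020202010102010101010),
  .stab 4 (wOf 70 0x202020103023010201020201020202010101010102010201010202010102010101010),
  .stab 4 (wOf 76 0x2010101030202020203023201020201020102020202010202020102010201010101010202020),
  .edge 4 [2] 5 [],
  .edge 5 [] 4 [2]]

/-- part 3 of the facts -/
noncomputable def twFactsP3 : List (Fact) := [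
  .stab 5 (wOf 79 0x1020202010302010102020202010102020201020202010202020202020101010101010201010201),
  .stab 5 (wOf 81 0x201020103020130201030201010202010201010101020202010101010102020102020201020101010),
  .stab 5 (wOf 74 0x10203020302023101010202020202010102010202020101020201020202010202020202010),
  .stab 5 (wOf 88 0x1020301020102030130203020201020101020201010102020202020201020102020202020101020202010101),
  .stab 5 (wOf 80 0x20201030202030230130202020102010102020102010202010101020101010201010101020202010),
  .stab 5 (wOf 74 0x2010302301303201020201010201020202010201020201020102010101010101010202020),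
  .edge 1 (wOf 17 0x10101020201010201) 1 (wOf 70 0x2020202010320201010102010102020101010102010102010202010102010202010202),
  .edge 1 (wOf 70 0x2020202010320201010102010102020101010102010102010202010102010202010202) 1 (wOf 17 0x10101020201010201),
  .edge 1 (wOf 21 0x203020101030230230230) 1 (wOf 76 0x201010302302301010302302020202010202010102020202020101010201010201020102010),
  .edge 1 (wOf 76 0x201010302302301010302302020202010202010102020202020101010201010201020102010) 1 (wOf 21 0x203020101030230230230),
  .edge 2 [0,2] 6 [],
  .edge 6 [] 2 [0,2],
  .stab 6 (wOf 71 0x10103023020103023020102010101020101020102010102020102020101010101020102),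
  .stab 6 (wOf 61 0x1020103023010201030230201020201010202020102010101020201010201),
  .stab 6 (wOf 78 0x20203013010202030130201020101020101010201010102010101020101010102020101010202)]

/-- part 4 of the facts -/
noncomputable def twFactsP4 : List (Fact) := [
  .edge 3 (wOf 48 0x20102030102013031010102020101020101010102020101) 3 (wOf 87 0x102030203020103202020102020101020202010102010101010202020102010101010101010202010201010),
  .edge 3 (wOf 87 0x102030203020103202020102020101020202010102010101010202020102010101010101010202010201010) 3 (wOf 48 0x20102030102013031010102020101020101010102020101),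
  .edge 3 (wOf 48 0x101010103023023023023101010201010202010201010201) 6 (wOf 96 0x102010201030201302013010102010202010201020202020102020101020202020101010102010101020101010101010),
  .edge 6 (wOf 96 0x102010201030201302013010102010202010201020202020102020101020202020101010102010101020101010101010) 3 (wOf 48 0x101010103023023023023101010201010202010201010201),
  .edge 5 (wOf 37 0x201020301302010203020101020201010201) 5 (wOf 93 0x20201020203010102010130320202020102020101010202010201010102020101010201020101010102010201020),
  .edge 5 (wOf 93 0x20201020203010102010130320202020102020101010202010201010102020101010201020101010102010201020) 5 (wOf 37 0x201020301302010203020101020201010201),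
  .edge 5 (wOf 64 0x2010101030202020203023010201020201020201020201020202010202010202) 5 (wOf 79 0x101020302030202020301010101020102010102020102010102020202010101020201010102010),
  .edge 5 (wOf 79 0x101020302030202020301010101020102010102020102010102020202010101020201010102010) 5 (wOf 64 0x2010101030202020203023010201020201020201020201020202010202010202),
  .edge 2 (wOf 55 0x2010202030130130202010102020101010101020202010201020102) 4 (wOf 94 0x1020302030201030132020202010202010101020102020201010201020102020202020202010202010102020201010),
  .edge 4 (wOf 94 0x1020302030201030132020202010202010101020102020201010201020102020202020202010202010102020201010) 2 (wOf 55 0x2010202030130130202010102020101010101020202010201020102),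
  .edge 4 (wOf 21 0x203010101020301302020) 4 (wOf 71 0x20102020302030201010201020101010102010202010101010202010101020202020202),
  .edge 4 (wOf 71 0x20102020302030201010201020101010102010202010101010202010101020202020202) 4 (wOf 21 0x203010101020301302020),
  .edge 3 (wOf 17 0x10101020201010201) 3 (wOf 62 0x20202020103202010101010201020201010102010101020201010202020101),
  .edge 3 (wOf 62 0x20202020103202010101010201020201010102010101020201010202020101) 3 (wOf 17 0x10101020201010201),
  .edge 1 (wOf 20 0x1010102020101020102) 1 (wOf 74 0x1020102020101020202020201010202010101010101020202010102020201010201010101)]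

/-- part 5 of the facts -/
noncomputable def twFactsP5 : List (Fact) := [
  .edge 1 (wOf 74 0x1020102020101020202020201010202010101010101020202010102020201010201010101) 1 (wOf 20 0x1010102020101020102),
  .edge 2 (wOf 51 0x101032030102020203013010101010101020101020101010102) 2 (wOf 90 0x20203013020302303102020201010202010102010102020201010201010102010202020101020102010202020),
  .edge 2 (wOf 90 0x20203013020302303102020201010202010102010102020201010201010102010202020101020102010202020) 2 (wOf 51 0x101032030102020203013010101010101020101020101010102),
  .edge 4 (wOf 36 0x203010101020301302020301010101020101) 4 (wOf 104 0x2020201030201301302020102020101020101020102020101020202020202010202020201010102010101010101010201020102),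
  .edge 4 (wOf 104 0x2020201030201301302020102020101020101020102020101020202020202010202020201010102010101010101010201020102) 4 (wOf 36 0x203010101020301302020301010101020101),
  .stab 2 (wOf 86 0x1020301302020103023010201020102010101020201010101010201010202010101020201010102010101),
  .stab 4 (wOf 79 0x1010202010302013013020203020201010202020201020102010201010101020101010102020101),
  .stab 5 (wOf 76 0x2010202030101023010201020101010201010201020101010101010102010101020102020102),
  .edge 3 (wOf 41 0x20202030101020103020231010102020101020202) 6 (wOf 82 0x2010302010303202020201020201010201010202020201020202010201020101020101010102020101),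
  .edge 6 (wOf 82 0x2010302010303202020201020201010201010202020201020202010201020101020101010102020101) 3 (wOf 41 0x20202030101020103020231010102020101020202),
  .edge 3 (wOf 25 0x203010101020301302020201) 3 (wOf 80 0x2030102030131010201020201020102020201010202010202020102020202020101010102020101),
  .edge 3 (wOf 80 0x2030102030131010201020201020102020201010202010202020102020202020101010102020101) 3 (wOf 25 0x203010101020301302020201),
  .edge 2 (wOf 17 0x20101030201030102) 2 (wOf 83 0x10201020301302301023101020102010202010201020201020202010102010202010101010202010102),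
  .edge 2 (wOf 83 0x10201020301302301023101020102010202010201020201020202010102010202010101010202010102) 2 (wOf 17 0x20101030201030102),
  .edge 2 [0,1] 2 (wOf 93 0x10302010201030201302020201020102020202020102010202020101010101020202020202020102020101010202)]

/-- part 6 of the facts -/
noncomputable def twFactsP6 : List (Fact) := [
  .edge 2 (wOf 93 0x10302010201030201302020201020102020202020102010202020101010101020202020202020102020101010202) 2 [0,1],
  .edge 2 (wOf 48 0x102010202010202010202010201020101020102020102020) 2 (wOf 51 0x101020102030102301020102020102020101010202010201010),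
  .edge 2 (wOf 51 0x101020102030102301020102020102020101010202010201010) 2 (wOf 48 0x102010202010202010202010201020101020102020102020),
  .stab 2 (wOf 63 0x20103023010101020102020102020201010102020202010202020102020201),
  .stab 6 (wOf 77 0x2020301301020203013102020101020202020201020102010201020101010101020201010201),
  .edge 4 (wOf 23 0x10103203010202020301301) 2 (wOf 101 0x10202020203010101301301020101010102020201020201010201020201010101020201010102020201020201010202020101),
  .edge 2 (wOf 101 0x10202020203010101301301020101010102020201020201010201020201010101020201010102020201020201010202020101) 4 (wOf 23 0x10103203010202020301301),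
  .stab 4 (wOf 71 0x20302010302302031020102010201010102020202020202010202010101010202010102),
  .stab 5 (wOf 78 0x10102010302010202310102020102020202020102010202020202020201020102020201010201),
  .edge 3 (wOf 16 0x101010202010102) 3 (wOf 76 0x2020301010101030201032010101020101010101020201010101020202010102010201020202),
  .edge 3 (wOf 76 0x2020301010101030201032010101020101010101020201010101020202010102010201020202) 3 (wOf 16 0x101010202010102),
  .edge 4 (wOf 28 0x2030101010203013020203020201) 2 (wOf 86 0x10202010302301013202020202010202010101020201020102010201020101010202020201020102010201),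
  .edge 2 (wOf 86 0x10202010302301013202020202010202010101020201020102010201020101010202020201020102010201) 4 (wOf 28 0x2030101010203013020203020201),
  .edge 5 (wOf 37 0x1010102020101010101020202010201020102) 5 (wOf 86 0x1020103023010202020202010202010102020201010102010201010102010202020101020201010102010),
  .edge 5 (wOf 86 0x1020103023010202020202010202010102020201010102010201010102010202020101020201010102010) 5 (wOf 37 0x1010102020101010101020202010201020102)]

/-- part 7 of the facts -/
noncomputable def twFactsP7 : List (Fact) := [
  .edge 5 (wOf 31 0x2010103020103010201020102010101) 5 (wOf 84 0x101010102030102023010202010201010101020201010102020101020202020202020101020202010201),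
  .edge 5 (wOf 84 0x101010102030102023010202010201010101020201010102020101020202020202020101020202010201) 5 (wOf 31 0x2010103020103010201020102010101),
  .edge 2 (wOf 45 0x101010103023023023023101010202010201010102020) 2 (wOf 76 0x2020301020102030130230202020102020202020201010202020201020201010101010202020),
  .edge 2 (wOf 76 0x2020301020102030130230202020102020202020201010202020201020201010101010202020) 2 (wOf 45 0x101010103023023023023101010202010201010102020),
  .edge 2 (wOf 36 0x20203013010202010102020102010202020) 5 (wOf 74 0x20202030130203023020102010201010201020202020202010102010201010102010101020),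
  .edge 5 (wOf 74 0x20202030130203023020102010201010201020202020202010102010201010102010101020) 2 (wOf 36 0x20203013010202010102020102010202020),
  .stab 5 (wOf 99 0x203010202010302301013030101020101020102020101020201020201010102020201010201010101010201020201010102),
  .stab 5 (wOf 69 0x201010103023023020202010201010201010102010102020102020201020202020201),
  .edge 5 (wOf 21 0x201010302010301020201) 2 (wOf 82 0x2010302010102030130202010201020101020201010101010101020202010202010102010201020202),
  .edge 2 (wOf 82 0x2010302010102030130202010201020101020201010101010101020202010202010102010201020202) 5 (wOf 21 0x201010302010301020201),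
  .edge 5 (wOf 21 0x203010101020301302020) 5 (wOf 73 0x202020203010101301310101020201010201010201010102010202010201020201020102),
  .edge 5 (wOf 73 0x202020203010101301310101020201010201010201010102010202010201020201020102) 5 (wOf 21 0x203010101020301302020),
  .edge 5 (wOf 33 0x101032030102020203013020101020201) 5 (wOf 98 0x20101020301023023010303201020202010102010201020201010202020202010102020201020102010101020201010201),
  .edge 5 (wOf 98 0x20101020301023023010303201020202010102010201020201010202020202010102020201020102010101020201010201) 5 (wOf 33 0x101032030102020203013020101020201),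
  .edge 5 (wOf 26 0x20301010102030130202010201) 3 (wOf 86 0x10102030102020103010201010201010101010202020202010102020202020102020201020202020201010)]

/-- part 8 of the facts -/
noncomputable def twFactsP8 : List (Fact) := [
  .edge 3 (wOf 86 0x10102030102020103010201010201010101010202020202010102020202020102020201020202020201010) 5 (wOf 26 0x20301010102030130202010201),
  .edge 6 (wOf 39 0x202030102020301020310101020202010201010) 6 (wOf 84 0x101010302023010102020202020102010202020101020202010201020202020102020101010101020102),
  .edge 6 (wOf 84 0x101010302023010102020202020102010202020101020202010201020202020102020101010101020102) 6 (wOf 39 0x202030102020301020310101020202010201010),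
  .edge 2 (wOf 43 0x2010202030130130202010102020101010101020202) 3 (wOf 101 0x20101020301302023013202020201020201010101010201020102020102020201010202020102020101020202020201010201),
  .edge 3 (wOf 101 0x20101020301302023013202020201020201010101010201020102020102020201010202020102020101020202020201010201) 2 (wOf 43 0x2010202030130130202010102020101010101020202),
  .stab 3 (wOf 76 0x1020103020101020301010302020201010102020202010202020101020102010202010102010),
  .stab 6 (wOf 91 0x101020103020130202030201010101020102010102020101020202010101020102020201010101020101010102),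
  .edge 3 (wOf 17 0x10101020202010201) 3 (wOf 103 0x1020102030101030130102010202020102010101020101020202010102010201020202010202020102020201020202020201010),
  .edge 3 (wOf 103 0x1020102030101030130102010202020102010101020101020202010102010201020202010202020102020201020202020201010) 3 (wOf 17 0x10101020202010201),
  .edge 3 (wOf 29 0x1010202030130102020201010201) 2 (wOf 86 0x20201010203010202013010102010201020201010201020102020102020101010201020202020101020102),
  .edge 2 (wOf 86 0x20201010203010202013010102010201020201010201020102020102020101010201020202020101020102) 3 (wOf 29 0x1010202030130102020201010201),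
  .edge 3 (wOf 16 0x2010103020103010) 6 (wOf 88 0x1020301020103020310202010102020201020102020201010102020202020101020102020201020202020202),
  .edge 6 (wOf 88 0x1020301020103020310202010102020201020102020201010102020202020101020102020201020202020202) 3 (wOf 16 0x2010103020103010),
  .edge 3 [0,2,0] 6 (wOf 85 0x2010201030230102301320202010102020102010101020202020101010101010202020102010201020102),
  .edge 6 (wOf 85 0x2010201030230102301320202010102020102010101020202020101010101010202020102010201020102) 3 [0,2,0]]

/-- part 9 of the facts -/
noncomputable def twFactsP9 : List (Fact) := [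
  .edge 3 (wOf 37 0x1010320301020202030130101010202010201) 3 (wOf 93 0x20201030230101020202020202010202020201020101010201010201020102020201010202020101020102010202),
  .edge 3 (wOf 93 0x20201030230101020202020202010202020201020101010201010201020102020201010202020101020102010202) 3 (wOf 37 0x1010320301020202030130101010202010201),
  .edge 3 [2,0,1,0,2] 3 (wOf 81 0x203010202030101303102010201010201020201010101020202010101020102020201020202020201),
  .edge 3 (wOf 81 0x203010202030101303102010201010201020201010101020202010101020102020201020202020201) 3 [2,0,1,0,2],
  .edge 5 (wOf 49 0x2010203010201020301303102010201010202010201010201) 6 (wOf 66 0x201010203010230202030201020102020102020202010201020102020201020102),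
  .edge 6 (wOf 66 0x201010203010230202030201020102020102020202010201020102020201020102) 5 (wOf 49 0x2010203010201020301303102010201010202010201010201),
  .edge 6 (wOf 22 0x101020203013010202020) 6 (wOf 97 0x320203020103023023010310101010202020102010101010202010201010102010201020102010201020202010201020),
  .edge 6 (wOf 97 0x320203020103023023010310101010202020102010101010202010201010102010201020102010201020202010201020) 6 (wOf 22 0x101020203013010202020),
  .edge 6 (wOf 21 0x101010202010201010201) 6 (wOf 60 0x20101030230230103201010101010101010101020202010102010101010),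
  .edge 6 (wOf 60 0x20101030230230103201010101010101010101020202010102010101010) 6 (wOf 21 0x101010202010201010201),
  .edge 6 (wOf 21 0x101030202010103020230) 6 (wOf 89 0x10201020301302301302010202010201020201010201020101020202020101020102010201010101010202020),
  .edge 6 (wOf 89 0x10201020301302301302010202010201020201010201020101020202020101020102010201010101010202020) 6 (wOf 21 0x101030202010103020230),
  .edge 6 (wOf 23 0x20302010103023023023010) 6 (wOf 100 0x101010302302010301032020202010102010202010101010102020201010101010102010102020102020101010101020202),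
  .edge 6 (wOf 100 0x101010302302010301032020202010102010202010101010102020201010101010102010102020102020101010101020202) 6 (wOf 23 0x20302010103023023023010),
  .edge 3 (wOf 18 0x20101030201030202) 5 (wOf 62 0x20101020301023020132010202010202010101010202010101020201020101)]

/-- part 10 of the facts -/
noncomputable def twFactsP10 : List (Fact) := [
  .edge 5 (wOf 62 0x20101020301023020132010202010202010101010202010101020201020101) 3 (wOf 18 0x20101030201030202),
  .edge 5 (wOf 36 0x101010103023023023023101010202010102) 6 (wOf 95 0x10103020101020301023010101010101010201020101020102010201010101010101020102020101020102020102020),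
  .edge 6 (wOf 95 0x10103020101020301023010101010101010201020101020102010201010101010101020102020101020102020102020) 5 (wOf 36 0x101010103023023023023101010202010102),
  .edge 5 (wOf 24 0x20301010102030130202010) 5 (wOf 71 0x20103023010103023102010202010202020202020201010201020202010202020202010),
  .edge 5 (wOf 71 0x20103023010103023102010202010202020202020201010201020202010202020202010) 5 (wOf 24 0x20301010102030130202010),
  .edge 5 (wOf 18 0x201010302010301020) 2 (wOf 110 0x20202010203013020101020202010202020201010101010202010102020201010101010102020201010202010101020102020201010201),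
  .edge 2 (wOf 110 0x20202010203013020101020202010202020201010101010202010102020201010101010102020201010202010101020102020201010201) 5 (wOf 18 0x201010302010301020),
  .edge 5 (wOf 22 0x101020203013010202020) 3 (wOf 100 0x202010203010201020302031010202020202010101010102010101020201020101020202020202010101010202010201010),
  .edge 3 (wOf 100 0x202010203010201020302031010202020202010101010102010101020201020101020202020202010101010202010201010) 5 (wOf 22 0x101020203013010202020),
  .edge 5 [0,2,0,2,0,2,0,1,0,1,0,1] 5 (wOf 83 0x10203010203030202020102010201010201020102010201010201020201010101020101010201010102),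
  .edge 5 (wOf 83 0x10203010203030202020102010201010201020102010201010201020201010101020101010201010102) 5 [0,2,0,2,0,2,0,1,0,1,0,1],
  .edge 5 [0,2] 6 (wOf 92 0x20203010101020301023020202020101010102010201010201020202010202020202020202020101020202010201),
  .edge 6 (wOf 92 0x20203010101020301023020202020101010102010201010201020202010202020202020202020101020202010201) 5 [0,2],
  .edge 6 (wOf 26 0x20301010102030130202030202) 6 (wOf 86 0x2020302020301302010202010201020202010201020201020201010102020201020101010202010102010),
  .edge 6 (wOf 86 0x2020302020301302010202010201020202010201020201020201010102020201020101010202010102010) 6 (wOf 26 0x20301010102030130202030202)]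

/-- part 11 of the facts -/
noncomputable def twFactsP11 : List (Fact) := [
  .edge 2 (wOf 16 0x1010101020102020) 5 (wOf 78 0x102020301013023201020102010201010101010201020201010101020101010201020201010102),
  .edge 5 (wOf 78 0x102020301013023201020102010201010101010201020201010101020101010201020201010102) 2 (wOf 16 0x1010101020102020),
  .edge 3 (wOf 25 0x203010101020301302020101) 5 (wOf 91 0x102010103020201302032020101020101010101020201010102010202020101020101010201010201020201010),
  .edge 5 (wOf 91 0x102010103020201302032020101020101010101020201010102010202020101020101010201010201020201010) 3 (wOf 25 0x203010101020301302020101),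
  .edge 5 (wOf 24 0x101032030102020203013101) 5 (wOf 86 0x2010203010103013013030202010101010201010101020201010201010101020102010101020202010201),
  .edge 5 (wOf 86 0x2010203010103013013030202010101010201010101020201010201010101020102010101020202010201) 5 (wOf 24 0x101032030102020203013101),
  .edge 5 (wOf 33 0x101030202020103020131010102020102) 5 (wOf 61 0x102020103020101020102010201010102010101020201010102010201020),
  .edge 5 (wOf 61 0x102020103020101020102010201010102010101020201010102010201020) 5 (wOf 33 0x101030202020103020131010102020102),
  .edge 5 (wOf 31 0x2010103023023020302310101020201) 5 (wOf 81 0x202030101010301020101010101020102020101020101010201010202020201010102020101010201),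
  .edge 5 (wOf 81 0x202030101010301020101010101020102020101020101010201010202020201010102020101010201) 5 (wOf 31 0x2010103023023020302310101020201)]

/-- the facts -/
noncomputable def twFacts : List (Fact) :=
  [twFactsP0, twFactsP1, twFactsP2, twFactsP3, twFactsP4, twFactsP5, twFactsP6, twFactsP7, twFactsP8, twFactsP9, twFactsP10, twFactsP11].flatten

/-- part 0 of the justifications -/
noncomputable def twJustP0 : List (Just) := [
  .base,
  .base,
  .base,
  .def',
  .rev 3,
  .ubase [(0,false)],
  .ubase [(1,false)],
  .ubase [(2,false)],
  .def',
  .rev 8]

/-- part 1 of the justifications -/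
noncomputable def twJustP1 : List (Just) := [
  .lift 1 (wOf 83 0x2010201030201302013020101010202010201020202020101010101010202020102020201010202020) ⟨8,[(6,false),(7,false),(5,false),(7,false),(6,false),(5,false),(6,true),(5,false),(6,false),(6,false)],[]⟩ ⟨8,[(6,true),(6,true),(5,false),(6,false),(5,false),(6,true),(7,false),(6,true),(7,false),(5,false),(6,true),(5,false)],[(0,false),(1,true),(0,false),(1,false),(0,false),(1,true),(0,false),(1,false),(0,false),(1,false),(1,false),(0,false),(1,false),(0,false),(1,false),(0,false),(1,true),(0,false),(1,false),(0,false),(1,false),(0,false),(1,false),(0,false),(2,false),(0,false),(1,true),(0,false),(1,true),(0,false)]⟩,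
  .lift 1 (wOf 71 0x10201020301020130232020201010102020201010101010102010102010101020201010) ⟨8,[(6,false),(6,false),(5,false),(6,true),(5,false),(7,false),(6,false),(5,false),(6,false)],[]⟩ ⟨8,[(7,false),(6,false),(6,false),(7,false),(5,false),(6,true),(5,false),(6,false),(5,false),(6,false)],[(0,false),(2,false),(0,false),(1,true),(2,false),(1,false),(1,false),(0,false),(2,false),(0,false),(1,true)]⟩,
  .lift 1 (wOf 58 0x1020201020102020201010201010101020202020101010202020102010) ⟨8,[(6,false),(6,false),(5,false),(6,true),(5,false),(6,true),(5,false),(6,false),(6,false)],[]⟩ ⟨8,[(5,true),(6,false),(5,false),(6,true),(5,false),(6,true),(5,false),(6,true),(5,false),(6,false),(5,false)],[(0,false),(1,false),(0,false),(1,false),(1,false),(0,false),(1,false),(1,false),(0,false),(1,false),(1,false),(0,false),(1,true),(0,false),(1,true),(0,false),(1,false),(0,false),(1,true),(0,false),(1,false),(1,false)]⟩,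
  .lift 1 (wOf 69 0x102010102030102302301020101020202020201010202010202020101020202010101) ⟨8,[(7,false),(6,true),(5,false),(6,false),(6,false),(7,false),(5,false)],[]⟩ ⟨8,[(6,false),(5,false),(6,false),(5,false),(6,false),(5,false),(6,false),(7,false)],[(1,true),(0,false),(1,true),(0,false),(1,false),(0,false),(1,false),(1,false),(0,false),(1,false),(1,false),(0,false),(1,true),(0,false),(1,false),(0,false),(1,true),(0,false),(1,false),(1,false),(2,false),(1,true),(1,true),(0,false),(2,false),(0,false),(1,false),(1,false),(0,false),(1,true),(0,false),(1,false),(0,false),(1,true),(2,false),(1,false),(0,false),(1,true),(0,false),(1,false),(0,false)]⟩,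
  .lift 1 (wOf 72 0x20202030101302030203102020102010202010101020201010102010202020102010101) ⟨8,[(6,true),(5,false),(7,false),(6,false),(6,false),(7,false),(5,false),(6,true),(5,false),(6,false),(6,false)],[]⟩ ⟨8,[(7,true),(5,false),(6,false),(6,false),(5,false),(6,true),(7,false),(5,false),(6,true),(7,false),(5,false),(6,false)],[(0,false),(1,false),(1,false),(0,false),(1,true),(0,false),(1,false),(1,false),(0,false),(1,true),(0,false),(1,false),(0,false),(1,false),(1,false),(0,false),(1,false),(0,false),(1,false),(1,false),(0,false),(0,false),(1,false),(0,false),(1,true),(2,false),(1,false),(0,false),(1,true),(0,false)]⟩,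
  .lift 1 (wOf 66 0x10102030101030202010201020201010202020201020102020201020101020201) ⟨8,[(7,false),(5,false),(6,true),(5,false),(6,true),(7,false),(5,false),(7,false)],[]⟩ ⟨8,[(5,false),(7,false),(6,true),(5,false),(6,false),(6,false),(7,false),(6,false),(5,false)],[(0,false),(1,true),(0,false),(1,false),(1,false),(0,false),(1,true),(0,false),(1,false),(0,false),(1,false),(1,false),(0,false),(1,false),(0,false),(0,false),(2,false),(0,false),(0,false),(1,true),(2,false),(1,false),(0,false),(0,false),(1,false),(0,false),(2,false),(0,false),(1,true),(0,false)]⟩,
  .lift 1 (wOf 74 0x10201020301020203020230201020102010101020102010202010101020202020101020202) ⟨8,[(6,true),(5,false),(6,true),(5,false),(7,false),(6,false),(6,false),(5,false),(6,false),(6,false)],[]⟩ ⟨8,[(7,false),(5,false),(6,false),(5,false),(7,false),(6,true),(5,false),(6,true),(5,false),(6,false),(5,false)],[(0,false),(1,false),(0,false),(1,false),(0,false),(1,true),(0,false),(1,false),(1,false),(0,false),(1,false),(0,false),(1,true),(0,false),(1,true),(0,false),(2,false),(1,false),(0,false),(2,false),(0,false),(1,true),(1,true),(0,false),(1,true),(1,true),(0,false),(2,false),(0,false),(1,false),(1,false),(0,false),(1,false)]⟩,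
  .lift 1 (wOf 78 0x202010302301010303202020202010202010102020202010201020101010202020101010102020) ⟨8,[(5,false),(7,false),(6,true),(5,false),(7,false),(6,false),(5,false),(6,false),(6,false),(5,false),(6,false),(5,false),(6,false)],[]⟩ ⟨8,[(6,false),(5,false),(6,true),(7,false),(5,false),(6,true),(7,false),(6,true),(5,false),(6,false),(5,false),(6,false),(6,false),(5,false)],[(0,false),(1,false),(0,false),(1,true),(0,false),(1,false),(0,false),(1,false),(0,false),(1,false),(1,false),(0,false),(1,false),(1,false),(0,false),(1,false),(1,false),(0,false),(1,false),(0,false),(2,false),(0,false),(1,true),(2,false),(1,false),(1,false),(0,false),(2,false),(0,false),(1,true)]⟩,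
  .path 2 [⟨9,[],[(0,false),(1,false),(0,false),(1,false),(0,false),(1,true),(0,false),(1,false),(0,false),(1,false),(0,false),(1,true),(0,false),(1,false),(0,false),(1,true),(0,false),(1,true),(2,false),(1,true),(1,true),(2,false),(1,false),(1,false),(1,false),(0,false),(1,true),(2,false),(1,false),(0,false),(1,true)]⟩,⟨8,[(6,false),(5,false),(6,false),(5,false),(6,true),(5,false),(6,false),(5,false),(6,false),(6,false),(5,false)],[(1,false),(0,false),(1,false),(0,false),(1,false),(1,false),(0,false),(1,false),(0,false),(1,false),(1,false),(0,false),(2,false),(1,true),(1,true),(2,false),(1,false),(1,false),(1,false),(0,false),(1,true),(2,false),(1,false),(0,false),(1,true)]⟩],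
  .rev 18]

/-- part 2 of the justifications -/
noncomputable def twJustP2 : List (Just) := [
  .def',
  .rev 20,
  .lift 1 (wOf 71 0x20203020202030101302020102010201010102020101010101020201010102010201020) ⟨20,[(6,false),(5,false),(6,false),(5,false),(6,false),(7,false),(6,false),(7,false),(6,false),(6,false)],[]⟩ ⟨20,[(7,false),(6,false),(6,false),(5,false),(6,false),(6,false),(7,false),(6,false),(5,false),(7,false),(6,true)],[(0,false),(1,false),(0,false),(1,false),(1,false),(0,false),(1,true),(0,false),(1,false),(0,false),(1,false),(0,false),(1,false),(0,false),(1,false),(0,false),(1,false),(0,false),(1,false),(0,false),(1,true),(0,false),(1,true),(0,false),(2,false),(0,false),(1,false),(1,false),(0,false),(1,true),(2,false),(1,false),(0,false),(1,true)]⟩,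
  .lift 1 (wOf 67 0x1010302302030320102020102010202020101020102020101020202010201020102) ⟨20,[(5,false),(6,true),(7,false),(5,false),(7,false),(6,true),(7,false),(5,false),(6,true),(7,false)],[]⟩ ⟨20,[(6,false),(5,false),(6,false),(7,false),(6,false),(5,false),(6,true),(5,false),(7,false),(6,false),(6,false),(5,false)],[(0,false),(1,false),(0,false),(1,false),(0,false),(1,true),(0,false),(1,false),(1,false),(0,false),(1,false),(0,false),(1,false),(1,false),(0,false),(1,false),(0,false),(1,false),(1,false),(0,false),(1,true),(0,false),(1,true),(1,true),(2,false),(1,false),(1,false),(0,false),(1,false)]⟩,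
  .lift 1 (wOf 77 0x10203010101020301023202010102010202020102010102020101020102010101020201010201) ⟨20,[(6,false),(7,false),(6,false),(7,false),(6,false),(6,false),(5,false),(6,false),(6,false)],[]⟩ ⟨20,[(5,true),(6,false),(7,false),(5,false),(7,false),(5,false),(6,false),(5,false),(7,false),(5,false)],[(2,false),(1,true),(0,false),(1,false),(0,false),(1,false),(0,false),(1,false),(0,false),(2,false),(0,false),(1,true),(0,false),(1,true),(0,false),(1,true),(0,false),(1,false)]⟩,
  .lift 1 (wOf 81 0x10202010302301010103010102010202020202020101010102020102020201010201020201010102) ⟨20,[(6,true),(7,false),(5,false),(6,true),(5,false),(6,true),(5,false),(6,true)],[]⟩ ⟨20,[(5,true),(7,false),(6,false),(5,false),(6,false),(6,false),(7,false),(5,false),(6,false),(6,false)],[(1,false),(0,false),(1,false),(0,false),(1,false),(0,false),(1,false),(1,false),(0,false),(1,true),(0,false),(1,false),(0,false),(1,false),(0,false),(1,false),(0,false),(1,false),(0,false),(1,false),(1,false),(1,true),(0,false),(2,false),(0,false),(1,false),(1,false),(0,false),(1,true),(2,false),(1,false),(0,false),(1,true)]⟩,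
  .lift 1 (wOf 53 0x10203010202030103010202010102010202010101020102010101) ⟨20,[(6,false),(5,false),(6,true),(7,false),(6,true),(7,false),(6,true),(5,false),(6,false)],[]⟩ ⟨20,[(7,false),(5,false),(6,true),(7,false),(5,false),(6,true),(7,false),(6,true),(7,false),(5,false)],[(0,false),(1,false),(0,false),(1,false),(0,false),(1,true),(0,false),(1,false),(0,false),(1,false),(0,false),(1,true),(0,false),(1,false),(0,false),(1,true),(0,false),(1,false),(0,false),(1,false),(1,false),(1,false),(0,false),(1,false),(0,false),(1,true),(2,false),(1,false),(0,false),(1,true),(0,false),(1,true)]⟩,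
  .path 2 [⟨9,[],[(0,false),(1,true),(0,false),(1,true),(0,false),(1,true),(0,false),(1,false),(0,false),(1,false),(1,false),(0,false),(1,false),(0,false),(1,true),(0,false),(1,true),(2,false),(1,true),(1,true),(2,false),(1,false),(1,false),(1,false),(0,false),(1,true),(2,false),(1,false),(0,false),(1,true)]⟩,⟨20,[(7,false),(6,true),(7,false),(6,false),(5,false),(6,true),(7,false),(5,false),(7,false)],[(0,false),(1,false),(0,false),(1,false),(1,false),(0,false),(1,false),(0,false),(1,true),(0,false),(1,true),(0,false),(1,true),(0,false),(1,true),(0,false),(1,false),(1,false),(0,false),(1,true),(0,false),(2,false),(0,false),(1,false),(0,false),(1,true),(1,true),(0,false),(2,false),(0,false),(1,false),(1,false)]⟩],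
  .rev 27,
  .path 2 [⟨27,[(13,false),(11,false)],[(0,false),(1,false),(0,false),(1,true),(0,false),(1,false),(0,false),(1,false),(0,false),(1,false),(1,false),(0,false),(1,false),(0,false),(1,false),(0,false),(1,false),(1,false),(2,false),(1,true),(1,true),(0,false),(1,true),(1,true),(2,false),(1,false),(1,false),(0,false),(1,false)]⟩,⟨28,[(24,false)],[(0,false),(1,false),(0,false),(1,false),(0,false),(1,true),(0,false),(1,true),(0,false),(1,false),(0,false),(1,false),(0,false),(1,false),(2,false),(0,false),(2,false),(0,false),(1,true),(1,true),(2,false),(1,false),(1,false),(1,true),(0,false),(1,true),(1,true),(2,false),(1,false),(1,false),(0,false),(1,false)]⟩]]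

/-- part 3 of the justifications -/
noncomputable def twJustP3 : List (Just) := [
  .rev 29,
  .path 2 [⟨27,[(11,false),(10,false)],[(1,false),(1,false),(0,false),(1,true),(0,false),(1,true),(0,false),(1,false),(0,false),(1,false),(1,false),(0,false),(1,false),(0,false),(2,false),(0,false),(2,false),(0,false),(1,true),(1,true),(2,false),(1,false),(1,false)]⟩,⟨28,[(25,false),(23,false),(25,false)],[(0,false),(1,true),(0,false),(1,true),(0,false),(1,false),(0,false),(1,false),(1,false),(0,false),(1,false),(0,false),(1,false),(1,false),(0,false),(1,false),(0,false),(1,false),(0,false),(1,false),(1,false),(0,false),(1,false),(2,false),(1,true),(0,false),(1,true),(0,false),(2,false),(0,false),(1,false),(0,false),(1,false)]⟩],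
  .rev 31,
  .path 3 [⟨28,[(23,false),(26,true)],[(1,false),(1,false),(0,false),(1,false),(1,false),(0,false),(1,false),(1,false),(0,false),(1,false),(1,false),(0,false),(1,false),(0,false),(1,true),(0,false),(1,false),(1,false),(0,false),(2,false),(0,false),(1,false),(0,false),(2,false),(0,false),(1,true),(0,false),(0,false),(1,true),(1,true),(2,false),(1,false),(1,false),(0,false)]⟩,⟨27,[(10,true),(11,false),(10,false)],[(0,false),(1,false),(0,false),(1,false),(0,false),(1,true),(0,false),(1,true),(0,false),(1,false),(0,false),(1,true),(0,false),(1,false),(0,false),(1,true),(0,false),(1,false),(0,false),(1,false),(1,true),(1,true),(2,false),(1,false),(1,false),(1,true),(0,false),(1,true),(1,true),(2,false),(1,false),(1,false),(0,false),(1,false)]⟩],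
  .rev 33,
  .path 2 [⟨9,[],[(1,false),(0,false),(1,false),(0,false),(1,true),(0,false),(1,false),(0,false),(1,false),(0,false),(1,true),(0,false),(1,false),(0,false),(1,true),(0,false),(1,true),(0,false),(2,false),(0,false),(0,false),(1,true),(2,false),(1,false),(0,false),(0,false),(1,false),(0,false),(2,false),(0,false),(1,true),(0,false)]⟩,⟨8,[(7,false),(6,true),(5,false),(6,true),(7,false),(5,false),(6,true),(5,false),(6,false),(6,false)],[(1,false),(0,false),(1,false),(1,false),(0,false),(1,false),(1,false),(0,false),(1,true),(0,false),(1,false),(0,false),(1,true),(0,false),(1,false),(1,false),(0,false),(1,false),(0,false),(1,false),(1,false),(0,false),(2,false),(0,false),(1,true),(1,true),(0,false),(2,false),(0,false),(1,false),(1,false)]⟩],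
  .rev 35,
  .def',
  .rev 37,
  .lift 1 (wOf 77 0x1020101020301302020102020101020201020101010202010102020201020102020102020101) ⟨37,[(7,false),(6,false),(5,false),(6,true),(5,false),(6,false),(6,false)],[]⟩ ⟨37,[(6,true),(5,false),(6,true),(5,false),(6,true),(5,false),(6,true)],[(1,false),(0,false),(1,true),(0,false),(1,false),(1,false),(0,false),(1,false),(1,false),(0,false),(1,true),(0,false),(1,false),(0,false),(1,false),(0,false),(1,true),(0,false),(1,true),(0,false),(1,false),(0,false),(1,true),(0,false),(2,false),(0,false),(1,true),(2,false),(1,false),(0,false),(1,true),(0,false),(2,false),(0,false),(1,false),(0,false)]⟩]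

/-- part 4 of the justifications -/
noncomputable def twJustP4 : List (Just) := [
  .lift 1 (wOf 85 0x201020201030201010201303201020201020201020101010202020101020102010201010202010102010) ⟨37,[(6,true),(7,false),(5,false),(6,true)],[]⟩ ⟨37,[(7,true),(6,true),(7,false),(5,false),(6,true)],[(0,false),(1,false),(1,false),(0,false),(1,false),(1,false),(0,false),(1,false),(1,false),(0,false),(1,false),(1,false),(0,false),(1,false),(1,false),(0,false),(1,false),(1,false),(0,false),(1,true),(2,false),(1,false),(0,false),(1,false),(0,false),(1,true),(2,false),(1,false),(0,false),(1,true),(0,false),(1,true),(1,true),(2,false),(1,false),(1,false),(0,false)]⟩,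
  .lift 1 (wOf 77 0x10302010202030130130203201010102010101020201020101020202010201010101020201010) ⟨37,[(5,false),(6,false),(5,false),(7,false),(6,true),(5,false),(6,false)],[]⟩ ⟨37,[(6,true),(6,true),(7,false),(5,false),(6,false),(5,false),(6,false),(6,false)],[(1,false),(1,false),(0,false),(1,true),(0,false),(1,true),(0,false),(1,false),(1,false),(0,false),(1,true),(0,false),(1,true),(0,false),(1,false),(0,false),(1,true),(0,false),(1,false),(0,false),(1,false),(2,false),(1,true),(0,false),(1,true),(2,false),(1,false),(0,false),(1,true),(1,true),(2,false),(1,false),(1,false)]⟩,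
  .lift 1 (wOf 39 0x201010302010302010102020101010101020202) ⟨37,[(6,false),(6,false),(5,false),(6,false)],[]⟩ ⟨37,[(5,false),(6,false),(6,false),(7,false),(6,true)],[(1,false),(1,false),(0,false),(1,true),(0,false),(1,false),(1,false),(0,false),(1,true),(0,false),(1,false),(0,false),(1,false),(1,false),(0,false),(1,false),(0,false),(1,false),(1,false),(0,false),(1,true),(2,false),(1,false),(0,false)]⟩,
  .def',
  .rev 43,
  .lift 4 (wOf 81 0x10102030130230230310101010202020201020202010201020101010101010202010102010101010) ⟨43,[(39,false),(40,false),(41,true),(39,false),(39,false)],[]⟩ ⟨43,[(42,false),(41,false),(39,true),(40,false),(41,false),(39,true)],[(0,false),(1,false),(0,false),(1,false),(0,false),(1,false),(1,false),(0,false),(1,false),(1,false),(0,false),(1,false),(1,false),(0,false),(1,true),(0,false),(1,true),(0,false),(2,false),(0,false),(2,false),(0,false),(1,false),(2,false),(1,true)]⟩,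
  .lift 4 (wOf 67 0x2020103023201010202020202010102020202010201020102010201010101020202) ⟨43,[(41,false),(42,false),(41,false),(41,false),(39,false)],[]⟩ ⟨43,[(40,true),(42,false),(39,false),(41,false),(39,false),(40,false),(39,false)],[(1,false),(0,false),(1,false),(0,false),(1,true),(0,false),(1,true),(0,false),(1,false),(0,false),(1,false),(1,false),(0,false),(1,false),(0,false),(1,false),(0,false),(1,true),(0,false),(1,false),(1,false),(0,false),(1,true),(1,true),(2,false),(1,false),(1,false),(2,false),(1,true)]⟩,
  .lift 4 (wOf 75 0x10101030230201030103020202010202020102010202010101010101020202020102020101) ⟨43,[(41,false),(40,false),(39,false),(40,false),(39,false)],[]⟩ ⟨43,[(42,true),(41,false),(40,false),(39,true),(41,true),(40,false)],[(0,false),(1,false),(0,false),(1,false),(0,false),(1,false),(1,false),(0,false),(1,false),(1,false),(0,false),(1,false),(1,false),(0,false),(1,true),(0,false),(1,true),(0,false),(0,false),(2,false),(0,false),(1,false),(0,false),(2,false),(0,false),(1,true)]⟩,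
  .lift 4 (wOf 79 0x201020103023010230102010201020201020201010201020202020102010201010201020101010) ⟨43,[(39,false),(40,false),(42,false),(41,false),(39,false)],[]⟩ ⟨43,[(42,false),(40,false),(41,true),(39,true),(41,true),(40,false),(39,false)],[(0,false),(1,false),(0,false),(1,false),(1,false),(0,false),(1,false),(1,false),(0,false),(1,false),(1,false),(0,false),(1,true),(0,false),(1,true),(0,false),(1,false),(0,false),(1,true),(0,false),(1,false),(1,false),(1,true),(2,false),(1,false),(1,true),(1,true),(0,false),(2,false),(0,false),(1,false),(1,false)]⟩,
  .lift 4 (wOf 80 0x2020203010203020130320202020102020101020102020101010201010102020201020102010201) ⟨43,[(41,true),(40,false),(39,true),(42,false)],[]⟩ ⟨43,[(39,false),(42,false),(39,true),(40,false),(42,false)],[(0,false),(1,false),(0,false),(1,false),(0,false),(1,false),(1,false),(0,false),(1,false),(1,false),(0,false),(1,false),(1,false),(0,false),(1,true),(0,false),(1,true),(0,false),(1,true),(0,false),(2,false),(0,false),(1,false),(1,true),(0,false),(1,true),(0,false),(2,false),(0,false),(1,false),(0,false),(1,false)]⟩]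

/-- part 5 of the justifications -/
noncomputable def twJustP5 : List (Just) := [
  .lift 4 (wOf 60 0x101020301023020303201020102010202010202020201020101010102010) ⟨43,[(41,false),(39,false),(41,true)],[]⟩ ⟨43,[(39,true),(41,true),(42,false),(39,false)],[(0,false),(1,false),(1,false),(0,false),(1,true),(0,false),(1,false),(1,false),(0,false),(1,true),(0,false),(1,false),(0,false),(1,false),(1,false),(0,false),(1,false),(0,false),(1,false),(1,false),(0,false),(2,false),(1,true),(1,true),(0,false),(2,false),(0,false),(1,false),(1,false),(0,false),(1,true),(0,false),(1,false),(0,false),(1,true),(2,false),(1,false),(0,false),(1,true),(0,false),(1,false),(0,false)]⟩,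
  .path 2 [⟨4,[],[(0,false),(1,false),(0,false),(1,false),(0,false),(1,true),(0,false),(1,false),(0,false),(1,false),(0,false),(1,true),(0,false),(1,false),(0,false),(1,true),(0,false),(1,true),(2,false),(1,true),(1,true),(2,false),(1,false),(1,false),(1,false),(0,false),(1,true),(2,false),(1,false),(0,false),(1,true)]⟩,⟨3,[(1,true),(0,false),(1,true),(0,false),(1,false),(0,false),(1,false),(0,false),(1,false),(0,false),(1,true),(0,false),(1,true),(0,false),(1,false),(0,false),(1,true),(0,false),(1,true),(0,false),(1,false)],[(1,false),(0,false),(1,false),(0,false),(1,false),(0,false),(1,true),(0,false),(1,true),(0,false),(1,true),(0,false),(1,false),(2,false),(1,true),(1,true),(2,false),(1,false),(1,false),(1,false),(0,false),(1,true),(2,false),(1,false),(0,false),(1,true)]⟩],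
  .rev 51,
  .path 2 [⟨51,[(6,true),(7,false),(5,false)],[(1,false),(0,false),(1,false),(0,false),(1,true),(0,false),(1,false),(1,false),(0,false),(1,true),(0,false),(1,false),(0,false),(1,false),(1,false),(0,false),(1,false),(0,false),(1,true),(0,false),(1,true),(0,false),(1,false),(2,false),(0,false),(2,false),(0,false),(0,false),(1,true),(0,false),(2,false),(0,false),(1,false),(0,false)]⟩,⟨51,[(5,false),(6,false),(7,false),(5,false),(6,false),(5,false),(6,true),(5,false),(6,true),(5,false)],[(1,true),(0,false),(1,false),(0,false),(1,false),(0,false),(1,false),(0,false),(1,false),(0,false),(1,true),(0,false),(1,false),(1,false),(0,false),(1,true),(0,false),(1,false),(1,false),(0,false),(1,true),(2,false),(1,false),(0,false),(1,true),(2,false),(1,false),(0,false),(0,false),(1,true),(0,false),(2,false),(0,false),(1,false),(0,false)]⟩],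
  .rev 53,
  .def',
  .rev 55,
  .lift 2 (wOf 84 0x201010302020102030103201010102020101010101010101020201010102020202020201010102020101) ⟨55,[(13,true),(17,false),(11,false),(10,false)],[]⟩ ⟨55,[(11,false),(10,false),(17,false),(13,true)],[(0,false),(2,false),(0,false),(1,true),(2,false),(1,false),(1,false),(0,false),(2,false),(0,false),(1,true)]⟩,
  .lift 2 (wOf 75 0x20202010302010101010201020101020102020102020201010102010102010202020202020) ⟨55,[(10,true),(12,false),(10,false)],[]⟩ ⟨55,[(13,false),(16,true),(17,true),(10,true)],[(1,true),(2,false),(1,false),(0,false),(1,true),(2,false),(1,false),(0,false),(1,true),(1,true),(2,false),(1,false),(1,false)]⟩,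
  .lift 2 (wOf 67 0x2010103020201020301031010101020202020102020201020202010102010201020) ⟨55,[(12,false),(10,false),(15,false)],[]⟩ ⟨55,[(11,false),(16,true),(14,false),(13,false),(10,false)],[(0,false),(1,true),(0,false),(1,false),(1,false),(0,false),(1,true),(0,false),(1,false),(0,false),(1,false),(1,false),(0,false),(1,false),(0,false),(1,true),(2,false),(1,false),(1,false),(2,false),(1,true),(0,false),(1,true),(2,false),(1,false),(0,false)]⟩]

/-- part 6 of the justifications -/
noncomputable def twJustP6 : List (Just) := [
  .path 2 [⟨21,[],[(1,false),(1,false),(0,false),(1,false),(0,false),(1,true),(0,false),(1,false),(0,false),(1,false),(0,false),(1,true),(0,false),(1,false),(0,false),(1,true),(0,false),(1,true),(0,false),(2,false),(0,false),(0,false),(1,true),(2,false),(1,false),(0,false),(0,false),(1,false),(0,false),(2,false),(0,false),(1,true),(0,false)]⟩,⟨20,[(6,false),(7,false),(6,false),(7,false),(6,false),(7,false),(6,false)],[(0,false),(1,false),(0,false),(1,false),(1,false),(0,false),(1,false),(0,false),(1,true),(0,false),(1,true),(0,false),(1,false),(1,false),(0,false),(1,false),(1,false),(0,false),(1,false),(1,false),(2,false),(0,false),(2,false),(0,false),(1,false),(0,false),(2,false),(0,false),(1,true),(1,true),(1,true),(2,false),(1,false),(1,false)]⟩],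
  .rev 60,
  .path 0 [⟨28,[(22,true)],[(0,false),(1,false),(0,false),(1,true),(0,false),(1,false),(0,false),(1,true),(0,false),(1,false),(1,false),(0,false),(1,false),(0,false),(1,false),(0,false),(1,true),(0,false),(1,false),(0,false),(2,false),(0,false),(1,false),(0,false),(1,false),(0,false),(1,false),(0,false),(2,false),(0,false),(1,true),(0,false),(1,true),(0,false),(1,true)]⟩,⟨55,[(17,false),(14,true),(13,false),(10,true)],[(1,true),(0,false),(1,false),(0,false),(1,false),(0,false),(1,true),(0,false),(1,true),(0,false),(1,false),(1,false),(0,false),(1,false),(1,false),(0,false),(0,false),(1,true),(1,true),(0,false),(2,false),(0,false),(1,false),(1,false),(0,false)]⟩],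
  .rev 62,
  .path 2 [⟨44,[],[(0,false),(1,false),(0,false),(1,false),(0,false),(1,true),(0,false),(1,false),(0,false),(1,false),(0,false),(1,true),(0,false),(1,false),(0,false),(1,true),(0,false),(1,true),(0,false),(2,false),(0,false),(1,true),(2,false),(1,false),(1,true),(0,false),(1,true),(1,true),(2,false),(1,false),(1,false),(0,false),(1,false)]⟩,⟨43,[(40,false),(41,false),(42,false),(41,true),(40,false)],[(1,true),(0,false),(1,false),(0,false),(1,false),(0,false),(1,false),(1,false),(0,false),(1,false),(0,false),(1,true),(0,false),(1,true),(0,false),(1,true),(0,false),(1,false),(1,false),(2,false),(1,false),(0,false),(2,false),(0,false),(1,true),(1,true),(0,false),(1,true),(1,true),(0,false),(2,false),(0,false),(1,false),(1,false),(0,false),(1,false)]⟩],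
  .rev 64,
  .path 0 [⟨64,[(49,false),(48,false)],[(1,true),(0,false),(1,false),(1,false),(0,false),(1,false),(1,false),(0,false),(1,true),(0,false),(1,true),(0,false),(1,true),(0,false),(1,false),(0,false),(1,false),(1,false),(0,false),(0,false),(1,true),(2,false),(1,false),(0,false),(1,true),(1,true),(2,false),(1,false),(1,false),(1,false),(0,false),(1,true),(2,false),(1,false),(0,false),(1,true)]⟩,⟨64,[(49,false),(46,false),(48,false)],[(0,false),(1,false),(1,false),(0,false),(1,false),(1,false),(0,false),(1,true),(0,false),(1,false),(1,false),(0,false),(1,true),(0,false),(1,false),(1,false),(0,false),(1,false),(0,false),(1,false),(0,false),(1,false),(1,true),(1,true),(0,false),(2,false),(0,false),(1,false),(1,false),(1,true),(0,false),(1,true),(0,false),(2,false),(0,false),(1,false),(0,false),(1,false)]⟩],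
  .rev 66,
  .path 2 [⟨9,[],[(1,false),(0,false),(1,false),(0,false),(1,false),(0,false),(1,false),(0,false),(1,true),(0,false),(1,false),(1,false),(0,false),(1,true),(0,false),(1,true),(0,false),(1,false),(1,true),(1,true),(2,false),(1,false),(1,false),(1,true),(0,false),(1,true),(0,false),(2,false),(0,false),(1,false),(0,false),(1,false)]⟩,⟨37,[(5,false),(6,true),(5,false),(6,true),(7,false),(6,true)],[(0,false),(1,false),(0,false),(1,true),(0,false),(1,false),(1,false),(0,false),(1,false),(0,false),(1,false),(1,false),(0,false),(1,false),(1,false),(0,false),(1,true),(0,false),(1,false),(1,false),(0,false),(1,true),(1,true),(2,false),(1,false),(1,false),(0,false),(1,true),(0,false),(1,true),(1,true),(2,false),(1,false),(1,false),(0,false),(1,false)]⟩],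
  .rev 68]

/-- part 7 of the justifications -/
noncomputable def twJustP7 : List (Just) := [
  .path 2 [⟨69,[(41,true),(39,true),(42,false),(39,false)],[(1,false),(0,false),(1,true),(0,false),(1,false),(0,false),(1,true),(0,false),(1,true),(0,false),(1,false),(1,false),(0,false),(1,false),(0,false),(2,false),(1,true),(2,false),(1,false),(1,false),(2,false),(1,true)]⟩,⟨68,[(15,false)],[(0,false),(1,false),(0,false),(1,false),(1,false),(0,false),(1,false),(0,false),(1,false),(1,false),(0,false),(1,true),(0,false),(1,false),(0,false),(1,true),(0,false),(0,false),(2,false),(0,false),(1,true),(2,false),(1,false),(1,false),(2,false),(1,true)]⟩],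
  .rev 70,
  .path 2 [⟨21,[],[(0,false),(1,false),(0,false),(1,false),(0,false),(1,true),(0,false),(1,false),(0,false),(1,false),(0,false),(1,true),(0,false),(1,false),(0,false),(1,true),(0,false),(1,true),(2,false),(1,true),(1,true),(2,false),(1,false),(1,false),(1,false),(0,false),(1,true),(2,false),(1,false),(0,false),(1,true)]⟩,⟨20,[(6,false),(6,false),(5,false),(6,false),(5,false),(6,false),(6,false),(5,false),(6,false)],[(1,false),(0,false),(1,false),(1,false),(0,false),(1,false),(1,false),(0,false),(1,false),(0,false),(1,false),(1,false),(0,false),(1,false),(0,false),(1,false),(1,false),(0,false),(1,false),(1,false),(2,false),(1,true),(1,true),(2,false),(1,false),(1,false),(1,false),(0,false),(1,true),(2,false),(1,false),(0,false),(1,true)]⟩],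
  .rev 72,
  .path 0 [⟨51,[(6,false),(5,false),(6,true),(5,false)],[(1,false),(0,false),(1,false),(0,false),(1,false),(0,false),(1,false),(0,false),(1,false),(0,false),(1,false),(1,false),(0,false),(1,true),(0,false),(1,false),(0,false),(1,false),(1,false),(0,false),(1,false)]⟩,⟨51,[(6,false),(5,false),(6,true),(5,false),(6,true),(5,false),(6,false),(5,false),(6,false),(5,false)],[(1,true),(0,false),(1,false),(1,false),(0,false),(1,false),(1,false),(0,false),(1,true),(0,false),(1,false),(0,false),(1,false),(0,false),(1,true),(0,false),(1,true),(2,false),(0,false),(1,false),(0,false),(1,false),(0,false),(1,true),(2,false),(1,false),(0,false),(1,true),(0,false),(1,true),(0,false)]⟩],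
  .rev 74,
  .path 2 [⟨29,[],[(0,false),(1,true),(0,false),(1,false),(0,false),(1,false),(1,false),(0,false),(1,false),(1,false),(0,false),(1,false),(1,false),(0,false),(1,false),(0,false),(1,false),(0,false),(1,false),(0,false),(1,true),(0,false),(1,true),(0,false),(1,true),(2,false),(1,false),(0,false),(1,true),(0,false),(1,false),(0,false),(1,true),(2,false),(1,false),(0,false),(1,true),(0,false),(1,false)]⟩,⟨35,[(14,false)],[(1,true),(0,false),(1,true),(0,false),(1,false),(0,false),(1,false),(0,false),(1,true),(0,false),(1,true),(0,false),(1,false),(1,false),(0,false),(1,false),(2,false),(1,true),(2,false),(1,false),(1,false),(0,false),(2,false),(0,false),(1,true),(0,false),(1,true),(1,true),(2,false),(1,false),(1,false),(0,false)]⟩],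
  .rev 76,
  .path 0 [⟨69,[(41,true),(39,true),(41,true),(40,false)],[(0,false),(1,false),(0,false),(1,false),(0,false),(1,true),(0,false),(1,true),(0,false),(1,false),(1,false),(0,false),(1,true),(0,false),(1,false),(0,false),(1,false),(1,false),(0,false),(1,false),(0,false),(1,false),(0,false),(1,false),(0,false),(1,true),(2,false),(1,false),(0,false),(1,true),(0,false),(1,true)]⟩,⟨68,[(10,false)],[(0,false),(1,false),(0,false),(1,false),(0,false),(1,false),(0,false),(1,true),(0,false),(1,false),(0,false),(1,true),(0,false),(1,true),(0,false),(1,false),(1,false),(0,false),(1,true),(0,false),(1,false),(0,false),(1,true),(0,false),(1,false),(2,false),(1,true),(2,false),(1,false),(1,false),(2,false),(1,true),(1,false),(0,false),(1,true),(2,false),(1,false),(0,false),(1,true)]⟩],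
  .rev 78]

/-- part 8 of the justifications -/
noncomputable def twJustP8 : List (Just) := [
  .loop 1 (wOf 35 0x10103203010202020301301010102020101) [⟨9,[],[(1,false),(2,false)]⟩,⟨74,[(5,false),(6,true),(5,false),(6,true),(7,false),(6,true)],[(1,false),(1,false),(0,false),(1,true),(0,false),(1,false),(1,false),(0,false),(1,false),(1,false),(0,false),(1,true),(0,false),(1,false),(2,false),(1,true),(1,true),(0,false),(1,false),(0,false),(1,false),(0,false),(1,true),(2,false),(1,false),(0,false),(1,true),(0,false),(1,true),(0,false),(1,false),(1,false)]⟩,⟨8,[(6,false),(7,false),(6,false),(7,false),(5,false),(6,true),(5,false),(6,false),(5,false),(6,false)],[(0,false),(1,false),(1,false),(0,false),(1,true),(0,false),(1,true),(0,false),(1,false),(0,false),(1,false),(1,false),(0,false),(1,false),(1,false),(0,false),(1,false),(1,false),(0,false),(1,false),(1,false),(0,false),(1,true),(2,false),(1,false),(0,false),(0,false),(1,true),(1,true),(2,false),(1,false),(1,false),(0,false)]⟩],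
  .lift 2 (wOf 74 0x20201010302302010202020202020102020102010202020101010202010101010102020101) ⟨68,[(13,false),(80,false),(10,false)],[]⟩ ⟨68,[(80,true),(13,false),(80,false),(10,false)],[(0,false),(1,false),(1,false),(0,false),(1,true),(0,false),(1,true),(0,false),(1,true),(0,false),(1,false),(1,false),(0,false),(1,true),(0,false),(1,true),(0,false),(1,true),(0,false),(1,false),(0,false),(1,false),(1,false),(0,false),(1,true),(0,false),(2,false),(0,false),(1,false),(0,false)]⟩,
  .lift 4 (wOf 70 0x202010302301010310102010201020201020202010201020202020102020101010202) ⟨43,[(81,true),(40,false),(81,false),(81,false)],[]⟩ ⟨43,[(81,false),(41,true),(81,false),(42,false),(81,false)],[(1,false),(0,false),(1,false),(0,false),(1,false),(1,false),(0,false),(1,false),(1,false),(0,false),(1,false),(1,false),(0,false),(1,true),(0,false),(1,false),(0,false),(1,false),(1,false),(0,false),(2,false),(0,false),(1,true),(2,false),(1,false),(1,false),(2,false),(1,true),(0,false),(1,true),(0,false),(2,false),(0,false),(1,false),(0,false)]⟩,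
  .path 2 [⟨28,[(26,true),(25,true)],[(0,false),(1,false),(1,false),(0,false),(1,false),(0,false),(1,false),(0,false),(1,false),(1,false),(0,false),(1,true),(0,false),(1,true),(0,false),(1,true),(0,false),(1,false),(0,false),(1,false),(0,false),(1,false),(0,false),(1,true),(0,false),(1,true),(1,true),(0,false),(1,true),(1,true),(0,false),(2,false),(0,false),(1,false),(1,false),(0,false),(1,false),(1,false),(0,false),(1,false)]⟩,⟨55,[(80,true),(16,false),(12,false)],[(0,false),(1,true),(0,false),(1,false),(0,false),(1,false),(0,false),(1,false),(1,false),(0,false),(1,false),(1,false),(0,false),(1,true),(0,false),(1,false),(1,false),(0,false),(1,true),(0,false),(2,false),(1,false),(2,false),(1,true),(0,false),(1,true),(2,false),(1,false),(0,false),(1,true),(1,true),(2,false),(1,false),(1,false)]⟩],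
  .rev 83,
  .path 0 [⟨62,[(23,false),(25,false),(23,false),(22,true)],[(0,false),(1,true),(0,false),(1,false),(0,false),(1,false),(0,false),(1,true),(0,false),(1,false),(1,false),(0,false),(1,true),(0,false),(1,false),(1,false),(0,false),(1,true),(0,false),(1,false),(0,false),(1,false),(2,false),(1,true),(2,false),(1,false),(0,false),(1,true),(2,false),(1,false),(0,false),(1,true),(1,true),(2,false),(1,false),(1,false)]⟩,⟨63,[(58,false)],[(1,false),(0,false),(1,true),(0,false),(1,false),(1,false),(0,false),(1,false),(0,false),(1,false),(0,false),(1,false),(1,false),(0,false),(1,false),(0,false),(1,false),(0,false),(1,true),(0,false),(2,false),(1,true),(0,false),(2,false),(0,false),(1,false),(1,true),(0,false),(1,true),(0,false),(2,false),(0,false),(1,false),(0,false),(1,false)]⟩],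
  .rev 85,
  .path 1 [⟨9,[(13,false),(80,false)],[(1,true),(0,false),(1,true),(0,false),(1,false),(0,false),(1,true),(0,false),(1,false),(1,false),(0,false),(1,false),(0,false),(1,false),(0,false),(1,true),(0,false),(1,true),(0,false),(1,false),(1,true),(2,false),(1,false),(0,false),(1,true),(2,false),(1,false),(0,false),(0,false),(1,true),(0,false),(1,true),(0,false),(2,false),(0,false),(1,false),(0,false),(1,false),(0,false)]⟩,⟨8,[(6,false),(5,false),(7,false),(5,false),(6,true)],[(1,true),(0,false),(1,false),(0,false),(1,false),(1,false),(0,false),(1,false),(0,false),(1,false),(1,false),(0,false),(1,false),(0,false),(1,true),(0,false),(1,true),(2,false),(1,false),(2,false),(1,true),(1,true),(0,false),(1,true),(1,true),(0,false),(2,false),(0,false),(1,false),(1,false),(0,false),(1,false)]⟩],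
  .rev 87,
  .path 0 [⟨18,[(80,true),(14,false),(80,false),(14,false)],[(1,false),(0,false),(1,true),(0,false),(1,true),(0,false),(1,false),(1,false),(0,false),(1,false),(0,false),(1,false),(0,false),(1,true),(0,false),(1,true),(0,false),(1,false),(0,false),(1,false),(0,false),(1,false),(0,false),(2,false),(0,false),(1,true),(0,false),(1,true),(0,false),(1,false),(0,false),(1,true),(2,false),(1,false),(0,false),(1,true),(0,false),(1,false)]⟩,⟨18,[(80,true),(16,false),(10,false),(80,false)],[(0,false),(1,false),(1,false),(0,false),(1,false),(0,false),(1,false),(0,false),(1,false),(0,false),(1,false),(0,false),(1,false),(0,false),(1,true),(0,false),(1,true),(0,false),(1,false),(0,false),(2,false),(0,false),(0,false),(1,true),(1,true),(2,false),(1,false),(1,false),(0,false),(1,true),(0,false),(1,true),(1,true),(2,false),(1,false),(1,false),(0,false),(1,false)]⟩]]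

/-- part 9 of the justifications -/
noncomputable def twJustP9 : List (Just) := [
  .rev 89,
  .path 2 [⟨89,[(16,true),(80,false),(14,false)],[(0,false),(1,true),(0,false),(1,false),(1,false),(0,false),(1,false),(1,false),(0,false),(1,false),(0,false),(1,false),(0,false),(1,false),(0,false),(1,false),(1,false),(0,false),(2,false),(1,false),(2,false),(1,true),(1,true),(1,true),(0,false),(2,false),(0,false),(1,false),(1,false),(1,false),(0,false),(1,true),(2,false),(1,false),(0,false),(1,true)]⟩,⟨89,[(10,true)],[(1,true),(0,false),(1,false),(1,false),(0,false),(1,false),(1,false),(0,false),(1,false),(0,false),(1,false),(0,false),(1,false),(1,false),(0,false),(1,true),(0,false),(1,false),(1,false),(2,false),(1,false),(0,false),(1,true),(2,false),(1,false),(0,false),(1,true),(0,false),(1,true),(1,true),(2,false),(1,false),(1,false),(0,false)]⟩],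
  .rev 91,
  .lift 2 (wOf 81 0x103020101030230230301020202010201010102020201020102010201010101010101020202020202) ⟨89,[(80,true),(11,false)],[]⟩ ⟨89,[(13,false),(80,false),(16,true)],[(0,false),(1,true),(0,false),(1,true),(0,false),(1,true),(0,false),(1,false),(0,false),(1,false),(0,false),(1,true),(0,false),(1,true),(0,false),(1,false),(2,false),(1,true),(1,true),(1,true),(0,false),(2,false),(0,false),(1,false),(1,false)]⟩,
  .lift 2 (wOf 66 0x102030203020203031010201020201020201010101010101020201010102010101) ⟨55,[(80,false),(15,false),(11,false)],[]⟩ ⟨55,[(17,true),(16,true),(12,false),(93,false)],[(0,false),(1,false),(0,false),(1,false),(1,false),(0,false),(1,true),(0,false),(1,false),(0,false),(1,false),(0,false),(1,false),(0,false),(1,false),(1,false),(0,false),(1,false),(0,false),(1,false),(0,false),(1,false),(1,false),(0,false),(1,true),(1,true),(2,false),(1,false),(1,false),(2,false),(1,true),(0,false),(1,true),(2,false),(1,false),(0,false)]⟩,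
  .path 1 [⟨69,[(39,false),(81,false),(41,true)],[(1,false),(0,false),(1,false),(0,false),(1,true),(0,false),(1,true),(0,false),(1,true),(0,false),(1,false),(0,false),(1,false),(0,false),(1,false),(0,false),(1,false),(0,false),(1,false),(1,false),(0,false),(1,false),(0,false),(2,false),(0,false),(0,false),(1,true),(0,false),(1,false),(0,false),(1,true),(2,false),(1,false),(0,false),(1,true),(0,false),(1,false),(0,false)]⟩,⟨18,[(93,true),(14,false),(80,true)],[(1,false),(0,false),(1,true),(0,false),(1,false),(0,false),(1,false),(0,false),(1,false),(1,false),(0,false),(1,true),(0,false),(1,true),(0,false),(1,false),(0,false),(1,true),(1,true),(2,false),(1,false),(0,false),(1,true),(2,false),(1,false),(0,false),(0,false),(1,true),(0,false),(2,false),(0,false),(1,false),(0,false)]⟩],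
  .rev 95,
  .loop 0 (wOf 25 0x1010320301020202030130201) [⟨69,[(42,false),(39,true),(41,true)],[(0,false),(1,false),(0,false),(1,true),(0,false),(1,false),(0,false),(1,false),(1,false),(0,false),(1,false),(0,false),(1,false),(1,false),(0,false),(1,false),(0,false),(1,true),(0,false),(1,false),(0,false),(1,false),(0,false),(1,true),(2,false),(1,true),(2,false),(1,false),(1,false),(2,false),(1,true)]⟩,⟨18,[(93,false),(14,false),(80,false)],[(1,false),(1,false),(0,false),(1,false),(0,false),(1,true),(0,false),(1,false),(1,false),(0,false),(1,false),(1,false),(0,false),(1,true),(0,false),(1,false),(1,false),(0,false),(1,false),(1,false),(1,false),(0,false),(1,true),(2,false),(1,false),(0,false),(1,true),(0,false),(1,false),(0,false),(1,false),(0,false),(2,false),(0,false),(1,true),(0,false),(1,true),(0,false)]⟩,⟨68,[(14,false),(13,false),(93,false)],[(1,false),(0,false),(1,false),(1,false),(0,false),(1,false),(0,false),(1,false),(1,false),(0,false),(1,false),(1,false),(0,false),(1,false),(1,false),(0,false),(1,false),(0,false),(1,true),(0,false),(1,false),(2,false),(1,false),(2,false),(1,true)]⟩],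
  .lift 4 (wOf 96 0x203010102010302013023101020102010202010101010102010201020201010202020202010101010102010101020202) ⟨43,[(97,true),(39,false),(97,true),(41,false)],[]⟩ ⟨43,[(41,false),(42,false),(39,true),(97,false),(81,false),(39,false)],[(0,false),(1,true),(0,false),(1,false),(1,false),(0,false),(1,false),(0,false),(1,true),(0,false),(1,true),(0,false),(1,true),(0,false),(1,false),(1,false),(2,false),(0,false),(1,true),(0,false),(2,false),(0,false),(1,false),(0,false),(1,true),(1,true),(0,false),(2,false),(0,false),(1,false),(1,false)]⟩,
  .path 0 [⟨83,[(25,false),(26,true),(22,true),(23,false)],[(1,true),(0,false),(1,true),(0,false),(1,false),(1,false),(0,false),(1,true),(0,false),(1,false),(0,false),(1,false),(1,false),(0,false),(1,true),(0,false),(1,true),(0,false),(2,false),(1,false),(2,false),(1,true),(1,true),(0,false),(1,true),(1,true),(2,false),(1,false),(1,false),(0,false),(1,false)]⟩,⟨84,[(94,false),(58,false)],[(1,false),(0,false),(1,false),(1,false),(0,false),(1,true),(0,false),(1,true),(0,false),(1,false),(0,false),(1,true),(0,false),(1,true),(0,false),(1,false),(0,false),(1,false),(1,false),(2,false),(1,true),(2,false),(1,false),(0,false),(1,true),(2,false),(1,false),(0,false),(0,false),(1,false),(0,false),(1,true),(2,false),(1,false),(0,false),(1,true),(0,false)]⟩]]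

/-- part 10 of the justifications -/
noncomputable def twJustP10 : List (Just) := [
  .rev 99,
  .path 2 [⟨78,[(39,true),(97,false),(41,false)],[(1,false),(0,false),(1,false),(1,false),(0,false),(1,false),(0,false),(1,false),(0,false),(1,false),(1,false),(0,false),(1,false),(0,false),(1,false),(0,false),(1,false),(1,false),(0,false),(1,false),(0,false),(1,true),(1,true),(0,false),(2,false),(0,false),(1,false),(1,false),(1,true),(0,false),(1,true),(0,false),(2,false),(0,false),(1,false),(0,false),(1,false)]⟩,⟨69,[(42,false),(97,false),(40,false)],[(1,false),(0,false),(1,true),(0,false),(1,false),(0,false),(1,false),(1,false),(0,false),(1,false),(1,false),(0,false),(1,false),(1,false),(0,false),(1,false),(0,false),(1,false),(0,false),(1,true),(0,false),(1,false),(1,false),(2,false),(0,false),(2,false),(0,false),(1,true),(2,false),(1,false),(1,true),(0,false),(2,false),(0,false),(1,false)]⟩],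
  .rev 101,
  .path 2 [⟨44,[],[(1,false),(0,false),(1,false),(0,false),(1,false),(0,false),(1,false),(0,false),(1,true),(0,false),(1,false),(1,false),(0,false),(1,true),(0,false),(1,true),(0,false),(1,false),(2,false),(1,true),(1,true),(2,false),(1,false),(1,false),(1,false),(0,false),(1,true),(2,false),(1,false),(0,false),(1,true)]⟩,⟨43,[(97,true),(81,false)],[(1,false),(1,false),(0,false),(1,true),(0,false),(1,true),(0,false),(1,false),(1,false),(0,false),(1,false),(0,false),(1,true),(0,false),(1,true),(0,false),(1,false),(0,false),(1,true),(2,false),(1,false),(0,false),(1,true),(2,false),(1,false),(0,false),(0,false),(1,true),(1,true),(2,false),(1,false),(1,false),(0,false)]⟩],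
  .rev 103,
  .path 0 [⟨66,[(82,false),(48,false)],[(0,false),(1,false),(0,false),(1,false),(1,false),(0,false),(1,true),(0,false),(1,false),(0,false),(1,true),(0,false),(1,false),(0,false),(1,true),(0,false),(1,false),(0,false),(1,true),(0,false),(1,false),(1,false),(0,false),(1,true),(1,true),(2,false),(1,false),(1,false),(0,false),(1,true),(0,false),(2,false),(0,false),(1,false),(0,false)]⟩,⟨66,[(82,false)],[(0,false),(1,false),(0,false),(1,true),(0,false),(1,true),(0,false),(1,false),(1,false),(0,false),(1,true),(0,false),(1,true),(0,false),(1,true),(0,false),(1,false),(1,false),(0,false),(2,false),(0,false),(2,false),(0,false),(0,false),(1,true),(2,false),(1,false),(0,false)]⟩],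
  .rev 105,
  .path 0 [⟨27,[(80,false),(93,false),(10,true)],[(1,true),(0,false),(1,false),(0,false),(1,false),(0,false),(1,false),(0,false),(1,true),(0,false),(1,true),(0,false),(1,false),(0,false),(1,true),(0,false),(1,false),(0,false),(1,true),(1,true),(2,false),(1,false),(1,false),(2,false),(1,true),(1,false),(0,false),(1,true),(2,false),(1,false),(0,false),(1,true)]⟩,⟨28,[(23,false)],[(0,false),(1,true),(0,false),(1,false),(1,false),(0,false),(1,true),(0,false),(1,false),(0,false),(1,false),(1,false),(0,false),(1,false),(0,false),(1,true),(0,false),(1,false),(0,false),(1,false),(1,false),(1,true),(2,false),(1,false),(1,true),(0,false),(2,false),(0,false),(1,false),(0,false),(1,true),(0,false),(1,true),(1,true),(2,false),(1,false),(1,false),(0,false),(1,false),(0,false)]⟩],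
  .rev 107,
  .path 1 [⟨102,[(80,false),(10,false)],[(0,false),(1,false),(0,false),(1,false),(0,false),(1,false),(1,false),(0,false),(1,true),(0,false),(1,true),(0,false),(1,false),(1,false),(0,false),(1,false),(1,false),(0,false),(1,false),(0,false),(2,false),(0,false),(1,false),(0,false),(1,true),(2,false),(1,false),(0,false),(1,true)]⟩,⟨43,[(39,false),(39,false),(42,false),(97,true)],[(1,false),(0,false),(1,false),(0,false),(1,false),(1,false),(0,false),(1,false),(1,false),(0,false),(1,false),(1,false),(0,false),(1,false),(0,false),(2,false),(0,false),(2,false),(0,false),(1,false),(0,false),(1,false),(0,false),(1,false),(0,false),(2,false),(0,false),(1,true),(0,false),(1,true),(0,false),(1,true)]⟩]]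

/-- part 11 of the justifications -/
noncomputable def twJustP11 : List (Just) := [
  .rev 109,
  .lift 2 (wOf 101 0x2020103023010101020202010201010101010102010101020102020101010101020202020202020201020101010102010101) ⟨109,[(80,true),(13,true)],[]⟩ ⟨109,[(16,false),(80,false),(13,false)],[(1,false),(0,false),(1,true),(0,false),(1,false),(0,false),(1,false),(1,false),(0,false),(1,false),(0,false),(1,false),(0,false),(1,false),(1,false),(0,false),(1,false),(0,false),(1,true),(0,false),(1,false),(1,false),(2,false),(1,true),(2,false),(1,false),(0,false),(1,true),(0,false),(2,false),(0,false),(1,false),(0,false)]⟩,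
  .lift 5 (wOf 79 0x1020103020130203010202010202010202020202020101010101010101010201010201020102010) ⟨103,[(45,false)],[]⟩ ⟨103,[(111,true)],[(0,false),(1,false),(0,false),(1,false),(0,false),(1,false),(1,false),(0,false),(1,true),(0,false),(1,true),(0,false),(1,true),(0,false),(1,false),(1,false),(0,false),(1,false),(2,false),(0,false),(2,false),(0,false),(1,true),(2,false),(1,false),(0,false),(1,false),(0,false),(1,true),(2,false),(1,false),(0,false),(1,true),(0,false)]⟩,
  .path 0 [⟨110,[],[(1,false),(0,false),(1,true),(0,false),(1,true),(0,false),(1,false),(0,false),(1,false),(1,false),(0,false),(1,false),(1,false),(0,false),(1,true),(0,false),(1,false),(1,false),(0,false),(1,false),(0,false),(2,false),(0,false),(1,true),(1,true),(0,false),(1,true),(0,false),(2,false),(0,false),(1,false),(0,false),(1,false)]⟩,⟨31,[(80,false),(14,false),(93,false)],[(1,false),(1,false),(0,false),(1,false),(0,false),(1,false),(1,false),(0,false),(1,false),(0,false),(1,false),(0,false),(1,false),(1,false),(0,false),(1,true),(0,false),(1,true),(2,false),(0,false),(2,false),(0,false),(1,true),(1,true),(0,false),(1,false),(0,false),(1,true),(2,false),(1,false),(0,false),(1,true),(0,false),(1,false),(1,false)]⟩],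
  .rev 113,
  .path 2 [⟨64,[(46,true),(98,true),(48,false)],[(0,false),(1,false),(1,false),(0,false),(1,false),(0,false),(1,true),(0,false),(1,true),(0,false),(1,false),(1,false),(0,false),(1,true),(0,false),(1,true),(0,false),(1,false),(1,false),(0,false),(1,true),(0,false),(1,true),(2,false),(1,true),(2,false),(1,false),(1,false),(0,false),(2,false),(0,false),(1,true)]⟩,⟨64,[(50,false)],[(0,false),(1,true),(0,false),(1,true),(0,false),(1,true),(0,false),(1,false),(1,false),(0,false),(1,false),(0,false),(1,true),(0,false),(1,false),(0,false),(0,false),(1,true),(0,false),(2,false),(0,false),(1,false),(0,false),(1,true),(1,true),(0,false),(2,false),(0,false),(1,false),(1,false)]⟩],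
  .rev 115,
  .path 0 [⟨64,[(47,false),(112,false),(48,false)],[(1,true),(0,false),(1,false),(0,false),(1,true),(0,false),(1,true),(0,false),(1,false),(1,false),(0,false),(1,false),(0,false),(1,false),(0,false),(2,false),(0,false),(2,false),(0,false),(0,false),(1,true),(0,false),(1,false),(0,false),(1,true),(2,false),(1,false),(0,false),(1,true),(0,false),(1,false),(0,false)]⟩,⟨64,[(50,false),(111,false)],[(1,false),(0,false),(1,false),(0,false),(1,true),(0,false),(1,true),(0,false),(1,false),(1,false),(0,false),(1,false),(1,false),(0,false),(1,false),(0,false),(1,true),(0,false),(1,false),(0,false),(1,false),(1,true),(1,true),(0,false),(2,false),(0,false),(1,false),(1,false),(0,false),(1,true),(1,true),(0,false),(2,false),(0,false),(1,false),(1,false),(0,false)]⟩],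
  .rev 117,
  .path 0 [⟨110,[(49,false),(112,false)],[(0,false),(1,true),(0,false),(1,true),(0,false),(1,false),(1,false),(0,false),(1,true),(0,false),(1,false),(1,false),(0,false),(1,false),(1,false),(0,false),(1,true),(0,false),(1,false),(1,false),(2,false),(1,true),(0,false),(1,true),(1,true),(0,false),(2,false),(0,false),(1,false),(1,false),(0,false)]⟩,⟨27,[(80,false),(16,true),(93,false),(11,false)],[(1,false),(1,false),(0,false),(1,true),(0,false),(1,false),(1,false),(0,false),(1,true),(0,false),(1,false),(1,false),(0,false),(1,false),(0,false),(1,false),(0,false),(1,true),(0,false),(1,false),(1,true),(0,false),(2,false),(0,false),(1,false),(0,false),(1,true),(2,false),(1,false),(0,false)]⟩]]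

/-- part 12 of the justifications -/
noncomputable def twJustP12 : List (Just) := [
  .rev 119,
  .path 0 [⟨84,[(59,false),(94,false),(59,false),(57,false)],[(1,true),(0,false),(1,true),(0,false),(1,true),(0,false),(1,false),(0,false),(1,false),(1,false),(0,false),(1,true),(0,false),(1,true),(2,false),(1,true),(0,false),(1,true),(0,false),(1,false),(0,false),(1,false),(0,false),(2,false),(0,false),(1,true),(0,false),(1,true),(0,false),(1,false),(0,false),(1,false)]⟩,⟨83,[(23,false),(22,false),(25,false),(26,false)],[(0,false),(1,false),(1,false),(0,false),(1,false),(0,false),(1,false),(0,false),(1,true),(0,false),(1,false),(0,false),(1,true),(0,false),(1,true),(0,false),(1,true),(0,false),(1,false),(1,false),(0,false),(1,true),(0,false),(1,true),(0,false),(2,false),(0,false),(1,false),(0,false),(1,true),(0,false),(1,true),(1,true),(2,false),(1,false),(1,false),(0,false),(1,false),(0,false)]⟩],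
  .rev 121,
  .path 2 [⟨9,[],[(0,false),(1,false),(0,false),(1,true),(0,false),(1,false),(0,false),(1,true),(0,false),(1,true),(0,false),(1,false),(0,false),(1,true),(0,false),(1,true),(0,false),(1,true),(1,true),(2,false),(1,false),(1,false),(1,true),(0,false),(1,true),(0,false),(2,false),(0,false),(1,false),(0,false),(1,false)]⟩,⟨20,[(7,false),(5,false),(6,false),(7,false),(5,false),(6,false),(7,false),(5,false),(7,false)],[(1,true),(0,false),(1,false),(0,false),(1,false),(1,false),(0,false),(1,true),(0,false),(1,false),(0,false),(1,false),(0,false),(1,false),(0,false),(1,false),(1,false),(0,false),(1,false),(0,false),(1,false),(0,false),(2,false),(0,false),(1,true),(0,false),(1,true)]⟩],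
  .rev 123,
  .lift 2 (wOf 85 0x201010320301020230102020102010101010202010102010101010102010101020102020201020201010) ⟨123,[(80,true),(93,true),(14,false)],[]⟩ ⟨123,[(14,false),(80,false),(93,false),(14,true),(13,true)],[(0,false),(1,true),(0,false),(1,false),(1,false),(0,false),(1,true),(0,false),(1,false),(1,false),(0,false),(1,false),(1,false),(0,false),(1,true),(2,false),(1,false),(1,false),(2,false),(1,true),(1,false),(0,false),(1,true),(2,false),(1,false),(0,false),(1,true)]⟩,
  .lift 3 (wOf 98 0x1030202010103023023013101020101020202010201020202010201020102010101020202020202010102020101010201) ⟨62,[(125,true),(23,true),(25,true),(23,false),(22,false)],[]⟩ ⟨83,[],[(0,false),(1,false),(0,false),(1,false),(1,false),(0,false),(1,false),(1,false),(0,false),(1,false),(0,false),(1,false),(1,false),(0,false),(1,false),(1,false),(0,false),(1,false),(1,false),(0,false),(1,true),(1,true),(2,false),(1,false),(1,false),(0,false),(1,false),(0,false),(1,true),(2,false),(1,false),(0,false),(1,true),(0,false),(1,true)]⟩,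
  .path 2 [⟨62,[(24,false),(22,true),(23,false)],[(1,true),(0,false),(1,false),(0,false),(1,true),(0,false),(1,false),(0,false),(1,false),(0,false),(1,false),(1,false),(0,false),(1,false),(0,false),(1,false),(0,false),(1,true),(0,false),(1,false),(2,false),(1,true),(0,false),(1,true),(2,false),(1,false),(0,false),(1,true),(0,false),(1,true),(1,true),(2,false),(1,false),(1,false),(0,false),(1,false)]⟩,⟨63,[(126,false),(57,false),(126,true),(59,false),(126,false)],[(1,true),(0,false),(1,false),(0,false),(1,true),(0,false),(1,false),(0,false),(1,true),(0,false),(1,false),(0,false),(1,true),(0,false),(1,false),(0,false),(1,true),(0,false),(1,true),(0,false),(2,false),(1,true),(2,false),(1,false),(1,true),(0,false),(2,false),(0,false),(1,false),(0,false),(1,true),(2,false),(1,false),(0,false)]⟩],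
  .rev 127,
  .path 2 [⟨62,[(23,true),(26,true),(22,false)],[(1,false),(1,false),(0,false),(1,false),(1,false),(0,false),(1,true),(0,false),(1,false),(1,false),(0,false),(1,false),(0,false),(1,false),(1,false),(0,false),(1,false),(0,false),(1,true),(0,false),(1,true),(0,false),(1,true),(0,false),(1,false),(0,false),(1,false),(0,false),(2,false),(0,false),(1,true),(0,false),(1,true),(0,false),(1,false),(0,false),(1,false),(0,false)]⟩,⟨56,[(126,false),(94,false),(58,false),(126,true)],[(0,false),(1,true),(0,false),(1,false),(0,false),(1,true),(0,false),(1,true),(0,false),(1,false),(1,false),(0,false),(1,true),(0,false),(2,false),(0,false),(1,false),(0,false),(2,false),(0,false),(1,true),(1,true),(0,false),(1,true),(1,true),(2,false),(1,false),(1,false),(0,false),(1,false)]⟩]]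

/-- part 13 of the justifications -/
noncomputable def twJustP13 : List (Just) := [
  .rev 129,
  .path 0 [⟨99,[(125,false),(25,true),(125,true),(23,false)],[(1,true),(0,false),(1,false),(0,false),(1,false),(1,false),(0,false),(1,false),(1,false),(0,false),(1,false),(1,false),(0,false),(1,false),(0,false),(2,false),(0,false),(2,false),(0,false),(1,true),(2,false),(1,false),(0,false),(1,true),(0,false),(2,false),(0,false),(1,false),(0,false)]⟩,⟨62,[(25,true),(22,false),(23,false),(125,true),(22,false)],[(0,false),(1,false),(0,false),(1,true),(0,false),(1,false),(0,false),(1,false),(0,false),(1,false),(0,false),(2,false),(1,true),(2,false),(1,false),(0,false),(1,true),(0,false),(1,true),(1,true),(2,false),(1,false),(1,false),(0,false),(1,false),(0,false)]⟩],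
  .rev 131,
  .path 2 [⟨62,[(23,true),(22,false),(23,true),(125,false)],[(0,false),(1,false),(0,false),(1,false),(1,false),(0,false),(1,true),(0,false),(1,true),(0,false),(1,false),(1,false),(0,false),(1,false),(0,false),(1,true),(0,false),(1,false),(2,false),(0,false),(1,true),(2,false),(1,false),(0,false),(1,true),(0,false),(1,false),(0,false),(1,true),(2,false),(1,false),(0,false),(1,true),(0,false),(1,false)]⟩,⟨121,[(57,false),(126,false),(57,false),(94,false),(126,false)],[(0,false),(1,false),(0,false),(1,true),(0,false),(1,true),(0,false),(1,true),(0,false),(1,false),(1,false),(0,false),(1,false),(0,false),(1,false),(0,false),(1,true),(0,false),(1,false),(0,false),(1,true),(1,false),(2,false),(1,true),(1,true),(1,true),(2,false),(1,false),(1,false),(0,false),(1,true),(1,true),(2,false),(1,false),(1,false),(0,false)]⟩],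
  .rev 133,
  .path 0 [⟨99,[(125,true),(23,true),(25,false),(22,true)],[(0,false),(1,true),(0,false),(1,true),(0,false),(1,false),(0,false),(1,true),(0,false),(1,false),(0,false),(1,true),(0,false),(1,false),(0,false),(1,true),(0,false),(1,false),(0,false),(1,true),(0,false),(1,false),(1,false),(0,false),(2,false),(0,false),(1,true),(0,false),(1,true),(2,false),(1,false),(0,false),(0,false),(1,false),(0,false),(1,true),(2,false),(1,false),(0,false),(1,true),(0,false)]⟩,⟨99,[(26,false),(22,false),(23,true)],[(1,false),(0,false),(1,true),(0,false),(1,false),(0,false),(1,false),(0,false),(1,false),(0,false),(1,false),(1,false),(0,false),(1,false),(0,false),(1,false),(0,false),(1,true),(0,false),(1,false),(1,true),(2,false),(1,false),(1,false),(0,false),(2,false),(0,false),(1,true),(0,false),(1,true),(2,false),(1,false),(0,false)]⟩],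
  .rev 135,
  .path 0 [⟨133,[(25,false),(22,true),(26,false),(23,true)],[(0,false),(1,false),(0,false),(1,false),(0,false),(1,false),(1,false),(0,false),(1,false),(0,false),(1,false),(0,false),(1,false),(0,false),(1,false),(0,false),(1,false),(1,false),(1,true),(0,false),(2,false),(0,false),(1,false),(1,true),(0,false),(1,true),(1,true),(2,false),(1,false),(1,false),(0,false),(1,false)]⟩,⟨63,[(94,false),(126,true),(58,false),(126,true),(126,true)],[(1,false),(0,false),(1,false),(0,false),(1,false),(1,false),(0,false),(1,false),(0,false),(1,false),(0,false),(1,false),(0,false),(1,false),(0,false),(1,true),(0,false),(1,true),(0,false),(1,false),(1,false),(1,true),(1,true),(2,false),(1,false),(1,false),(0,false),(1,true),(0,false),(1,true),(1,true),(2,false),(1,false),(1,false),(0,false),(1,false),(0,false)]⟩],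
  .rev 137,
  .path 3 [⟨113,[(50,false),(112,false)],[(0,false),(1,false),(1,false),(0,false),(1,false),(1,false),(0,false),(1,false),(1,false),(0,false),(1,false),(0,false),(1,false),(1,false),(0,false),(1,false),(0,false),(1,true),(0,false),(1,false),(0,false),(2,false),(1,true),(2,false),(1,false),(0,false),(1,true),(0,false),(2,false),(0,false),(1,false),(0,false)]⟩,⟨55,[(17,false),(13,false)],[(0,false),(1,false),(0,false),(1,false),(0,false),(1,true),(0,false),(1,false),(1,false),(0,false),(1,false),(0,false),(1,false),(0,false),(1,false),(0,false),(1,false),(1,false),(0,false),(1,true),(0,false),(1,true),(0,false),(2,false),(0,false),(1,true),(2,false),(1,false),(0,false)]⟩]]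

/-- part 14 of the justifications -/
noncomputable def twJustP14 : List (Just) := [
  .rev 139,
  .path 3 [⟨132,[(126,false),(126,false),(59,false),(126,false),(126,false)],[(1,false),(1,false),(0,false),(1,true),(0,false),(1,false),(0,false),(1,false),(1,false),(0,false),(1,false),(0,false),(1,false),(0,false),(1,true),(1,false),(2,false),(1,true),(0,false),(1,true),(2,false),(1,false),(0,false),(1,true),(0,false),(1,true),(1,true),(2,false),(1,false),(1,false),(0,false),(1,false)]⟩,⟨131,[(125,false),(23,false),(26,false),(25,false)],[(1,true),(0,false),(1,false),(1,false),(0,false),(1,true),(0,false),(1,false),(0,false),(1,false),(1,false),(0,false),(1,false),(1,false),(0,false),(1,false),(1,false),(0,false),(1,false),(0,false),(2,false),(0,false),(0,false),(1,true),(2,false),(1,false),(0,false),(0,false),(1,false),(0,false),(1,true),(2,false),(1,false),(0,false),(1,true),(0,false)]⟩],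
  .rev 141,
  .path 1 [⟨132,[(126,true),(59,false),(126,true),(59,false)],[(1,false),(1,false),(0,false),(1,true),(0,false),(1,false),(0,false),(1,true),(0,false),(1,true),(0,false),(1,false),(0,false),(1,false),(1,false),(0,false),(1,true),(1,true),(2,false),(1,false),(1,false),(0,false),(1,true),(1,true),(2,false),(1,false),(1,false),(0,false)]⟩,⟨62,[(26,false),(22,false),(125,true),(24,false),(22,true)],[(1,false),(0,false),(1,false),(0,false),(1,false),(0,false),(1,false),(0,false),(1,false),(1,false),(0,false),(1,true),(0,false),(1,false),(1,false),(0,false),(1,true),(0,false),(1,true),(0,false),(1,false),(0,false),(1,false),(1,false),(0,false),(2,false),(0,false),(1,true),(1,false),(0,false),(1,false),(0,false),(1,true),(2,false),(1,false),(0,false),(1,true),(0,false),(1,true)]⟩],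
  .rev 143,
  .path 0 [⟨121,[(126,false),(126,false),(58,false),(57,false),(126,false),(126,false),(57,false)],[(1,false),(1,false),(0,false),(1,false),(0,false),(1,false),(0,false),(1,false),(1,false),(0,false),(1,true),(0,false),(1,false),(1,false),(0,false),(1,false),(1,false),(0,false),(1,false),(1,false),(0,false),(1,false),(1,false),(2,false),(0,false),(1,false),(0,false),(2,false),(0,false),(1,true),(0,false),(1,true),(0,false),(1,true),(1,true),(2,false),(1,false),(1,false),(0,false),(1,false)]⟩,⟨143,[(126,true),(59,false),(57,false),(126,true),(58,false)],[(0,false),(1,false),(1,false),(0,false),(1,false),(0,false),(1,true),(0,false),(1,false),(0,false),(1,true),(0,false),(1,false),(0,false),(1,false),(1,false),(0,false),(1,true),(0,false),(1,false),(1,false),(0,false),(1,true),(0,false),(2,false),(0,false),(1,false),(2,false),(1,true),(1,true),(0,false),(2,false),(0,false),(1,false),(0,false),(1,true),(2,false),(1,false),(0,false)]⟩],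
  .rev 145,
  .path 0 [⟨134,[(57,false),(126,false),(58,false),(57,false),(126,true)],[(0,false),(1,false),(0,false),(1,true),(0,false),(1,false),(1,false),(0,false),(1,false),(1,false),(0,false),(1,false),(0,false),(1,true),(2,false),(1,false),(1,false),(0,false),(1,false),(0,false),(1,false),(0,false),(1,true),(2,false),(1,false),(0,false),(1,true),(0,false),(1,true),(0,false),(1,true)]⟩,⟨133,[(23,true)],[(1,false),(0,false),(1,true),(0,false),(1,false),(0,false),(1,true),(0,false),(1,false),(1,false),(0,false),(1,false),(0,false),(1,false),(0,false),(1,true),(0,false),(1,true),(1,true),(2,false),(1,false),(0,false),(1,true),(0,false),(1,true),(1,true),(0,false),(2,false),(0,false),(1,false),(1,false),(0,false),(1,false),(0,false)]⟩],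
  .rev 147,
  .path 0 [⟨133,[(26,false),(25,false),(23,false),(23,false)],[(1,false),(1,false),(0,false),(1,false),(1,false),(0,false),(1,false),(0,false),(1,false),(0,false),(1,true),(0,false),(1,true),(0,false),(1,false),(0,false),(1,false),(0,false),(1,false),(1,true),(2,false),(1,false),(0,false),(1,true),(0,false),(1,true),(1,true),(2,false),(1,false),(1,false),(0,false),(1,false),(0,false)]⟩,⟨140,[(94,false),(59,false),(126,false),(58,false),(126,false)],[(0,false),(1,true),(0,false),(1,false),(1,false),(0,false),(1,false),(0,false),(1,false),(1,false),(0,false),(1,true),(0,false),(1,false),(1,false),(0,false),(1,true),(0,false),(1,true),(0,false),(0,false),(1,true),(1,true),(2,false),(1,false),(1,false),(0,false),(0,false),(1,false),(0,false),(1,true),(2,false),(1,false),(0,false),(1,true),(0,false)]⟩]]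

/-- part 15 of the justifications -/
noncomputable def twJustP15 : List (Just) := [
  .rev 149,
  .path 3 [⟨139,[(112,false),(50,false),(98,true)],[(1,false),(0,false),(1,false),(1,false),(0,false),(1,true),(0,false),(1,true),(0,false),(1,false),(1,false),(0,false),(1,true),(0,false),(2,false),(0,false),(1,true),(0,false),(1,false),(0,false),(1,false),(0,false),(2,false),(0,false),(1,true),(0,false),(1,true),(0,false),(1,false),(0,false)]⟩,⟨147,[(126,true),(59,false),(126,true),(58,false)],[(0,false),(1,false),(0,false),(1,false),(1,false),(0,false),(1,false),(0,false),(1,true),(0,false),(1,false),(1,false),(0,false),(1,true),(0,false),(1,false),(0,false),(1,false),(0,false),(2,false),(0,false),(1,true),(1,true),(2,false),(1,false),(1,false),(0,false),(1,true),(0,false),(1,false),(0,false),(1,true),(2,false),(1,false),(0,false),(1,true),(0,false),(1,false)]⟩],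
  .rev 151,
  .path 0 [⟨151,[(112,true),(45,false),(82,false)],[(0,false),(1,false),(1,false),(0,false),(1,true),(0,false),(1,true),(0,false),(1,false),(0,false),(1,false),(0,false),(1,false),(1,false),(0,false),(1,false),(1,false),(0,false),(1,false),(1,false),(2,false),(1,false),(0,false),(1,false),(0,false),(1,true),(2,false),(1,false),(0,false),(1,true),(0,false),(1,true)]⟩,⟨152,[(94,false),(59,false),(58,false),(126,false)],[(0,false),(1,false),(0,false),(1,false),(1,false),(0,false),(1,false),(0,false),(1,false),(0,false),(1,true),(0,false),(1,true),(0,false),(1,false),(0,false),(1,true),(2,false),(0,false),(2,false),(0,false),(1,false),(0,false),(1,false),(0,false),(1,false),(0,false),(2,false),(0,false),(1,true),(0,false),(1,true),(0,false),(1,true)]⟩],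
  .rev 153,
  .path 0 [⟨150,[(112,true),(111,false),(45,false)],[(0,false),(1,true),(0,false),(1,false),(1,false),(0,false),(1,false),(0,false),(1,false),(0,false),(1,true),(0,false),(1,true),(0,false),(1,false),(0,false),(1,false),(1,false),(0,false),(1,true),(0,false),(1,false),(2,false),(0,false),(2,false),(0,false),(1,true),(0,false),(1,true),(0,false),(2,false),(0,false),(1,false),(0,false),(1,false)]⟩,⟨124,[(125,false),(25,false)],[(1,false),(1,false),(0,false),(1,true),(0,false),(1,false),(0,false),(1,true),(0,false),(1,false),(1,false),(0,false),(1,true),(0,false),(1,true),(0,false),(1,false),(0,false),(1,false),(0,false),(1,false),(1,true),(2,false),(1,false),(1,true),(0,false),(2,false),(0,false),(1,false),(1,true),(0,false),(1,true),(1,true),(2,false),(1,false),(1,false),(0,false),(1,false)]⟩],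
  .rev 155,
  .path 1 [⟨139,[(98,false),(111,false),(50,true)],[(1,true),(0,false),(1,false),(1,false),(0,false),(1,false),(1,false),(0,false),(1,true),(0,false),(1,false),(0,false),(1,false),(0,false),(1,false),(1,false),(0,false),(1,true),(1,false),(2,false),(1,true),(1,false),(0,false),(1,true),(2,false),(1,false),(0,false),(1,true)]⟩,⟨63,[(126,true),(126,true),(57,false),(94,false),(126,true)],[(1,false),(0,false),(1,false),(0,false),(1,false),(0,false),(1,false),(1,false),(0,false),(1,false),(0,false),(1,true),(0,false),(1,false),(1,false),(0,false),(0,false),(1,true),(0,false),(2,false),(0,false),(1,false),(0,false),(1,true),(1,true),(0,false),(2,false),(0,false),(1,false),(1,false)]⟩],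
  .rev 157,
  .path 2 [⟨151,[(98,true),(111,false),(50,false),(45,false)],[(1,false),(0,false),(1,false),(0,false),(1,false),(0,false),(1,false),(1,false),(0,false),(1,false),(1,false),(0,false),(1,false),(0,false),(1,true),(0,false),(1,true),(0,false),(1,false),(1,false),(2,false),(1,true),(0,false),(1,true),(2,false),(1,false),(0,false),(1,true),(1,true),(0,false),(2,false),(0,false),(1,false),(1,false)]⟩,⟨152,[(58,false),(126,true),(58,false),(59,false),(126,true)],[(1,false),(0,false),(1,false),(1,false),(0,false),(1,true),(0,false),(1,true),(0,false),(1,false),(0,false),(1,false),(1,false),(0,false),(1,true),(2,false),(1,true),(2,false),(1,false),(1,false),(0,false),(2,false),(0,false),(1,true),(0,false),(1,true),(1,true),(2,false),(1,false),(1,false),(0,false)]⟩]]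

/-- part 16 of the justifications -/
noncomputable def twJustP16 : List (Just) := [
  .rev 159,
  .path 0 [⟨157,[(111,false),(49,true),(112,true),(45,false)],[(1,false),(0,false),(1,false),(1,false),(0,false),(1,false),(1,false),(0,false),(1,false),(0,false),(1,true),(0,false),(1,true),(0,false),(1,false),(1,false),(0,false),(1,false),(0,false),(1,false),(1,false),(1,true),(2,false),(1,false),(1,false),(2,false),(1,true),(1,true),(0,false),(1,true),(1,true),(2,false),(1,false),(1,false),(0,false),(1,false)]⟩,⟨62,[(26,false),(23,true),(125,true),(25,false),(22,false)],[(0,false),(1,false),(0,false),(1,false),(0,false),(1,false),(1,false),(0,false),(1,true),(0,false),(1,false),(1,false),(0,false),(1,true),(0,false),(1,true),(0,false),(1,false),(0,false),(1,false),(0,false),(1,false),(0,false),(2,false),(0,false),(1,true),(0,false),(0,false),(1,true),(0,false),(1,true),(1,true),(0,false),(2,false),(0,false),(1,false),(1,false),(0,false),(1,false),(0,false)]⟩],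
  .rev 161,
  .path 0 [⟨121,[(94,false),(126,true),(59,false),(58,false)],[(1,false),(0,false),(1,true),(0,false),(1,false),(0,false),(1,false),(0,false),(1,false),(0,false),(1,false),(1,false),(0,false),(1,true),(0,false),(2,false),(1,true),(0,false),(2,false),(0,false),(1,false),(0,false),(1,true),(0,false),(1,true),(1,true),(0,false),(2,false),(0,false),(1,false),(1,false),(0,false),(1,false),(0,false)]⟩,⟨143,[(58,false),(126,false),(94,false),(126,false),(57,false)],[(0,false),(1,true),(0,false),(1,false),(1,false),(0,false),(1,true),(0,false),(1,true),(0,false),(1,false),(0,false),(1,true),(0,false),(1,false),(0,false),(0,false),(2,false),(0,false),(1,true),(2,false),(1,false),(1,false),(0,false),(1,true),(2,false),(1,false),(0,false),(1,true)]⟩],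
  .rev 163,
  .path 2 [⟨55,[(93,false),(80,false),(13,false),(10,false)],[(1,true),(0,false),(1,false),(1,false),(0,false),(1,false),(0,false),(1,false),(1,false),(0,false),(1,false),(0,false),(1,false),(0,false),(1,false),(0,false),(1,false),(0,false),(0,false),(1,true),(1,true),(2,false),(1,false),(1,false),(0,false),(1,false),(0,false),(1,false),(0,false),(2,false),(0,false),(1,true),(0,false),(1,true)]⟩,⟨152,[(126,true),(94,false),(126,true),(94,false),(58,false)],[(0,false),(1,true),(0,false),(1,true),(0,false),(1,true),(0,false),(1,false),(0,false),(1,false),(0,false),(1,true),(0,false),(1,true),(0,false),(1,false),(0,false),(1,true),(0,false),(1,true),(0,false),(0,false),(1,false),(0,false),(2,false),(0,false),(1,true),(0,false),(1,true),(0,false),(1,false),(0,false),(1,true),(2,false),(1,false),(0,false),(1,true),(0,false),(1,false)]⟩],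
  .rev 165,
  .path 0 [⟨85,[(23,true),(125,false),(25,false)],[(0,false),(1,false),(0,false),(1,true),(0,false),(1,false),(0,false),(1,true),(0,false),(1,false),(0,false),(1,true),(0,false),(1,true),(0,false),(1,false),(1,false),(0,false),(1,true),(1,true),(1,true),(0,false),(2,false),(0,false),(1,false),(1,false),(0,false),(1,true),(0,false),(1,true),(1,true),(0,false),(2,false),(0,false),(1,false),(1,false),(0,false),(1,false),(0,false)]⟩,⟨158,[(25,true),(23,false),(23,false),(125,true)],[(1,false),(0,false),(1,false),(0,false),(1,false),(0,false),(1,true),(0,false),(1,true),(0,false),(1,true),(0,false),(1,true),(0,false),(1,false),(1,false),(0,false),(2,false),(1,true),(1,true),(0,false),(1,false),(0,false),(1,true),(2,false),(1,false),(0,false),(1,true),(0,false),(1,false),(1,false)]⟩],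
  .rev 167,
  .path 1 [⟨119,[(49,false),(112,false),(82,false)],[(0,false),(1,false),(0,false),(1,false),(1,false),(0,false),(1,true),(0,false),(1,true),(0,false),(1,true),(0,false),(1,false),(1,false),(0,false),(1,true),(0,false),(1,true),(0,false),(1,false),(0,false),(1,false),(0,false),(0,false),(1,true),(2,false),(1,false),(0,false),(0,false),(1,false),(0,false),(2,false),(0,false),(1,true),(0,false)]⟩,⟨149,[(25,true),(23,false),(22,false)],[(0,false),(1,true),(0,false),(1,false),(0,false),(1,false),(0,false),(1,true),(0,false),(1,true),(0,false),(1,false),(1,false),(0,false),(1,true),(0,false),(1,true),(0,false),(1,true),(2,false),(1,true),(0,false),(1,true),(0,false),(1,false),(0,false),(1,false),(0,false),(2,false),(0,false),(1,true),(0,false),(1,true),(0,false),(1,false),(0,false),(1,false)]⟩]]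

/-- part 17 of the justifications -/
noncomputable def twJustP17 : List (Just) := [
  .rev 169,
  .path 2 [⟨168,[(45,false),(112,false),(48,false),(45,false)],[(0,false),(1,true),(0,false),(1,false),(0,false),(1,false),(0,false),(1,false),(0,false),(1,true),(0,false),(1,false),(1,false),(0,false),(1,true),(2,false),(0,false),(2,false),(0,false),(0,false),(1,false),(0,false),(2,false),(0,false),(1,true),(0,false)]⟩,⟨158,[(25,true),(23,false),(26,true),(24,false)],[(1,true),(0,false),(1,false),(0,false),(1,false),(1,false),(0,false),(1,false),(1,false),(0,false),(1,false),(1,false),(0,false),(1,true),(0,false),(1,true),(0,false),(1,true),(2,false),(1,false),(2,false),(1,true),(1,true),(1,true),(2,false),(1,false),(1,false),(1,false),(0,false),(1,true),(2,false),(1,false),(0,false),(1,true)]⟩],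
  .rev 171,
  .path 0 [⟨161,[(98,false),(82,false),(50,false)],[(1,false),(1,false),(0,false),(1,false),(0,false),(1,false),(1,false),(0,false),(1,false),(1,false),(0,false),(1,true),(0,false),(1,false),(1,false),(0,false),(1,false),(1,false),(0,false),(1,false),(1,false),(2,false),(1,true),(2,false),(1,false),(1,false),(0,false),(2,false),(0,false),(1,true),(0,false),(1,true),(1,true),(2,false),(1,false),(1,false),(0,false)]⟩,⟨162,[(57,false),(94,false),(126,true),(126,true),(59,false),(57,false)],[(0,false),(1,false),(1,false),(0,false),(1,false),(1,false),(0,false),(1,true),(0,false),(1,true),(0,false),(1,true),(0,false),(1,true),(0,false),(1,true),(0,false),(1,true),(0,false),(1,false),(2,false),(0,false),(2,false),(0,false),(1,false),(2,false),(1,true),(0,false),(1,true),(0,false),(2,false),(0,false),(1,false),(0,false)]⟩],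
  .rev 173]

/-- the justifications -/
noncomputable def twJust : List (Just) :=
  [twJustP0, twJustP1, twJustP2, twJustP3, twJustP4, twJustP5, twJustP6, twJustP7, twJustP8, twJustP9, twJustP10, twJustP11, twJustP12, twJustP13, twJustP14, twJustP15, twJustP16, twJustP17].flatten

/-- part 0 of the orbits of state 0 -/
noncomputable def twRoots0P0 : List (TRoot) := [
  ⟨[],
    [⟨3,[],[]⟩]⟩]

/-- the orbits of state 0 -/
noncomputable def twRoots0 : List (TRoot) :=
  [twRoots0P0].flatten

/-- part 0 of the orbits of state 1 -/
noncomputable def twRoots1P0 : List (TRoot) := [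
  ⟨[],
    [⟨4,[],[]⟩]⟩,
  ⟨(wOf 21 0x203010101020301302020),
    [⟨53,[],[(0,false),(2,false)]⟩]⟩,
  ⟨[2],
    [⟨8,[],[]⟩]⟩,
  ⟨[2,0,2],
    [⟨20,[],[]⟩]⟩,
  ⟨[1,0,2],
    [⟨51,[],[(1,true),(0,false)]⟩]⟩,
  ⟨[2,0,1,0,2],
    [⟨74,[],[(0,false),(1,true),(0,false)]⟩]⟩,
  ⟨(wOf 17 0x20101030201030202),
    [⟨37,[],[]⟩]⟩]

/-- the orbits of state 1 -/
noncomputable def twRoots1 : List (TRoot) :=
  [twRoots1P0].flatten

/-- part 0 of the orbits of state 2 -/
noncomputable def twRoots2P0 : List (TRoot) := [
  ⟨[],
    [⟨9,[],[]⟩]⟩,
  ⟨(wOf 21 0x203010101020301302020),
    [⟨29,[],[(1,false),(1,false),(2,false)]⟩]⟩,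
  ⟨(wOf 17 0x20101030201030101),
    [⟨31,[],[(2,false)]⟩]⟩,
  ⟨[2],
    [⟨156,[(80,false),(14,true),(10,true)],[(1,false),(0,false),(1,true),(0,false),(1,false),(0,false),(1,false),(1,false),(0,false),(1,false),(0,false),(1,false),(0,false),(1,true),(0,false),(1,false),(1,false),(0,false),(1,false),(0,false),(2,false),(0,false),(1,true),(1,true),(0,false),(1,true),(1,true),(2,false),(1,false),(1,false),(0,false),(1,false)]⟩]⟩,
  ⟨[0,2],
    [⟨55,[],[]⟩]⟩,
  ⟨[2,0,2],
    [⟨27,[(80,false),(14,false),(11,false),(93,false)],[(0,false),(1,false),(1,false),(0,false),(1,true),(0,false),(1,false),(0,false),(1,false),(1,false),(0,false),(1,true),(0,false),(1,false),(1,false),(0,false),(1,true),(1,true),(0,false),(2,false),(0,false),(1,false),(1,false),(0,false)]⟩]⟩,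
  ⟨[0,1],
    [⟨76,[(14,true),(93,true),(80,false)],[(0,false),(1,false),(0,false),(1,false),(1,false),(0,false),(1,true),(0,false),(1,true),(0,false),(1,false),(1,false),(0,false),(1,false),(0,false),(1,false),(0,false),(1,false),(1,true),(2,false),(1,false),(1,false),(0,false),(1,false),(0,false),(1,false),(0,false),(1,true),(2,false),(1,false),(0,false),(1,true),(0,false),(1,true),(0,false),(1,true)]⟩]⟩,
  ⟨(wOf 18 0x201010302010301020),
    [⟨68,[(14,true),(93,true)],[(0,false),(1,false),(0,false),(1,false),(0,false),(1,false),(0,false),(1,true),(0,false),(1,false),(1,false),(0,false),(1,false),(0,false),(1,true),(0,false),(0,false),(1,true),(0,false),(1,false),(0,false),(1,false),(0,false),(1,true),(2,false),(1,false),(0,false),(1,true),(0,false),(1,true),(0,false),(1,false),(0,false)]⟩]⟩,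
  ⟨[1,0,2],
    [⟨18,[],[(1,true),(0,false)]⟩]⟩,
  ⟨(wOf 15 0x201010302010302),
    [⟨123,[],[(1,true),(0,false),(1,true)]⟩]⟩]

/-- part 1 of the orbits of state 2 -/
noncomputable def twRoots2P1 : List (TRoot) := [
  ⟨[2,0,2,0,1],
    [⟨130,[(14,true),(80,true),(93,false),(10,false)],[(0,false),(1,false),(1,false),(0,false),(1,false),(0,false),(1,true),(0,false),(1,false),(0,false),(1,true),(0,false),(1,true),(0,false),(1,true),(1,false),(0,false),(1,false),(0,false),(1,false),(0,false),(1,true),(2,false),(1,false),(0,false),(1,true),(0,false),(1,true),(0,false),(1,true)]⟩]⟩,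
  ⟨(wOf 26 0x20301010102030130202010202),
    [⟨114,[(14,true),(80,true),(93,false),(11,false)],[(0,false),(1,true),(0,false),(1,false),(0,false),(1,true),(0,false),(1,false),(0,false),(1,true),(0,false),(1,true),(0,false),(1,false),(0,false),(1,false),(1,false),(0,false),(1,true),(0,false),(2,false),(1,false),(2,false),(1,true),(1,false),(0,false),(1,true),(2,false),(1,false),(0,false),(1,true),(0,false),(1,true),(1,true),(2,false),(1,false),(1,false),(0,false)]⟩]⟩,
  ⟨[0,2,0,2,0,2,0,1,0,2,0,2],
    [⟨107,[],[(1,false),(1,false),(1,false),(2,false),(1,true)]⟩]⟩,
  ⟨(wOf 21 0x201010302010310202020),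
    [⟨109,[],[(1,false)]⟩]⟩,
  ⟨(wOf 16 0x2020102020102020),
    [⟨165,[],[(1,true)]⟩]⟩,
  ⟨(wOf 18 0x101020102020102020),
    [⟨91,[],[(1,true),(0,false)]⟩]⟩,
  ⟨(wOf 39 0x203010101020301302020101020102020102020),
    [⟨102,[(80,false),(10,false)],[(0,false),(1,false),(0,false),(1,false),(0,false),(1,true),(0,false),(1,true),(0,false),(1,false),(0,false),(1,false),(0,false),(1,true),(0,false),(1,false),(0,false),(1,false),(0,false),(1,true),(1,false),(0,false),(1,false),(0,false),(2,false),(0,false),(1,true),(0,false),(1,true)]⟩]⟩]

/-- the orbits of state 2 -/
noncomputable def twRoots2 : List (TRoot) :=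
  [twRoots2P0, twRoots2P1].flatten

/-- part 0 of the orbits of state 3 -/
noncomputable def twRoots3P0 : List (TRoot) := [
  ⟨[],
    [⟨21,[],[]⟩]⟩,
  ⟨(wOf 21 0x203010101020301302020),
    [⟨33,[],[(2,false)]⟩]⟩,
  ⟨[2],
    [⟨99,[],[(0,false),(1,true),(0,false)]⟩]⟩,
  ⟨(wOf 16 0x2010103020103010),
    [⟨131,[],[]⟩]⟩,
  ⟨[0,2],
    [⟨133,[],[(0,false)]⟩]⟩,
  ⟨[0,1],
    [⟨62,[],[(1,false),(1,false),(1,false),(2,false),(1,true)]⟩]⟩,
  ⟨(wOf 23 0x20301010102030130202010),
    [⟨158,[(23,true),(22,false),(23,true),(125,false)],[(1,true),(0,false),(1,false),(0,false),(1,false),(1,false),(0,false),(1,false),(0,false),(1,false),(1,false),(0,false),(1,false),(1,false),(0,false),(1,true),(0,false),(1,false),(1,false),(0,false),(1,true),(1,false),(2,false),(1,true),(0,false),(1,true),(2,false),(1,false),(0,false)]⟩]⟩,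
  ⟨[1,0,2],
    [⟨72,[],[(1,true),(0,false)]⟩]⟩,
  ⟨(wOf 24 0x203010101020301302020201),
    [⟨85,[],[(0,false)]⟩]⟩,
  ⟨(wOf 15 0x201010302010302),
    [⟨28,[(23,true),(25,true),(22,false)],[(0,false),(1,false),(1,false),(0,false),(1,false),(0,false),(1,false),(0,false),(1,false),(1,false),(0,false),(1,true),(0,false),(1,false),(0,false),(1,false),(0,false),(1,true),(0,false),(2,false),(1,false),(2,false),(1,true),(1,true),(1,true),(0,false),(2,false),(0,false),(1,false),(1,false)]⟩]⟩]

/-- part 1 of the orbits of state 3 -/
noncomputable def twRoots3P1 : List (TRoot) := [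
  ⟨[1,0,1],
    [⟨135,[],[(1,true),(1,false),(2,false),(1,true)]⟩]⟩,
  ⟨(wOf 24 0x203010101020301302020101),
    [⟨167,[],[(0,false)]⟩]⟩,
  ⟨[2,0,1,0,2],
    [⟨137,[],[]⟩]⟩,
  ⟨(wOf 17 0x20101030201030202),
    [⟨149,[],[(0,false)]⟩]⟩,
  ⟨[1,0,2,0,1,0,1,0,2],
    [⟨127,[],[(1,true)]⟩]⟩,
  ⟨(wOf 30 0x203010101020301302020201010201),
    [⟨120,[],[(1,false),(1,false),(0,false),(1,false),(0,false),(1,false),(0,false),(1,true),(0,false),(1,false),(1,false),(0,false),(1,false),(1,false),(0,false),(1,true),(0,false),(1,false),(2,false),(0,false),(1,true),(0,false),(1,false),(0,false),(1,true),(2,false),(1,false),(0,false),(1,true),(0,false),(1,false),(0,false)]⟩]⟩,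
  ⟨(wOf 29 0x1010202030130102020201010201),
    [⟨129,[],[]⟩]⟩,
  ⟨(wOf 13 0x2020102020202),
    [⟨124,[(125,false),(26,false),(22,false)],[(0,false),(1,true),(0,false),(1,true),(0,false),(1,true),(0,false),(1,true),(0,false),(1,true),(0,false),(1,true),(0,false),(1,false),(1,false),(0,false),(1,false),(0,false),(1,false),(0,false),(1,true),(2,false),(1,false),(0,false),(1,true),(0,false),(1,true),(0,false),(1,true)]⟩]⟩,
  ⟨(wOf 34 0x2030101010203013020202020102020202),
    [⟨60,[(125,false),(22,true)],[(1,true),(0,false),(1,true),(0,false),(1,true),(0,false),(1,false),(0,false),(1,false),(0,false),(1,false),(0,false),(1,false),(0,false),(1,true),(1,false),(0,false),(2,false),(0,false),(1,true),(0,false),(1,true),(0,false),(1,true),(1,true),(0,false),(2,false),(0,false),(1,false),(1,false),(0,false),(1,false),(0,false)]⟩]⟩]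

/-- the orbits of state 3 -/
noncomputable def twRoots3 : List (TRoot) :=
  [twRoots3P0, twRoots3P1].flatten

/-- part 0 of the orbits of state 4 -/
noncomputable def twRoots4P0 : List (TRoot) := [
  ⟨[],
    [⟨38,[],[]⟩]⟩,
  ⟨(wOf 21 0x203010101020301302020),
    [⟨70,[],[]⟩]⟩,
  ⟨[2],
    [⟨43,[],[]⟩]⟩,
  ⟨[1],
    [⟨69,[(41,false),(97,false),(39,false),(39,false)],[(1,true),(0,false),(1,false),(0,false),(1,false),(1,false),(0,false),(1,false),(0,false),(1,true),(0,false),(1,true),(0,false),(1,false),(1,false),(0,false),(1,false),(0,false),(1,true),(1,true),(0,false),(2,false),(0,false),(1,false),(0,false),(1,true),(1,true),(2,false),(1,false),(1,false),(0,false)]⟩]⟩,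
  ⟨[1,0,2,0,2],
    [⟨101,[],[(0,false),(2,false)]⟩]⟩,
  ⟨(wOf 26 0x20301010102030130202020201),
    [⟨78,[(39,false),(81,false),(97,false)],[(1,false),(0,false),(1,true),(0,false),(1,false),(0,false),(1,false),(1,false),(0,false),(1,false),(0,false),(1,true),(0,false),(1,true),(0,false),(1,false),(0,false),(1,true),(2,false),(1,true),(1,true),(0,false),(2,false),(0,false),(1,false),(1,false),(0,false),(1,false),(0,false),(1,true),(2,false),(1,false),(0,false),(1,true),(0,false)]⟩]⟩]

/-- the orbits of state 4 -/
noncomputable def twRoots4 : List (TRoot) :=
  [twRoots4P0].flatten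

/-- part 0 of the orbits of state 5 -/
noncomputable def twRoots5P0 : List (TRoot) := [
  ⟨[],
    [⟨44,[],[]⟩]⟩,
  ⟨(wOf 21 0x203010101020301302020),
    [⟨115,[],[]⟩]⟩,
  ⟨(wOf 17 0x20101030201030101),
    [⟨103,[(112,false),(46,false)],[(1,false),(1,false),(0,false),(1,true),(0,false),(1,false),(1,false),(0,false),(1,false),(1,false),(0,false),(1,false),(0,false),(1,false),(1,false),(0,false),(1,true),(1,true),(2,false),(1,false),(1,false),(0,false),(2,false),(0,false),(1,true),(1,false),(0,false),(1,true),(2,false),(1,false),(0,false),(1,true)]⟩]⟩,
  ⟨[2],
    [⟨151,[],[(1,true),(0,false),(0,false),(2,false),(0,false)]⟩]⟩,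
  ⟨[0,2],
    [⟨161,[],[]⟩]⟩,
  ⟨(wOf 15 0x201010302010301),
    [⟨173,[],[(1,true)]⟩]⟩,
  ⟨(wOf 22 0x101020203013010202020),
    [⟨157,[],[]⟩]⟩,
  ⟨[1],
    [⟨168,[(111,false),(98,true),(49,false)],[(0,false),(1,false),(0,false),(1,true),(0,false),(1,false),(1,false),(0,false),(1,false),(0,false),(1,false),(0,false),(1,false),(1,false),(0,false),(1,true),(0,false),(1,true),(0,false),(2,false),(1,true),(2,false),(1,false),(1,false),(0,false),(1,true),(2,false),(1,false),(0,false),(1,true),(0,false),(1,true),(1,true),(0,false),(2,false),(0,false),(1,false),(1,false),(0,false)]⟩]⟩,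
  ⟨(wOf 22 0x2030101010203013020201),
    [⟨171,[],[(0,false),(1,true),(2,false)]⟩]⟩,
  ⟨[0,1],
    [⟨64,[(50,false),(111,false)],[(0,false),(1,false),(1,false),(0,false),(1,false),(0,false),(1,false),(1,false),(0,false),(1,true),(0,false),(1,false),(1,false),(0,false),(1,false),(1,false),(0,false),(1,false),(1,false),(0,false),(1,true),(0,false),(1,true),(2,false),(1,false),(2,false),(1,true),(1,true),(1,true),(2,false),(1,false),(1,false)]⟩]⟩]

/-- part 1 of the orbits of state 5 -/
noncomputable def twRoots5P1 : List (TRoot) := [
  ⟨(wOf 23 0x20301010102030130202010),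
    [⟨153,[],[(0,false)]⟩]⟩,
  ⟨(wOf 18 0x201010302010301020),
    [⟨155,[],[]⟩]⟩,
  ⟨[0,1,0,2],
    [⟨159,[],[(1,true)]⟩]⟩,
  ⟨(wOf 25 0x2030101010203013020202010),
    [⟨166,[(111,false),(46,false)],[(0,false),(1,false),(0,false),(1,false),(1,false),(0,false),(1,false),(0,false),(1,false),(0,false),(1,true),(0,false),(1,false),(1,false),(0,false),(1,false),(1,false),(0,false),(1,true),(0,false),(1,false),(1,false),(2,false),(1,false),(2,false),(1,true),(1,true),(1,true),(0,false),(2,false),(0,false),(1,false),(1,false),(0,false),(1,true),(1,true),(2,false),(1,false),(1,false),(0,false)]⟩]⟩,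
  ⟨[1,0,1],
    [⟨169,[],[(0,false),(0,false),(2,false),(0,false)]⟩]⟩,
  ⟨(wOf 24 0x203010101020301302020101),
    [⟨139,[],[(1,false),(1,false)]⟩]⟩,
  ⟨[1,0,2,0,1],
    [⟨66,[(82,false),(48,false)],[(1,true),(0,false),(1,false),(1,false),(0,false),(1,false),(0,false),(1,false),(0,false),(1,false),(0,false),(1,false),(1,false),(0,false),(1,false),(0,false),(1,false),(1,false),(0,false),(1,false),(0,false),(2,false),(0,false),(0,false),(1,true),(2,false),(1,false),(0,false),(0,false),(1,false),(0,false),(1,true),(2,false),(1,false),(0,false),(1,true),(0,false)]⟩]⟩,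
  ⟨(wOf 26 0x20301010102030130202010201),
    [⟨119,[],[]⟩]⟩,
  ⟨(wOf 21 0x201010302010301020201),
    [⟨113,[],[]⟩]⟩,
  ⟨[1,0,2,0,2,0,1,0,1,0,2],
    [⟨117,[],[(2,false)]⟩]⟩]

/-- part 2 of the orbits of state 5 -/
noncomputable def twRoots5P2 : List (TRoot) := [
  ⟨(wOf 32 0x20301010102030130202020101020201),
    [⟨150,[(112,true),(47,false),(45,false)],[(1,true),(0,false),(1,false),(0,false),(1,false),(0,false),(1,false),(1,false),(0,false),(1,false),(0,false),(1,false),(0,false),(1,false),(1,false),(0,false),(1,false),(0,false),(1,true),(1,false),(2,false),(1,true),(1,false),(0,false),(1,true),(2,false),(1,false),(0,false),(1,true),(0,false),(1,true),(1,true),(2,false),(1,false),(1,false),(0,false)]⟩]⟩,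
  ⟨(wOf 15 0x101020102010101),
    [⟨110,[],[(1,false),(0,false),(1,false),(0,false),(1,true),(0,false),(1,true),(0,false),(1,false),(1,false),(0,false),(1,false),(1,false),(0,false),(1,false),(0,false),(1,false),(1,false),(0,false),(1,false),(0,false),(1,true),(2,false),(1,false),(2,false),(1,true),(1,false),(0,false),(1,true),(2,false),(1,false),(0,false),(1,true),(0,false),(1,true),(1,true),(2,false),(1,false),(1,false),(0,false)]⟩]⟩,
  ⟨(wOf 31 0x2010103020103010201020102010101),
    [⟨105,[],[]⟩]⟩]

/-- the orbits of state 5 -/
noncomputable def twRoots5 : List (TRoot) :=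
  [twRoots5P0, twRoots5P1, twRoots5P2].flatten

/-- part 0 of the orbits of state 6 -/
noncomputable def twRoots6P0 : List (TRoot) := [
  ⟨[],
    [⟨56,[],[]⟩]⟩,
  ⟨(wOf 21 0x203010101020301302020),
    [⟨145,[],[(2,false)]⟩]⟩,
  ⟨[2],
    [⟨121,[(59,false),(58,false),(126,false),(57,false)],[(1,false),(1,false),(0,false),(1,false),(1,false),(0,false),(2,false),(1,true),(1,true),(0,false),(2,false),(0,false),(1,false),(1,false),(1,false),(0,false),(1,true),(2,false),(1,false),(0,false),(1,true)]⟩]⟩,
  ⟨(wOf 22 0x2030101010203013020202),
    [⟨152,[(94,false),(126,true),(59,false),(58,false)],[(1,false),(0,false),(1,false),(1,false),(0,false),(1,true),(0,false),(1,true),(0,false),(1,true),(0,false),(1,true),(0,false),(1,false),(0,false),(1,false),(1,false),(0,false),(1,true),(2,false),(0,false),(2,false),(0,false),(1,false),(2,false),(1,true),(1,false),(0,false),(1,true),(2,false),(1,false),(0,false),(1,true)]⟩]⟩,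
  ⟨[0,2],
    [⟨132,[(126,false),(59,false),(94,false),(126,false)],[(0,false),(1,false),(1,false),(0,false),(1,false),(0,false),(1,false),(1,false),(0,false),(1,false),(0,false),(1,false),(1,false),(0,false),(1,false),(1,false),(0,false),(1,true),(0,false),(1,true),(2,false),(1,true),(2,false),(1,false),(0,false),(1,true),(2,false),(1,false),(0,false),(0,false),(1,false),(0,false),(1,true),(2,false),(1,false),(0,false),(1,true),(0,false)]⟩]⟩,
  ⟨(wOf 22 0x101020203013010202020),
    [⟨141,[],[]⟩]⟩,
  ⟨[2,0,2],
    [⟨163,[],[(0,false),(2,false)]⟩]⟩,
  ⟨(wOf 24 0x203010101020301302020202),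
    [⟨162,[(126,true),(57,false),(126,false),(126,false),(59,false)],[(1,false),(0,false),(1,false),(0,false),(1,false),(1,false),(0,false),(1,true),(0,false),(1,false),(0,false),(1,false),(1,false),(0,false),(1,true),(0,false),(2,false),(0,false),(1,false),(1,false),(0,false),(1,true),(1,true),(0,false),(2,false),(0,false),(1,false),(1,false),(0,false),(1,true)]⟩]⟩,
  ⟨(wOf 14 0x20101030201030),
    [⟨63,[(58,false),(126,true),(94,false),(126,true),(94,false)],[(0,false),(1,false),(1,false),(0,false),(1,true),(0,false),(1,false),(1,false),(0,false),(1,false),(0,false),(1,false),(1,false),(0,false),(1,true),(0,false),(1,true),(1,false),(0,false),(1,false),(0,false),(1,false),(0,false),(2,false),(0,false),(1,true),(0,false),(1,true),(0,false),(1,true)]⟩]⟩,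
  ⟨[0,1],
    [⟨140,[(126,false),(126,false),(59,false),(126,false),(58,false)],[(0,false),(1,true),(0,false),(1,true),(0,false),(1,false),(0,false),(1,false),(0,false),(1,false),(1,false),(0,false),(1,false),(1,false),(1,true),(2,false),(1,false),(0,false),(1,true),(0,false),(2,false),(0,false),(1,false),(0,false)]⟩]⟩]

/-- part 1 of the orbits of state 6 -/
noncomputable def twRoots6P1 : List (TRoot) := [
  ⟨(wOf 23 0x20301010102030130202010),
    [⟨147,[],[(0,false),(2,false)]⟩]⟩,
  ⟨[2,0,2,0,2],
    [⟨143,[],[(1,false),(1,false)]⟩]⟩,
  ⟨(wOf 25 0x101020203013010202020202),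
    [⟨134,[(94,false),(126,true),(59,false),(57,false)],[(0,false),(1,true),(0,false),(1,false),(0,false),(1,false),(0,false),(1,false),(1,false),(0,false),(1,false),(0,false),(1,false),(0,false),(1,true),(0,false),(1,true),(0,false),(1,true),(0,false),(1,false),(1,false),(2,false),(1,true),(1,true),(0,false),(2,false),(0,false),(1,false),(1,false),(0,false),(1,true),(0,false),(1,false),(0,false),(1,true),(2,false),(1,false),(0,false),(1,true),(0,false),(1,false),(0,false)]⟩]⟩]

/-- the orbits of state 6 -/
noncomputable def twRoots6 : List (TRoot) :=
  [twRoots6P0, twRoots6P1].flatten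

/-- the closure -/
noncomputable def tw : TData where
  C := pzCertL
  B := [0,8637,5111,5920,674,9799]
  U := [([0],[0]),
    ((wOf 13 0x1010102020101),(wOf 13 0x1010102020101)),
    ((wOf 29 0x10101010102010302010202020202),(wOf 154 0x1010101010201030201020202020102010102020201010102020101010101020201010202010102020201010102020101010101020201010202010102020201010102020101010101020201010))]
  cosL := [[]]
  pgens := [[0], (wOf 13 0x1010102020101), (wOf 29 0x10101010102010302010202020202)]
  cosMove := [[(0, [(0, false)])], [(0, [(1, false)])], [(0, [(2, false)])]]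
  sq := []
  ns := 7
  par := [(0,[]),(0,[]),(1,[2]),(1,[2,0,2]),(1,(wOf 17 0x20101030201030202)),(4,[2]),(2,[0,2])]
  facts := twFacts
  prfs := twJust
  menuE := [(wOf 53 0x20102010202010201420102010202010201420102010202010201),(wOf 53 0x20102010102010201420102010102010201420102010102010201),(wOf 66 0x202020201020201010101420202020102020101010142020202010320201010101),(wOf 66 0x202020201010201010101420202020101020101010142020202010130201010101)]
  menuS := [(wOf 54 0x201020101020102014201020101020102014201020101020102014),(wOf 67 0x2020202010102010101014202020201010201010101420202020101302010101014)]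
  roots := [twRoots0, twRoots1, twRoots2, twRoots3, twRoots4, twRoots5, twRoots6]

/-- where the words equal to t come from -/
def witE : List (ℕ × Bool × ℕ) := [(0, false, 9), (0, true, 8), (2, false, 11), (2, true, 11)]

/-- where the words equal to one come from -/
def witS : List (ℕ × Bool × ℕ) := [(0, false, 9), (2, false, 55)]

end CfsgLib.J4Pres
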