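import Cfsg.Agent.Lib.J4Pres.RepLetters
import Cfsg.Agent.Lib.J4Pres.SegData

/-!
The matrices of the words of order eleven, part by part.
-/

set_option autoImplicit false
set_option Elab.async false

namespace CfsgLib.J4Pres

open Cfsg CfsgLib.CosetEnum CfsgLib.Fi22Mult CfsgLib.J4Rep Cfsg.Spor

theorem segA0_ok : eqB (mat5W segA0) segMatA0 = true := by decide +kernel

theorem segA1_ok : eqB (mat5W segA1) segMatA1 = true := by decide +kernel

theorem segA2_ok : eqB (mat5W segA2) segMatA2 = true := by decide +kernel

theorem segsA_ok : ∀ e ∈ segsA, eqB (mat5W e.1) e.2 = true := by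
  simp only [segsA, List.forall_mem_cons, List.not_mem_nil, IsEmpty.forall_iff, implies_true, and_true]
  exact ⟨segA0_ok, segA1_ok, segA2_ok⟩

theorem segsA_flat : (segsA.flatMap Prod.fst == wordA11) = true := by decide +kernel

theorem segsA_prod : eqB (segsA.foldr (fun e M => mulB e.2 M) (oneB 112)) matA11 = true := by decide +kernel

theorem segB0_ok : eqB (mat5W segB0) segMatB0 = true := by decide +kernel

theorem segB1_ok : eqB (mat5W segB1) segMatB1 = true := by decide +kernel

theorem segB2_ok : eqB (mat5W segB2) segMatB2 = true := by decide +kernel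

theorem segB3_ok : eqB (mat5W segB3) segMatB3 = true := by decide +kernel

theorem segB4_ok : eqB (mat5W segB4) segMatB4 = true := by decide +kernel

theorem segB5_ok : eqB (mat5W segB5) segMatB5 = true := by decide +kernel

theorem segB6_ok : eqB (mat5W segB6) segMatB6 = true := by decide +kernel

theorem segB7_ok : eqB (mat5W segB7) segMatB7 = true := by decide +kernel

theorem segB8_ok : eqB (mat5W segB8) segMatB8 = true := by decide +kernel

theorem segB9_ok : eqB (mat5W segB9) segMatB9 = true := by decide +kernel

theorem segB10_ok : eqB (mat5W segB10) segMatB10 = true := by decide +kernel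

theorem segB11_ok : eqB (mat5W segB11) segMatB11 = true := by decide +kernel

theorem segsB_ok : ∀ e ∈ segsB, eqB (mat5W e.1) e.2 = true := by
  simp only [segsB, List.forall_mem_cons, List.not_mem_nil, IsEmpty.forall_iff, implies_true, and_true]
  exact ⟨segB0_ok, segB1_ok, segB2_ok, segB3_ok, segB4_ok, segB5_ok, segB6_ok, segB7_ok, segB8_ok, segB9_ok, segB10_ok, segB11_ok⟩

theorem segsB_flat : (segsB.flatMap Prod.fst == wordB11) = true := by decide +kernel

theorem segsB_prod : eqB (segsB.foldr (fun e M => mulB e.2 M) (oneB 112)) matB11 = true := by decide +kernel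

theorem segs_spec : ∀ l : List (List ℕ × List ℕ), (∀ e ∈ l, eqB (mat5W e.1) e.2 = true) →
    (l.foldr (fun e M => mulB e.2 M) (oneB 112)).length = 112 ∧
      (rho (prodW j5 (l.flatMap Prod.fst)) : U112).val =
        toMat 112 (l.foldr (fun e M => mulB e.2 M) (oneB 112))
  | [], _ => ⟨oneB_length _, by simp [toMat_oneB]⟩
  | e :: l, h => by
    rw [List.forall_mem_cons] at h
    obtain ⟨h1, h2⟩ := segs_spec l h.2
    obtain ⟨h3, h4⟩ := mat5W_spec e.1
    rw [eqB_eq h.1] at h3 h4
    refine ⟨by rw [List.foldr_cons, mulB_length, h3], ?_⟩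
    rw [List.flatMap_cons, prodW_append, map_mul, Units.val_mul, h4, h2, List.foldr_cons,
      toMat_mulB h3 h1]

theorem matA11_spec : matA11.length = 112 ∧
    (rho (prodW j5 wordA11) : U112).val = toMat 112 matA11 := by
  have h := segs_spec segsA segsA_ok
  rw [beq_iff_eq.1 segsA_flat, eqB_eq segsA_prod] at h
  exact h

theorem matB11_spec : matB11.length = 112 ∧
    (rho (prodW j5 wordB11) : U112).val = toMat 112 matB11 := by
  have h := segs_spec segsB segsB_ok
  rw [beq_iff_eq.1 segsB_flat, eqB_eq segsB_prod] at h
  exact h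

end CfsgLib.J4Pres
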