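import Cfsg.Agent.Lib.J4Pres.TrioMoves

/-!
The elementary abelian subgroup of order at most `2^11` normalised by x and y.
-/

set_option autoImplicit false

namespace CfsgLib.J4Pres

open Cfsg CfsgLib.CosetEnum Cfsg.Spor

/-- the involution z -/
noncomputable def zz : J4 := prodW sg zLetters

theorem zz_sq : zz * zz = 1 := by
  rw [zz, ← prodW_append, ← prodW_nil sg]
  exact sg_same (by decide +kernel)

/-- the centralizer of z -/
noncomputable def centZ : Subgroup J4 := Subgroup.centralizer {zz}

theorem mem_centZ {g : J4} : g ∈ centZ ↔ Commute g zz := by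
  rw [centZ, Subgroup.mem_centralizer_singleton_iff]
  rfl

/-- the images of the three letters under a word, found among the fifteen -/
noncomputable def zImage (w : List ℕ) : List ℕ :=
  zLetters.map fun i => (sextTrios.idxOf (trioCertT.run (sextTrios.getD i 0) w))

theorem zModel : Model trioCertZ centZ jg := by
  refine jg_model rfl rfl (by decide +kernel) fun w hw => ?_
  have h : (trioCertZ.subs.all fun w => okW w && sameS (zImage w) zLetters &&
      (zImage w).map (fun i => sextTrios.getD i 0) == sImg w zLetters) = true := by decide +kernel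
  have h' := List.all_eq_true.1 h w hw
  simp only [Bool.and_eq_true, beq_iff_eq] at h'
  obtain ⟨⟨hg, hs⟩, hmap⟩ := h'
  have hlt : ∀ i ∈ zLetters, i < 15 := by decide +kernel
  have e := sImg_spec hg hlt
  rw [← hmap] at e
  have hlt' : ∀ i ∈ zImage w, i < 15 := by
    have := hs
    simp only [sameS, Bool.and_eq_true, List.all_eq_true, Nat.blt_eq] at this
    exact this.1.1
  have e2 : prodW tau ((zImage w).map fun i => sextTrios.getD i 0) = prodW sg (zImage w) := by
    rw [prodW, prodW, List.map_map]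
    exact congrArg List.prod (List.map_congr_left fun i hi => (sg_of_lt (hlt' i hi)).symm)
  rw [e2, sg_same hs] at e
  rw [mem_centZ]
  show prodW jg w * zz = zz * prodW jg w
  calc prodW jg w * zz = prodW jg w * ((prodW jg w)⁻¹ * zz * prodW jg w) := by rw [zz, ← e]
    _ = zz * prodW jg w := by group

/-- the conjugate of z of a coset -/
noncomputable def zeta (i : ℕ) : J4 := (coreRep trioCertZ jg i)⁻¹ * zz * coreRep trioCertZ jg i

theorem zeta_zero : zeta 0 = zz := by
  simp [zeta, coreRep, trioCertZ_complete.nd_zero, psi_zero]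

theorem zeta_sq (i : ℕ) : zeta i * zeta i = 1 := by
  have e : zeta i * zeta i = (coreRep trioCertZ jg i)⁻¹ * (zz * zz) * coreRep trioCertZ jg i := by
    simp only [zeta]; group
  rw [e, zz_sq]; group

theorem zeta_inv (i : ℕ) : (zeta i)⁻¹ = zeta i := inv_eq_of_mul_eq_one_right (zeta_sq i)

theorem zeta_conj {i : ℕ} (hi : i < trioCertZ.N) {w : List ℕ} (hw : ∀ g ∈ w, g < 3) :
    trioCertZ.run i w < trioCertZ.N ∧
      (prodW jg w)⁻¹ * zeta i * prodW jg w = zeta (trioCertZ.run i w) := by
  obtain ⟨h1, h2⟩ := coreRep_run trioCertZ_complete zModel w i hi hw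
  refine ⟨h1, ?_⟩
  rw [mem_centZ] at h2
  simp only [zeta]
  set a := coreRep trioCertZ jg i
  set b := coreRep trioCertZ jg (trioCertZ.run i w)
  set u := prodW jg w
  have h3 : a * u * b⁻¹ * zz = zz * (a * u * b⁻¹) := h2
  calc u⁻¹ * (a⁻¹ * zz * a) * u = u⁻¹ * a⁻¹ * (zz * (a * u * b⁻¹)) * b := by group
    _ = u⁻¹ * a⁻¹ * (a * u * b⁻¹ * zz) * b := by rw [h3]
    _ = b⁻¹ * zz * b := by group

/-- each start is made of conjugates of z -/
noncomputable def partsOK : Bool :=
  match startParts with
  | [(p, a), (q, b), (r, c)] =>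
    okW (upW 64 p) && okW (upW 64 q) && okW (upW 64 r) && sameS a zLetters && sameS b zLetters &&
      sameS c zLetters && sImg (upW 64 p) a ++ sImg (upW 64 q) b == startA &&
      sImg (upW 64 r) c == startB &&
      [trioCertZ.run 0 (upW 64 p), trioCertZ.run 0 (upW 64 q), trioCertZ.run 0 (upW 64 r)] == relBase
  | _ => false

theorem base_rel : prodW zeta relBase = 1 := by
  have h : partsOK = true := by decide +kernel
  unfold partsOK at h
  split at h
  case h_2 => simp at h
  rename_i p a q b r c _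
  simp only [Bool.and_eq_true, beq_iff_eq] at h
  obtain ⟨⟨⟨⟨⟨⟨⟨⟨hp, hq⟩, hr⟩, ha⟩, hb⟩, hc⟩, hA⟩, hB⟩, hrel⟩ := h
  have key : ∀ {g a : List ℕ}, okW g = true → sameS a zLetters = true →
      prodW tau (sImg g a) = zeta (trioCertZ.run 0 g) := by
    intro g a hg ha
    have ha' := ha
    simp only [sameS, Bool.and_eq_true, List.all_eq_true, Nat.blt_eq] at ha'
    rw [sImg_spec hg ha'.1.1, sg_same ha, ← (zeta_conj trioCertZ_complete.N_pos (okW_lt hg)).2,
      zeta_zero, zz]
  have e := starts_eq
  rw [← hA, ← hB, prodW_append, key hp ha, key hq hb, key hr hc] at e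
  rw [← hrel]
  simp only [prodW_cons, prodW_nil, mul_one]
  rw [← mul_assoc, e, zeta_sq]

/-- the images of the base relation under a word -/
noncomputable def relImg (p : ℕ) : List ℕ := relBase.map fun i => trioCertZ.run i (upW 64 p)

theorem relImg_spec {p : ℕ} (h : okW (upW 64 p) = true) :
    prodW zeta (relImg p) = 1 ∧ ∀ i ∈ relImg p, i < trioCertZ.N := by
  have hb : ∀ i ∈ relBase, i < trioCertZ.N := by decide +kernel
  refine ⟨?_, fun i hi => ?_⟩
  · have e : prodW zeta (relImg p) = prodW (fun i => zeta (trioCertZ.run i (upW 64 p))) relBase := by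
      simp [relImg, prodW, List.map_map, Function.comp_def]
    rw [e, ← prodW_conj zeta _ (prodW jg (upW 64 p)) fun i hi => (zeta_conj (hb i hi) (okW_lt h)).2,
      base_rel]
    group
  · obtain ⟨j, hj, rfl⟩ := List.mem_map.1 hi
    exact (zeta_conj (hb j hj) (okW_lt h)).1

theorem three_commute {a b c : ℕ} (h : prodW zeta [a, b, c] = 1) :
    zeta a * zeta b = zeta b * zeta a ∧ zeta b * zeta c = zeta c * zeta b ∧
      zeta a * zeta c = zeta c * zeta a ∧ zeta c = zeta a * zeta b := by
  simp only [prodW_cons, prodW_nil, mul_one] at h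
  have ha := zeta_inv a
  have hb := zeta_inv b
  have hc := zeta_inv c
  set A := zeta a
  set B := zeta b
  set C := zeta c
  have hC : C = A * B := by
    have : A * B = C⁻¹ := eq_inv_of_mul_eq_one_left (by rw [mul_assoc]; exact h)
    rw [this, hc]
  have hAB : A * B = B * A := by
    calc A * B = C := hC.symm
      _ = C⁻¹ := hc.symm
      _ = B⁻¹ * A⁻¹ := by rw [hC, mul_inv_rev]
      _ = B * A := by rw [ha, hb]
  refine ⟨hAB, ?_, ?_, hC⟩
  · rw [hC, ← mul_assoc, ← hAB]
  · rw [hC, mul_assoc, ← hAB]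

/-- the three conjugates over a word contain the given ones -/
noncomputable def tripleHas (p : ℕ) (l : List ℕ) : Bool :=
  okW (upW 64 p) && l.all fun i => (relImg p).contains i

theorem tripleHas_spec {p i j : ℕ} (h : tripleHas p [i, j] = true) :
    zeta i * zeta j = zeta j * zeta i ∧ i < trioCertZ.N ∧ j < trioCertZ.N := by
  simp only [tripleHas, Bool.and_eq_true, List.all_cons, List.all_nil, List.contains_iff_mem,
    and_true] at h
  obtain ⟨hp, hi, hj⟩ := h
  obtain ⟨h1, h2⟩ := relImg_spec hp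
  refine ⟨?_, h2 i hi, h2 j hj⟩
  have e : relImg p = [trioCertZ.run (relBase.getD 0 0) (upW 64 p), trioCertZ.run (relBase.getD 1 0) (upW 64 p),
      trioCertZ.run (relBase.getD 2 0) (upW 64 p)] := rfl
  rw [e] at h1 hi hj
  obtain ⟨c1, c2, c3, -⟩ := three_commute h1
  simp only [List.mem_cons, List.not_mem_nil, or_false] at hi hj
  rcases hi with rfl | rfl | rfl <;> rcases hj with rfl | rfl | rfl <;>
    first | rfl | assumption | exact c1.symm | exact c2.symm | exact c3.symm

theorem triple_prod {p a b c : ℕ} (h : tripleHas p [a, b, c] = true)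
    (hab : a ≠ b) (hac : a ≠ c) (hbc : b ≠ c) : zeta c = zeta a * zeta b ∧ c < trioCertZ.N := by
  simp only [tripleHas, Bool.and_eq_true, List.all_cons, List.all_nil, List.contains_iff_mem,
    and_true] at h
  obtain ⟨hp, ha, hb, hc⟩ := h
  obtain ⟨h1, h2⟩ := relImg_spec hp
  refine ⟨?_, h2 c hc⟩
  have e : relImg p = [trioCertZ.run (relBase.getD 0 0) (upW 64 p), trioCertZ.run (relBase.getD 1 0) (upW 64 p),
      trioCertZ.run (relBase.getD 2 0) (upW 64 p)] := rfl
  rw [e] at h1 ha hb hc
  generalize trioCertZ.run (relBase.getD 0 0) (upW 64 p) = u at *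
  generalize trioCertZ.run (relBase.getD 1 0) (upW 64 p) = v at *
  generalize trioCertZ.run (relBase.getD 2 0) (upW 64 p) = w at *
  obtain ⟨c1, c2, c3, hw⟩ := three_commute h1
  have hu : zeta u = zeta v * zeta w := by
    rw [hw, c1, ← mul_assoc, zeta_sq, one_mul]
  have hv : zeta v = zeta u * zeta w := by
    rw [hw, ← mul_assoc, zeta_sq, one_mul]
  simp only [List.mem_cons, List.not_mem_nil, or_false] at ha hb hc
  rcases ha with rfl | rfl | rfl <;> rcases hb with rfl | rfl | rfl <;> rcases hc with rfl | rfl | rfl <;>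
    first | contradiction | assumption | exact hw.trans c1 | exact hu.trans c2 | exact hv.trans c3

/-- the check of the commutations with z -/
noncomputable def comOK : Bool :=
  (directCom.all fun e => tripleHas e.2 [0, e.1]) &&
    indirectCom.all fun e =>
      tripleHas e.2.2.2 [e.2.1, e.2.2.1, e.1] && !(Nat.beq e.2.1 e.2.2.1) && !(Nat.beq e.2.1 e.1) &&
        !(Nat.beq e.2.2.1 e.1) && directCom.any (fun d => Nat.beq d.1 e.2.1) &&
        directCom.any fun d => Nat.beq d.1 e.2.2.1

/-- the mask of the conjugates known to commute with z -/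
def comMask : ℕ :=
  (directCom.map fun e => e.1).foldl (fun m i => m ||| 2 ^ i)
    ((indirectCom.map fun e => e.1).foldl (fun m i => m ||| 2 ^ i) 1)

theorem foldl_mask (P : ℕ → Prop) : ∀ (l : List ℕ) (m : ℕ), (∀ i, m.testBit i = true → P i) →
    (∀ i ∈ l, P i) → ∀ i, (l.foldl (fun m i => m ||| 2 ^ i) m).testBit i = true → P i
  | [], m, hm, _, i, h => hm i h
  | a :: l, m, hm, hl, i, h => by
    rw [List.forall_mem_cons] at hl
    refine foldl_mask P l _ (fun k hk => ?_) hl.2 i h
    rw [Nat.testBit_or, Bool.or_eq_true, Nat.testBit_two_pow, decide_eq_true_eq] at hk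
    rcases hk with hk | rfl
    exacts [hm k hk, hl.1]

theorem zeta_com_zero {i : ℕ} (hi : i < trioCertZ.N) : zeta 0 * zeta i = zeta i * zeta 0 := by
  have h : comOK = true := by decide +kernel
  have hfull : comMask = 2 ^ trioCertZ.N - 1 := by decide +kernel
  simp only [comOK, Bool.and_eq_true, List.all_eq_true, List.any_eq_true, Bool.not_eq_true',
    Nat.beq_eq] at h
  have hd : ∀ e ∈ directCom, zeta 0 * zeta e.1 = zeta e.1 * zeta 0 := fun e he =>
    (tripleHas_spec (h.1 e he)).1
  have ht : comMask.testBit i = true := by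
    rw [hfull, Nat.testBit_two_pow_sub_one, decide_eq_true_eq]; exact hi
  refine foldl_mask (fun i => zeta 0 * zeta i = zeta i * zeta 0) _ _
    (fun k hk => foldl_mask (fun i => zeta 0 * zeta i = zeta i * zeta 0) _ _ (fun j hj => ?_) ?_ k hk) ?_ i ht
  · rw [show (1 : ℕ) = 2 ^ 0 from rfl, Nat.testBit_two_pow, decide_eq_true_eq] at hj
    subst hj; rfl
  · intro k hk
    obtain ⟨e, he, rfl⟩ := List.mem_map.1 hk
    obtain ⟨⟨⟨⟨⟨h1, h2⟩, h3⟩, h4⟩, da, ha, hda⟩, db, hb, hdb⟩ := h.2 e he
    have hne : e.2.1 ≠ e.2.2.1 ∧ e.2.1 ≠ e.1 ∧ e.2.2.1 ≠ e.1 := by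
      simp only [← Bool.not_eq_true, Nat.beq_eq] at h2 h3 h4
      exact ⟨h2, h3, h4⟩
    obtain ⟨e1, -⟩ := triple_prod h1 hne.1 hne.2.1 hne.2.2
    have ca := hd da ha
    have cb := hd db hb
    rw [hda] at ca
    rw [hdb] at cb
    rw [e1, ← mul_assoc, ca, mul_assoc, cb, ← mul_assoc]
  · intro k hk
    obtain ⟨e, he, rfl⟩ := List.mem_map.1 hk
    exact hd e he

/-- the subgroup of the conjugates of z -/
noncomputable def eleven : Subgroup J4 := Subgroup.closure {y | ∃ i < trioCertZ.N, zeta i = y}

theorem jg_coset {x : J4} (hx : x ∈ Subgroup.closure {y | ∃ g < 3, jg g = y}) :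
    ∃ w : List ℕ, (∀ g ∈ w, g < 3) ∧ prodW jg w = x := by
  induction hx using Subgroup.closure_induction with
  | mem y hy =>
    obtain ⟨g, hg, rfl⟩ := hy
    exact ⟨[g], by simpa using hg, prodW_single _ _⟩
  | one => exact ⟨[], by simp, rfl⟩
  | mul a b _ _ ha hb =>
    obtain ⟨u, hu, rfl⟩ := ha
    obtain ⟨v, hv, rfl⟩ := hb
    exact ⟨u ++ v, fun g hg => (List.mem_append.1 hg).elim (hu g) (hv g), prodW_append _ _ _⟩
  | inv a _ ha =>
    obtain ⟨u, hu, rfl⟩ := ha
    refine ⟨trioCertT.revInv u, fun g hg => ?_, trioModel.revInv_eq u⟩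
    simp only [Cert.revInv, List.mem_reverse, List.mem_map] at hg
    obtain ⟨k, hk, rfl⟩ := hg
    exact trioCertT_complete.inv_lt (hu k hk)

theorem coreRep_mem (k : ℕ) :
    coreRep trioCertZ jg k ∈ Subgroup.closure {y | ∃ g < 3, jg g = y} := by
  have hg : ∀ g, jg g ∈ Subgroup.closure {y | ∃ g < 3, jg g = y} := by
    intro g
    by_cases h : g < 3
    · exact Subgroup.subset_closure ⟨g, h, rfl⟩
    · have : m24Gen g = 1 := by
        obtain ⟨n, rfl⟩ : ∃ n, g = n + 3 := ⟨g - 3, by omega⟩
        simp [m24Gen, twoGen, twoFree]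
      rw [jg, this, map_one]
      exact one_mem _
  unfold coreRep
  generalize trioCertZ.nd.at' 24 k = n
  induction n using Nat.strong_induction_on with
  | _ n ih =>
    rw [psi]
    split
    · exact one_mem _
    · split
      · next h => exact mul_mem (ih _ h) (hg _)
      · exact one_mem _

theorem zeta_com {i j : ℕ} (hi : i < trioCertZ.N) (hj : j < trioCertZ.N) :
    zeta i * zeta j = zeta j * zeta i := by
  have hrep : ∀ k, ∃ w : List ℕ, (∀ g ∈ w, g < 3) ∧ prodW jg w = coreRep trioCertZ jg k := by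
    intro k
    refine jg_coset ?_
    exact coreRep_mem k
  obtain ⟨w, hw, e⟩ := hrep i
  have hwinv : ∀ g ∈ trioCertZ.revInv w, g < 3 := by
    intro g hg
    simp only [Cert.revInv, List.mem_reverse, List.mem_map] at hg
    obtain ⟨k, hk, rfl⟩ := hg
    exact trioCertZ_complete.inv_lt (hw k hk)
  obtain ⟨hk, hkc⟩ := zeta_conj hj hwinv
  rw [zModel.revInv_eq, e, inv_inv] at hkc
  have h0 := zeta_com_zero hk
  rw [← hkc, zeta_zero] at h0
  set r := coreRep trioCertZ jg i
  calc zeta i * zeta j = r⁻¹ * (zz * (r * zeta j * r⁻¹)) * r := by simp only [zeta, r]; group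
    _ = r⁻¹ * ((r * zeta j * r⁻¹) * zz) * r := by rw [h0]
    _ = zeta j * zeta i := by simp only [zeta, r]; group

/-- the check of the spanning schedule -/
noncomputable def spanOK : List (ℕ × ℕ × ℕ × ℕ) → ℕ → Option ℕ
  | [], m => some m
  | (i, j, k, p) :: l, m =>
    if Nat.testBit m i && Nat.testBit m j && tripleHas p [i, j, k] && !(Nat.beq i j) &&
        !(Nat.beq i k) && !(Nat.beq j k) then spanOK l (m ||| 2 ^ k) else none

theorem spanOK_nil (m : ℕ) : spanOK [] m = some m := by simp only [spanOK]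

/-- the eleven chosen conjugates -/
noncomputable def basisSub : Subgroup J4 := Subgroup.closure {y | ∃ i ∈ spanBasis, zeta i = y}

theorem spanOK_spec : ∀ {l : List (ℕ × ℕ × ℕ × ℕ)} {m m' : ℕ},
    spanOK l m = some m' → (∀ i, m.testBit i = true → zeta i ∈ basisSub) →
    ∀ i, m'.testBit i = true → zeta i ∈ basisSub
  | [], m, m', h, hm, i, hi => by
    rw [spanOK_nil, Option.some.injEq] at h
    exact hm i (h ▸ hi)
  | (a, b, c, p) :: l, m, m', h, hm, i, hi => by
    simp only [spanOK] at h
    split at h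
    case isFalse => simp at h
    rename_i hc
    simp only [Bool.and_eq_true, Bool.not_eq_true', ← Bool.not_eq_true, Nat.beq_eq] at hc
    obtain ⟨⟨⟨⟨⟨ha, hb⟩, hp⟩, h1⟩, h2⟩, h3⟩ := hc
    obtain ⟨e, -⟩ := triple_prod hp h1 h2 h3
    refine spanOK_spec h (fun k hk => ?_) i hi
    rw [Nat.testBit_or, Bool.or_eq_true, Nat.testBit_two_pow, decide_eq_true_eq] at hk
    rcases hk with hk | rfl
    · exact hm k hk
    · rw [e]; exact mul_mem (hm a ha) (hm b hb)

theorem eleven_eq : eleven = basisSub := by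
  refine le_antisymm ((Subgroup.closure_le _).2 ?_) ((Subgroup.closure_le _).2 ?_)
  · rintro _ ⟨i, hi, rfl⟩
    have h : spanOK spanSteps (spanBasis.foldl (fun m i => m ||| 2 ^ i) 0) =
        some (2 ^ trioCertZ.N - 1) := by decide +kernel
    refine spanOK_spec h (fun k hk => ?_) i (by rw [Nat.testBit_two_pow_sub_one, decide_eq_true_eq]; exact hi)
    exact foldl_mask (fun i => zeta i ∈ basisSub) spanBasis 0 (by simp)
      (fun j hj => Subgroup.subset_closure ⟨j, hj, rfl⟩) k hk
  · rintro _ ⟨i, hi, rfl⟩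
    have h : ∀ i ∈ spanBasis, i < trioCertZ.N := by decide +kernel
    exact Subgroup.subset_closure ⟨i, h i hi, rfl⟩

theorem eleven_comm : ∀ x ∈ eleven, ∀ y ∈ eleven, x * y = y * x := by
  intro x hx y hy
  refine Subgroup.closure_induction₂ (p := fun a b _ _ => Commute a b) ?_ ?_ ?_ ?_ ?_ ?_ ?_ hx hy
  · rintro a b ⟨i, hi, rfl⟩ ⟨j, hj, rfl⟩; exact zeta_com hi hj
  · exact fun a _ => Commute.one_left a
  · exact fun a _ => Commute.one_right a
  · exact fun a b c _ _ _ h1 h2 => h1.mul_left h2
  · exact fun a b c _ _ _ h1 h2 => h1.mul_right h2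
  · exact fun a b _ _ h => h.inv_left
  · exact fun a b _ _ h => h.inv_right

/-- a product of some of the chosen conjugates -/
noncomputable def basisProd (v : Fin 11 → Bool) (l : List (Fin 11)) : J4 :=
  (l.map fun i => bif v i then zeta (spanBasis.getD i.val 0) else 1).prod

theorem basisProd_flip (hlt : ∀ i : Fin 11, spanBasis.getD i.val 0 < trioCertZ.N) (v : Fin 11 → Bool)
    (k : Fin 11) : ∀ l : List (Fin 11), l.Nodup →
      (k ∉ l → basisProd (Function.update v k (!v k)) l = basisProd v l) ∧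
      (k ∈ l → basisProd (Function.update v k (!v k)) l = zeta (spanBasis.getD k.val 0) * basisProd v l)
  | [], _ => ⟨fun _ => rfl, fun h => absurd h List.not_mem_nil⟩
  | a :: l, hnd => by
    rw [List.nodup_cons] at hnd
    obtain ⟨h1, h2⟩ := basisProd_flip hlt v k l hnd.2
    have e : ∀ u : Fin 11 → Bool, basisProd u (a :: l) =
        (bif u a then zeta (spanBasis.getD a.val 0) else 1) * basisProd u l := fun u => rfl
    constructor
    · intro hk
      rw [List.mem_cons, not_or] at hk
      rw [e, e, h1 hk.2, Function.update_of_ne (Ne.symm hk.1)]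
    · intro hk
      by_cases ha : k = a
      · subst ha
        rw [e, e, h1 hnd.1, Function.update_self]
        cases v k
        · simp
        · simp [← mul_assoc, zeta_sq]
      · have hk' : k ∈ l := (List.mem_cons.1 hk).resolve_left ha
        rw [e, e, h2 hk', Function.update_of_ne (Ne.symm ha), ← mul_assoc, ← mul_assoc]
        congr 1
        cases v a
        · simp
        · exact zeta_com (hlt a) (hlt k)

theorem eleven_card : Finite eleven ∧ Nat.card eleven ≤ 2 ^ 11 := by
  classical
  let f : (Fin 11 → Bool) → J4 := fun v => basisProd v (List.finRange 11)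
  have key : ∀ x ∈ basisSub, ∃ v, f v = x := by
    intro x hx
    have hlen : spanBasis.length = 11 := by decide +kernel
    have hlt : ∀ i : Fin 11, spanBasis.getD i.val 0 < trioCertZ.N := by decide +kernel
    induction hx using Subgroup.closure_induction_left with
    | one => exact ⟨fun _ => false, by simp [f, basisProd]⟩
    | mul_left a ha b _ ih =>
      obtain ⟨v, rfl⟩ := ih
      obtain ⟨i, hi, rfl⟩ := ha
      obtain ⟨k, hk, rfl⟩ := List.getElem_of_mem hi
      refine ⟨Function.update v ⟨k, hlen ▸ hk⟩ (!v ⟨k, hlen ▸ hk⟩), ?_⟩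
      show basisProd _ _ = _
      rw [((basisProd_flip hlt v _ _ (List.nodup_finRange 11)).2 (List.mem_finRange _)),
        List.getD_eq_getElem _ _ hk]
    | inv_mul_cancel a ha b _ ih =>
      obtain ⟨v, rfl⟩ := ih
      obtain ⟨i, hi, rfl⟩ := ha
      obtain ⟨k, hk, rfl⟩ := List.getElem_of_mem hi
      rw [zeta_inv]
      refine ⟨Function.update v ⟨k, hlen ▸ hk⟩ (!v ⟨k, hlen ▸ hk⟩), ?_⟩
      show basisProd _ _ = _
      rw [((basisProd_flip hlt v _ _ (List.nodup_finRange 11)).2 (List.mem_finRange _)),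
        List.getD_eq_getElem _ _ hk]
  have hs : (eleven : Set J4) ⊆ Set.range f := by
    intro x hx
    obtain ⟨v, hv⟩ := key x (eleven_eq ▸ hx)
    exact ⟨v, hv⟩
  have hfin : (eleven : Set J4).Finite := (Set.finite_range f).subset hs
  refine ⟨hfin.to_subtype, ?_⟩
  calc Nat.card eleven ≤ Nat.card (Set.range f) := Nat.card_mono (Set.finite_range f) hs
    _ ≤ Nat.card (Fin 11 → Bool) := Finite.card_range_le f
    _ = 2 ^ 11 := by simp

theorem eleven_conj {w : List ℕ} (hw : ∀ g ∈ w, g < 3) {x : J4} (hx : x ∈ eleven) :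
    (prodW jg w)⁻¹ * x * prodW jg w ∈ eleven := by
  induction hx using Subgroup.closure_induction with
  | mem y hy =>
    obtain ⟨i, hi, rfl⟩ := hy
    obtain ⟨h1, h2⟩ := zeta_conj hi hw
    exact Subgroup.subset_closure ⟨_, h1, h2.symm⟩
  | one => simp
  | mul a b _ _ ha hb => simpa [mul_assoc] using mul_mem ha hb
  | inv a _ ha => simpa [mul_assoc] using inv_mem ha

theorem zz_mem : zz ∈ eleven := Subgroup.subset_closure ⟨0, trioCertZ_complete.N_pos, zeta_zero⟩

end CfsgLib.J4Pres
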