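import Cfsg.Agent.Lib.J4Pres.M24Sub
import Cfsg.Agent.Lib.J4Pres.CheckTrioS
import Cfsg.Agent.Lib.J4Pres.CheckTrioT
import Cfsg.Agent.Lib.J4Pres.CheckTrioZ
import Cfsg.Agent.Lib.J4Pres.TrioSteps

/-!
The 3795 conjugates of t in the presented fourth Janko group, and the group of the fifteen of one sextet.
-/

set_option autoImplicit false

namespace CfsgLib.J4Pres

open Cfsg CfsgLib.CosetEnum Cfsg.Spor

/-- the letters x, y, y⁻¹ in the group -/
noncomputable def jg (g : ℕ) : J4 := toJ4 (m24Gen g)

/-- the involution t -/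
noncomputable def tt : J4 := PresentedGroup.of J4.Gen.t

theorem jg_word (w : List ℕ) : prodW jg w = toJ4 (prodW m24Gen w) := (map_prodW _ _ _).symm

theorem jg_zero : jg 0 = PresentedGroup.of J4.Gen.x := by
  show PresentedGroup.toGroup _ (PresentedGroup.of 0) = _
  rw [PresentedGroup.toGroup.of]
  rfl

theorem jg_one : jg 1 = PresentedGroup.of J4.Gen.y := by
  show PresentedGroup.toGroup _ (PresentedGroup.of 1) = _
  rw [PresentedGroup.toGroup.of]
  rfl

theorem jg_two : jg 2 = (PresentedGroup.of J4.Gen.y)⁻¹ := by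
  rw [← jg_one]
  refine eq_inv_of_mul_eq_one_right ?_
  rw [jg, jg, ← map_mul]
  have : m24Gen 1 * m24Gen 2 = 1 := m24Gen_inv_mul 1
  rw [this, map_one]

theorem jg_gen6 (g : ℕ) : g < 3 → jg g = gen6 g := by
  intro h
  interval_cases g
  · rw [jg_zero]; rfl
  · rw [jg_one]; rfl
  · rw [jg_two]; rfl

theorem gen6_three : gen6 3 = tt := rfl

theorem jg_three : jg 3 = 1 := by rw [jg, m24Gen_three, map_one]

theorem jg_model {C : Cert} (hK : C.K = 3) (hi : C.invs = [0, 2, 1])
    (hR : C.rels = m24CertG.rels ++ [m24Three, m24Kill]) {H : Subgroup J4}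
    (hs : ∀ w ∈ C.subs, prodW jg w ∈ H) : Model C H jg := by
  refine ⟨by rw [hK, jg_three], fun g => ?_, fun r hr => ?_, hs⟩
  · have e : C.inv g = m24CertG.inv g := by
      rw [Cert.inv, Cert.inv, hi, show m24CertG.invs = [0, 2, 1] from rfl]
    rw [e, jg, jg, ← map_mul, m24Gen_inv_mul, map_one]
  · rw [jg_word]
    rcases List.mem_append.1 (hR ▸ hr) with h | h
    · rw [m24Gen_model.rel r h, map_one]
    · simp only [List.mem_cons, List.not_mem_nil, or_false] at h
      rcases h with rfl | rfl
      · rw [three_eq, map_one]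
      · rw [kill_eq, map_one]

/-- a relator of the group read in the six letters -/
theorem gen6_relator {k : ℕ} (hk : k < 12) : prodW gen6 (flatRel k) = 1 := by
  have hx : ∀ k < 12, prodW J4Rep.free6 (flatRel k) ∈ J4.extra := by decide +kernel
  show prodW (fun g => PresentedGroup.mk _ (J4Rep.free6 g)) _ = 1
  rw [← map_prodW]
  exact PresentedGroup.one_of_mem (Or.inr (hx k hk))

theorem tt_sq : tt * tt = 1 := by
  have h := gen6_relator (k := 7) (by norm_num)
  rw [show flatRel 7 = [3, 3] by decide +kernel] at h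
  simpa [gen6_three] using h

theorem tt_inv : tt⁻¹ = tt := inv_eq_of_mul_eq_one_right tt_sq

theorem gen6_five : gen6 5 = tt := by
  rw [← tt_inv]; rfl

theorem gen6_four : gen6 4 = jg 0 := by
  rw [jg_gen6 0 (by norm_num), ← gen6_fold 4]
  rfl

/-- the centralizer of t -/
noncomputable def centT : Subgroup J4 := Subgroup.centralizer {tt}

theorem mem_centT {g : J4} : g ∈ centT ↔ Commute g tt := by
  rw [centT, Subgroup.mem_centralizer_singleton_iff]
  rfl

theorem gen6_map_fold : ∀ v : List ℕ, prodW gen6 (v.map fold6) = prodW gen6 v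
  | [] => rfl
  | g :: v => by rw [List.map_cons, prodW_cons, prodW_cons, gen6_map_fold v, gen6_fold]

theorem prodW_single {G : Type*} [Group G] (f : ℕ → G) (g : ℕ) : prodW f [g] = f g := by simp

theorem trioModel : Model trioCertT centT jg := by
  refine jg_model rfl rfl (by decide +kernel) ?_
  intro w hw
  have h8 := gen6_relator (k := 8) (by norm_num)
  have h9 := gen6_relator (k := 9) (by norm_num)
  have e : trioCertT.subs = [[0], [1, 0, 1, 0, 2, 0, 2, 0, 1, 0, 1, 0, 1]] := rfl
  rw [mem_centT]
  simp only [e, List.mem_cons, List.not_mem_nil, or_false] at hw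
  have key : ∀ u : J4, tt⁻¹ * u⁻¹ * tt * u = 1 → Commute u tt := fun u hu => by
    have h' : tt * u = u * tt := by
      calc tt * u = u * tt * (tt⁻¹ * u⁻¹ * tt * u) := by group
        _ = u * tt := by rw [hu, mul_one]
    exact h'.symm
  rcases hw with rfl | rfl
  · rw [show flatRel 9 = [5, 4, 3, 0] by decide +kernel] at h9
    simp only [prodW_cons, prodW_nil, mul_one, gen6_five, gen6_four, gen6_three, ← jg_gen6 0 (by norm_num)] at h9
    rw [prodW_cons, prodW_nil, mul_one]
    refine key _ ?_
    have h0 : (jg 0)⁻¹ = jg 0 := by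
      refine inv_eq_of_mul_eq_one_right ?_
      rw [jg, ← map_mul]
      have := m24Gen_inv_mul 0
      rw [show m24CertG.inv 0 = 0 from rfl] at this
      rw [this, map_one]
    rw [tt_inv, h0]
    simpa [mul_assoc] using h9
  · set q : List ℕ := [1, 0, 1, 0, 2, 0, 2, 0, 1, 0, 1, 0, 1]
    have hf : flatRel 8 = [5] ++ (flatRel 8).tail.take 13 ++ [3] ++ (flatRel 8).drop 15 := by decide +kernel
    have hq : ((flatRel 8).drop 15).map fold6 = q ∧
        ((flatRel 8).tail.take 13).map fold6 = trioCertT.revInv q ∧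
        (q.all fun g => Nat.blt g 3) = true ∧ ((trioCertT.revInv q).all fun g => Nat.blt g 3) = true := by
      decide +kernel
    have conv : ∀ v : List ℕ, ∀ v' : List ℕ, v.map fold6 = v' → (v'.all fun g => Nat.blt g 3) = true →
        prodW gen6 v = prodW jg v' := by
      intro v v' hv hlt
      simp only [List.all_eq_true, Nat.blt_eq] at hlt
      rw [prodW_congr (gen := jg) (gen' := gen6) fun g hg => jg_gen6 g (hlt g hg), ← hv]
      exact (gen6_map_fold v).symm
    refine key _ ?_
    rw [hf, prodW_append, prodW_append, prodW_append, conv _ _ hq.1 hq.2.2.1, conv _ _ hq.2.1 hq.2.2.2] at h8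
    have hm : Model trioCertT (⊤ : Subgroup J4) jg := jg_model rfl rfl (by decide +kernel) (fun _ _ => trivial)
    rw [hm.revInv_eq] at h8
    simpa [gen6_five, gen6_three, tt_inv, mul_assoc] using h8

/-- the conjugate of t of a coset -/
noncomputable def tau (i : ℕ) : J4 := (coreRep trioCertT jg i)⁻¹ * tt * coreRep trioCertT jg i

theorem tau_zero : tau 0 = tt := by
  simp [tau, coreRep, trioCertT_complete.nd_zero, psi_zero]

theorem tau_sq (i : ℕ) : tau i * tau i = 1 := by
  have e : tau i * tau i = (coreRep trioCertT jg i)⁻¹ * (tt * tt) * coreRep trioCertT jg i := by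
    simp only [tau]; group
  rw [e, tt_sq]; group

theorem tau_conj {i : ℕ} (hi : i < trioCertT.N) {w : List ℕ} (hw : ∀ g ∈ w, g < 3) :
    trioCertT.run i w < trioCertT.N ∧
      (prodW jg w)⁻¹ * tau i * prodW jg w = tau (trioCertT.run i w) := by
  obtain ⟨h1, h2⟩ := coreRep_run trioCertT_complete trioModel w i hi hw
  refine ⟨h1, ?_⟩
  rw [mem_centT] at h2
  simp only [tau]
  set a := coreRep trioCertT jg i
  set b := coreRep trioCertT jg (trioCertT.run i w)
  set u := prodW jg w
  have h3 : a * u * b⁻¹ * tt = tt * (a * u * b⁻¹) := h2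
  calc u⁻¹ * (a⁻¹ * tt * a) * u = u⁻¹ * a⁻¹ * (tt * (a * u * b⁻¹)) * b := by group
    _ = u⁻¹ * a⁻¹ * (a * u * b⁻¹ * tt) * b := by rw [h3]
    _ = b⁻¹ * tt * b := by group

/-- unpack a word -/
def upW : ℕ → ℕ → List ℕ
  | 0, _ => []
  | f + 1, n => if n ≤ 1 then [] else n % 4 :: upW f (n / 4)

theorem upW_zero (n : ℕ) : upW 0 n = [] := by simp only [upW]

/-- a word below the alphabet bound -/
def okW (w : List ℕ) : Bool := w.all fun g => Nat.blt g 3

theorem okW_lt {w : List ℕ} (h : okW w = true) : ∀ g ∈ w, g < 3 := by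
  simpa [okW, List.all_eq_true] using h

theorem prodW_conj {G : Type*} [Group G] (f f' : ℕ → G) (u : G) :
    ∀ {w : List ℕ}, (∀ g ∈ w, u⁻¹ * f g * u = f' g) → u⁻¹ * prodW f w * u = prodW f' w
  | [], _ => by simp
  | g :: w, h => by
    rw [List.forall_mem_cons] at h
    rw [prodW_cons, prodW_cons, ← h.1, ← prodW_conj f f' u h.2]
    group

theorem base_line : prodW tau lineBase = 1 := by
  have h := gen6_relator (k := 10) (by norm_num)
  set a : List ℕ := [1, 0, 2, 0, 1, 0, 2, 0]
  have hsplit : (flatRel 10).map fold6 =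
      [1] ++ trioCertT.revInv a ++ [3] ++ a ++ [1] ++ trioCertT.revInv a ++ [3] ++ a ++ [1] ++
        trioCertT.revInv a ++ [3] ++ a := by decide +kernel
  have e : prodW gen6 ((flatRel 10).map fold6) = 1 := (gen6_map_fold _).trans h
  have hm : Model trioCertT (⊤ : Subgroup J4) jg := jg_model rfl rfl (by decide +kernel) (fun _ _ => trivial)
  have conv : ∀ v : List ℕ, okW v = true → prodW gen6 v = prodW jg v := fun v hv =>
    prodW_congr fun g hg => (jg_gen6 g (okW_lt hv g hg)).symm
  rw [hsplit] at e
  simp only [prodW_append] at e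
  rw [conv a (by decide +kernel), conv (trioCertT.revInv a) (by decide +kernel), hm.revInv_eq,
    conv [1] (by decide +kernel), prodW_single, prodW_single, gen6_three] at e
  obtain ⟨ha, hc⟩ := tau_conj (i := 0) trioCertT_complete.N_pos (okW_lt (w := a) (by decide +kernel))
  rw [tau_zero] at hc
  obtain ⟨hb, hc1⟩ := tau_conj ha (okW_lt (w := [1]) (by decide +kernel))
  obtain ⟨-, hc2⟩ := tau_conj hb (okW_lt (w := [1]) (by decide +kernel))
  have hl : lineBase = [trioCertT.run (trioCertT.run (trioCertT.run 0 a) [1]) [1],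
      trioCertT.run (trioCertT.run 0 a) [1], trioCertT.run 0 a] := by decide +kernel
  rw [hl]
  rw [prodW_cons, prodW_cons, prodW_single, ← hc2, ← hc1, ← hc, prodW_single]
  have hy3 : jg 1 * jg 1 * jg 1 = 1 := by
    have := m24Gen_model.rel (powWord [1] 3) (by decide +kernel)
    rw [prodW_powWord, prodW_cons, prodW_nil, mul_one] at this
    rw [jg, ← map_mul, ← map_mul, ← pow_three', this, map_one]
  set y := jg 1
  set A := (prodW jg a)⁻¹ * tt * prodW jg a
  calc y⁻¹ * (y⁻¹ * A * y) * y * (y⁻¹ * A * y * A)
      = (y * y * y)⁻¹ * (y * A * y * A * y * A) := by group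
    _ = 1 := by rw [hy3]; simp only [A, mul_assoc] at e ⊢; simp [e]

/-- the letters of the group of fifteen -/
noncomputable def sg (j : ℕ) : J4 := if j < 15 then tau (sextTrios.getD j 0) else 1

theorem sg_of_lt {j : ℕ} (h : j < 15) : sg j = tau (sextTrios.getD j 0) := if_pos h

theorem sextTrios_lt : sextTrios.length = 15 ∧ ∀ i ∈ sextTrios, i < trioCertT.N := by decide +kernel

theorem sextModel : Model trioCertS (⊥ : Subgroup J4) sg := by
  refine ⟨by simp [sg, show trioCertS.K = 15 from rfl], fun g => ?_, fun r hr => ?_,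
    fun w hw => by simp [show trioCertS.subs = [] from rfl] at hw⟩
  · by_cases hg : g < 15
    · have : trioCertS.inv g = g := by
        have h : ∀ g < 15, trioCertS.inv g = g := by decide +kernel
        exact h g hg
      rw [this, sg_of_lt hg]; exact tau_sq _
    · have : trioCertS.inv g = g := by
        rw [Cert.inv, List.getD_eq_default _ _ (by rw [show trioCertS.invs.length = 15 by decide +kernel]; omega)]
      simp [this, sg, hg]
  · have hR : (trioCertS.rels.all fun r =>
        (r.all fun g => Nat.blt g 15) && ((List.range 15).any fun i => r == [i, i]) ||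
        (r.all fun g => Nat.blt g 15) && lineWords.any fun p => okW (upW 64 p) &&
          r.map (fun i => sextTrios.getD i 0) == lineBase.map fun i => trioCertT.run i (upW 64 p)) = true := by
      decide +kernel
    have h := List.all_eq_true.1 hR r hr
    simp only [Bool.or_eq_true, Bool.and_eq_true, List.any_eq_true, List.mem_range, beq_iff_eq,
      List.all_eq_true, Nat.blt_eq] at h
    rcases h with ⟨-, i, hi, rfl⟩ | ⟨hlt, p, -, hp, hmap⟩
    · simp [sg_of_lt hi, tau_sq]
    · have e : prodW sg r = prodW tau (r.map fun i => sextTrios.getD i 0) := by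
        rw [prodW, prodW, List.map_map]
        exact congrArg List.prod (List.map_congr_left fun i hi => sg_of_lt (hlt i hi))
      have hl : ∀ i ∈ lineBase, i < trioCertT.N := by decide +kernel
      rw [e, hmap, prodW, List.map_map]
      show prodW (fun i => tau (trioCertT.run i (upW 64 p))) lineBase = 1
      rw [← prodW_conj tau _ (prodW jg (upW 64 p)) fun i hi => (tau_conj (hl i hi) (okW_lt hp)).2,
        base_line]
      group

/-- two words in the fifteen with the same endpoint -/
noncomputable def sameS (a b : List ℕ) : Bool :=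
  (a.all fun g => Nat.blt g 15) && (b.all fun g => Nat.blt g 15) &&
    Nat.beq (trioCertS.run 0 a) (trioCertS.run 0 b)

theorem sg_same {a b : List ℕ} (h : sameS a b = true) : prodW sg a = prodW sg b := by
  simp only [sameS, Bool.and_eq_true, List.all_eq_true, Nat.blt_eq] at h
  have key : ∀ w : List ℕ, (∀ g ∈ w, g < 15) → prodW sg w = coreRep trioCertS sg (trioCertS.run 0 w) := by
    intro w hw
    have := (coreRep_run trioCertS_complete sextModel w 0 trioCertS_complete.N_pos hw).2
    rw [Subgroup.mem_bot, coreRep, trioCertS_complete.nd_zero, psi_zero, one_mul, mul_inv_eq_one] at this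
    exact this
  rw [key a h.1.1, key b h.1.2, Nat.eq_of_beq_eq_true h.2]

/-- the image of a word in the fifteen -/
noncomputable def sImg (g : List ℕ) (a : List ℕ) : List ℕ := a.map fun i => trioCertT.run (sextTrios.getD i 0) g

theorem sImg_spec {g a : List ℕ} (hg : okW g = true) (ha : ∀ i ∈ a, i < 15) :
    prodW tau (sImg g a) = (prodW jg g)⁻¹ * prodW sg a * prodW jg g := by
  rw [prodW_conj sg (fun i => tau (trioCertT.run (sextTrios.getD i 0) g))]
  · simp [sImg, prodW, List.map_map, Function.comp_def]
  · intro i hi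
    have h := ha i hi
    rw [sg_of_lt h]
    refine (tau_conj ?_ (okW_lt hg)).2
    rw [List.getD_eq_getElem _ _ (by rw [sextTrios_lt.1]; exact h)]
    exact sextTrios_lt.2 _ (List.getElem_mem _)

theorem sImg_same {g a b : List ℕ} (hg : okW g = true) (h : sameS a b = true) :
    prodW tau (sImg g a) = prodW tau (sImg g b) := by
  have h' := h
  simp only [sameS, Bool.and_eq_true, List.all_eq_true, Nat.blt_eq] at h'
  rw [sImg_spec hg h'.1.1, sImg_spec hg h'.1.2, sg_same h]

end CfsgLib.J4Pres
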