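import Cfsg.Agent.Lib.J4Pres.TrioGroup

/-!
Rewriting products of the 3795 involutions: the relation between three conjugates of z.
-/

set_option autoImplicit false

namespace CfsgLib.J4Pres

open Cfsg CfsgLib.CosetEnum Cfsg.Spor

theorem rule_base : prodW tau [0, ruleB] =
    prodW jg (trioCertT.revInv ruleM ++ trioCertT.revInv ruleM) * prodW tau [ruleD, 0] := by
  have h := gen6_relator (k := 11) (by norm_num)
  have hsplit : (flatRel 11).map fold6 =
      ruleM ++ [3] ++ trioCertT.revInv ruleDW ++ [3] ++ ruleDW ++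
        ruleM ++ [3] ++ trioCertT.revInv ruleDW ++ [3] ++ ruleDW := by decide +kernel
  have e := (gen6_map_fold (flatRel 11)).trans h
  have hm : Model trioCertT (⊤ : Subgroup J4) jg := jg_model rfl rfl (by decide +kernel) (fun _ _ => trivial)
  have conv : ∀ v : List ℕ, okW v = true → prodW gen6 v = prodW jg v := fun v hv =>
    prodW_congr fun g hg => (jg_gen6 g (okW_lt hv g hg)).symm
  rw [hsplit] at e
  simp only [prodW_append] at e
  rw [conv ruleM (by decide +kernel), conv ruleDW (by decide +kernel),
    conv (trioCertT.revInv ruleDW) (by decide +kernel), hm.revInv_eq, prodW_single, gen6_three] at e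
  have hM : okW ruleM = true ∧ okW ruleDW = true ∧ trioCertT.run 0 ruleM = 0 ∧
      trioCertT.run 0 ruleDW = ruleD ∧ trioCertT.run ruleD ruleM = ruleB := by decide +kernel
  obtain ⟨-, hc⟩ := tau_conj (i := 0) trioCertT_complete.N_pos (okW_lt hM.1)
  rw [tau_zero, hM.2.2.1, tau_zero] at hc
  obtain ⟨hd, hcd⟩ := tau_conj (i := 0) trioCertT_complete.N_pos (okW_lt hM.2.1)
  rw [tau_zero, hM.2.2.2.1] at hcd
  rw [hM.2.2.2.1] at hd
  obtain ⟨-, hcb⟩ := tau_conj hd (okW_lt hM.1)
  rw [hM.2.2.2.2] at hcb
  rw [prodW_append, hm.revInv_eq]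
  simp only [prodW_cons, prodW_nil, mul_one, tau_zero, ← hcb]
  set m := prodW jg ruleM
  set T := tau ruleD
  have hT : T * T = 1 := tau_sq ruleD
  have e' : m * tt * T * (m * tt * T) = 1 := by
    have : m * tt * T * (m * tt * T) = m * tt * ((prodW jg ruleDW)⁻¹ * tt * prodW jg ruleDW) *
        (m * tt * ((prodW jg ruleDW)⁻¹ * tt * prodW jg ruleDW)) := by rw [hcd]
    rw [this, ← e]
    group
  have hmt : tt * m = m * tt := by
    calc tt * m = m * (m⁻¹ * tt * m) := by group
      _ = m * tt := by rw [hc]
  have hTi : T⁻¹ = T := inv_eq_of_mul_eq_one_right hT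
  have e1 : tt * T * m = m⁻¹ * (T⁻¹ * tt⁻¹) := by
    calc tt * T * m = m⁻¹ * (m * tt * T * (m * tt * T)) * (T⁻¹ * tt⁻¹) := by group
      _ = _ := by rw [e', mul_one]
  have e2 : tt * (m⁻¹ * T * m) = m⁻¹ * (tt * T * m) := by
    calc tt * (m⁻¹ * T * m) = (tt * m⁻¹) * (T * m) := by group
      _ = (m⁻¹ * tt) * (T * m) := by
        rw [show tt * m⁻¹ = m⁻¹ * tt by
          calc tt * m⁻¹ = m⁻¹ * (m * tt) * m⁻¹ := by group
            _ = m⁻¹ * tt := by rw [← hmt]; group]
      _ = _ := by group
  have e3 : tt * (m⁻¹ * T * m) = m⁻¹ * m⁻¹ * (T * tt) := by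
    rw [e2, e1, hTi, tt_inv]; group
  exact e3

/-- the translation of a rule move -/
def rulePi (g : List ℕ) : List ℕ :=
  trioCertT.revInv g ++ trioCertT.revInv ruleM ++ trioCertT.revInv ruleM ++ g

/-- a move inside a sextet -/
noncomputable def moveLoc (i : ℕ) (g a b : List ℕ) (s : List ℕ × List ℕ) : Option (List ℕ × List ℕ) :=
  if okW g && sameS a b && (s.2.drop i).take a.length == sImg g a then
    some (s.1, s.2.take i ++ sImg g b ++ (s.2.drop i).drop a.length)
  else none

/-- a move by the rule -/
noncomputable def moveRule (i : ℕ) (g : List ℕ) (s : List ℕ × List ℕ) : Option (List ℕ × List ℕ) :=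
  if okW g && okW (rulePi g) &&
      (s.2.drop i).take 2 == [trioCertT.run 0 g, trioCertT.run ruleB g] then
    some (s.1 ++ rulePi g, ((s.2.take i).map fun k => trioCertT.run k (rulePi g)) ++
      [trioCertT.run ruleD g, trioCertT.run 0 g] ++ (s.2.drop i).drop 2)
  else none

/-- apply a move to a state -/
noncomputable def moveTo (mv : ℕ × Bool × ℕ × List ℕ × List ℕ) (s : List ℕ × List ℕ) :
    Option (List ℕ × List ℕ) :=
  bif mv.2.1 then moveRule mv.1 (upW 256 mv.2.2.1) s
  else moveLoc mv.1 (upW 256 mv.2.2.1) mv.2.2.2.1 mv.2.2.2.2 s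

/-- apply moves -/
noncomputable def runMoves : List (ℕ × Bool × ℕ × List ℕ × List ℕ) → List ℕ × List ℕ → Option (List ℕ × List ℕ)
  | [], s => some s
  | mv :: l, s => (moveTo mv s).bind (runMoves l)

theorem runMoves_nil (s : List ℕ × List ℕ) : runMoves [] s = some s := by simp only [runMoves]

/-- the value of a state -/
noncomputable def stVal (s : List ℕ × List ℕ) : J4 := prodW jg s.1 * prodW tau s.2

theorem loc_spec {i : ℕ} {g a b : List ℕ} {s s' : List ℕ × List ℕ}
    (hs : ∀ k ∈ s.2, k < trioCertT.N) (h : moveLoc i g a b s = some s') :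
    stVal s' = stVal s ∧ ∀ k ∈ s'.2, k < trioCertT.N := by
  obtain ⟨π0, w⟩ := s
  unfold moveLoc at h
  split at h
  case isFalse => simp at h
  rename_i hc
  simp only [Bool.and_eq_true, beq_iff_eq] at hc
  obtain ⟨⟨hg, hab⟩, hseg⟩ := hc
  rw [Option.some.injEq] at h
  subst h
  have hw : w = w.take i ++ (sImg g a ++ (w.drop i).drop a.length) := by
    rw [← hseg, List.take_append_drop, List.take_append_drop]
  have hab' := hab
  simp only [sameS, Bool.and_eq_true, List.all_eq_true, Nat.blt_eq] at hab'
  refine ⟨?_, ?_⟩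
  · conv_rhs => rw [stVal, hw]
    simp only [stVal, prodW_append, sImg_same hg hab, mul_assoc]
  · intro k hk
    simp only [List.mem_append] at hk
    rcases hk with (hk | hk) | hk
    · exact hs k (List.mem_of_mem_take hk)
    · obtain ⟨j, hj, rfl⟩ := List.mem_map.1 hk
      refine (tau_conj ?_ (okW_lt hg)).1
      rw [List.getD_eq_getElem _ _ (by rw [sextTrios_lt.1]; exact hab'.1.2 j hj)]
      exact sextTrios_lt.2 _ (List.getElem_mem _)
    · exact hs k (List.mem_of_mem_drop (List.mem_of_mem_drop hk))

theorem rule_spec {i : ℕ} {g : List ℕ} {s s' : List ℕ × List ℕ}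
    (hs : ∀ k ∈ s.2, k < trioCertT.N) (h : moveRule i g s = some s') :
    stVal s' = stVal s ∧ ∀ k ∈ s'.2, k < trioCertT.N := by
  obtain ⟨π0, w⟩ := s
  unfold moveRule at h
  split at h
  case isFalse => simp at h
  rename_i hc
  simp only [Bool.and_eq_true, beq_iff_eq] at hc
  obtain ⟨⟨hg, hπ⟩, hseg⟩ := hc
  rw [Option.some.injEq] at h
  subst h
  have hw : w = w.take i ++ ([trioCertT.run 0 g, trioCertT.run ruleB g] ++ (w.drop i).drop 2) := by
    rw [← hseg, List.take_append_drop, List.take_append_drop]
  have hP : ∀ k ∈ w.take i, k < trioCertT.N := fun k hk => hs k (List.mem_of_mem_take hk)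
  have hN : ruleB < trioCertT.N ∧ ruleD < trioCertT.N := by decide +kernel
  obtain ⟨b0, c0⟩ := tau_conj (i := 0) trioCertT_complete.N_pos (okW_lt hg)
  obtain ⟨-, cB⟩ := tau_conj hN.1 (okW_lt hg)
  obtain ⟨bD, cD⟩ := tau_conj hN.2 (okW_lt hg)
  refine ⟨?_, ?_⟩
  · conv_rhs => rw [stVal, hw]
    have hrule : prodW tau [trioCertT.run 0 g, trioCertT.run ruleB g] =
        prodW jg (rulePi g) * prodW tau [trioCertT.run ruleD g, trioCertT.run 0 g] := by
      have hm : Model trioCertT (⊤ : Subgroup J4) jg :=
        jg_model rfl rfl (by decide +kernel) (fun _ _ => trivial)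
      have hb := rule_base
      rw [prodW_append] at hb
      simp only [prodW_cons, prodW_nil, mul_one] at hb
      simp only [rulePi, prodW_append, prodW_cons, prodW_nil, mul_one, hm.revInv_eq, ← c0, ← cB, ← cD] at hb ⊢
      calc _ = (prodW jg g)⁻¹ * (tau 0 * tau ruleB) * prodW jg g := by group
        _ = _ := by rw [hb]; group
    have hpre : prodW tau (w.take i) * prodW jg (rulePi g) =
        prodW jg (rulePi g) * prodW tau ((w.take i).map fun k => trioCertT.run k (rulePi g)) := by
      have e : prodW tau ((w.take i).map fun k => trioCertT.run k (rulePi g)) =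
          prodW (fun k => tau (trioCertT.run k (rulePi g))) (w.take i) := by
        simp [prodW, List.map_map, Function.comp_def]
      rw [e, ← prodW_conj tau _ (prodW jg (rulePi g)) fun k hk => (tau_conj (hP k hk) (okW_lt hπ)).2]
      group
    simp only [stVal, prodW_append, hrule]
    simp only [← mul_assoc]
    rw [mul_assoc (prodW jg π0) (prodW tau (w.take i)) (prodW jg (rulePi g)), hpre]
    simp only [mul_assoc]
  · intro k hk
    simp only [List.mem_append, List.mem_cons, List.not_mem_nil, or_false] at hk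
    rcases hk with (hk | rfl | rfl) | hk
    · obtain ⟨j, hj, rfl⟩ := List.mem_map.1 hk
      exact (tau_conj (hP j hj) (okW_lt hπ)).1
    · exact bD
    · exact b0
    · exact hs k (List.mem_of_mem_drop (List.mem_of_mem_drop hk))

theorem move_spec {mv : ℕ × Bool × ℕ × List ℕ × List ℕ} {s s' : List ℕ × List ℕ}
    (hs : ∀ k ∈ s.2, k < trioCertT.N) (h : moveTo mv s = some s') :
    stVal s' = stVal s ∧ ∀ k ∈ s'.2, k < trioCertT.N := by
  unfold moveTo at h
  cases hr : mv.2.1
  · rw [hr, cond_false] at h
    exact loc_spec hs h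
  · rw [hr, cond_true] at h
    exact rule_spec hs h

theorem runMoves_spec : ∀ {l : List (ℕ × Bool × ℕ × List ℕ × List ℕ)} {s s' : List ℕ × List ℕ},
    (∀ k ∈ s.2, k < trioCertT.N) → runMoves l s = some s' → stVal s' = stVal s
  | [], s, s', _, h => by
    rw [runMoves_nil, Option.some.injEq] at h
    rw [h]
  | mv :: l, s, s', hs, h => by
    simp only [runMoves, Option.bind_eq_some_iff] at h
    obtain ⟨s1, h1, h2⟩ := h
    obtain ⟨e, hs1⟩ := move_spec hs h1
    rw [runMoves_spec hs1 h2, e]

/-- both chains end in the same trios and in words with the same permutation -/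
noncomputable def chainsOK : Bool :=
  match runMoves movesA ([], startA), runMoves movesB ([], startB) with
  | some a, some b => okW a.1 && okW b.1 && a.2 == b.2 && imgW a.1 == imgW b.1
  | _, _ => false

theorem jg_eq_of_img {u v : List ℕ} (hu : okW u = true) (hv : okW v = true) (h : imgW u = imgW v) :
    prodW jg u = prodW jg v := by
  rw [jg_word, jg_word]
  congr 1
  refine m24Hom_injective ?_
  rw [m24Hom_word hu, m24Hom_word hv, h]

theorem starts_eq : prodW tau startA = prodW tau startB := by
  have h : chainsOK = true := by decide +kernel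
  have hA : ∀ k ∈ startA, k < trioCertT.N := by decide +kernel
  have hB : ∀ k ∈ startB, k < trioCertT.N := by decide +kernel
  unfold chainsOK at h
  split at h
  case h_2 => simp at h
  rename_i a b ha hb
  simp only [Bool.and_eq_true, beq_iff_eq] at h
  have ea := runMoves_spec (s := ([], startA)) hA ha
  have eb := runMoves_spec (s := ([], startB)) hB hb
  have e : stVal a = stVal b := by
    rw [stVal, stVal, h.1.2, jg_eq_of_img h.1.1.1 h.1.1.2 h.2]
  rw [ea, eb] at e
  simpa [stVal] using e

end CfsgLib.J4Pres
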