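import Cfsg.Agent.Lib.J4Pres.Coord
import Cfsg.Agent.Lib.J4Pres.RepLetters
import Cfsg.Agent.Lib.J4Pres.Simple
import Cfsg.Agent.Lib.J4Pres.Realise
import Cfsg.Agent.Lib.J4Pres.FixPairData

/-!
The representation on vectors: the stabiliser of the fixed vector, and matrices for the elements
of the subgroup of x, y and z.
-/

set_option autoImplicit false
set_option Elab.async false

namespace CfsgLib.J4Pres

open Cfsg CfsgLib.CosetEnum CfsgLib.Fi22Mult CfsgLib.J4Rep Cfsg.Spor

open Matrix (vecMul vecMul_vecMul vecMul_one)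

/-- a mask as a row vector -/
def vr (x : ℕ) : Fin 112 → ZMod 2 := fun j => bitV x j.val

theorem vr_xor (x y : ℕ) : vr (x ^^^ y) = vr x + vr y := funext fun j => bitV_xor x y j.val

theorem vr_vecMul (x : ℕ) {A : List ℕ} (hA : A.length = 112) :
    vecMul (vr x) (toMat 112 A) = vr (vmul x A) := by
  funext j
  show ∑ i : Fin 112, bitV x i.val * bitV (A.getD i.val 0) j.val = bitV (vmul x A) j.val
  rw [bitV_vmul, hA]
  exact Fin.sum_univ_eq_sum_range (fun i => bitV x i * bitV (A.getD i 0) j.val) 112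

/-- the action on a row vector -/
noncomputable def actV (x : Fin 112 → ZMod 2) (g : J4) : Fin 112 → ZMod 2 :=
  vecMul x (rho g : U112).val

theorem actV_mul (x : Fin 112 → ZMod 2) (g h : J4) : actV x (g * h) = actV (actV x g) h := by
  rw [actV, actV, actV, map_mul, Units.val_mul, vecMul_vecMul]

theorem actV_one (x : Fin 112 → ZMod 2) : actV x 1 = x := by
  rw [actV, map_one, Units.val_one, vecMul_one]

theorem actV_add (x y : Fin 112 → ZMod 2) (g : J4) : actV (x + y) g = actV x g + actV y g :=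
  Matrix.add_vecMul _ _ _

theorem actV_mat {g : J4} {A : List ℕ} (hA : A.length = 112) (hv : (rho g : U112).val = toMat 112 A)
    (x : ℕ) : actV (vr x) g = vr (vmul x A) := by
  rw [actV, hv, vr_vecMul x hA]

/-- the stabiliser of the fixed vector -/
def stabH : Subgroup J4 where
  carrier := {g | actV (vr vecH) g = vr vecH}
  one_mem' := actV_one _
  mul_mem' {a b} ha hb := by
    show actV (vr vecH) (a * b) = _
    rw [actV_mul, ha, hb]
  inv_mem' {a} ha := by
    show actV (vr vecH) a⁻¹ = _
    conv_lhs => rw [← show actV (vr vecH) a = vr vecH from ha]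
    rw [← actV_mul, mul_inv_cancel, actV_one]

/-- the vector data -/
noncomputable def vecOK : Bool :=
  Nat.beq (vmul vecH (mat5 0)) vecH && Nat.beq (vmul vecH (mat5 1)) vecH &&
    Nat.beq (vmul vecH (mat5 3)) vecH && Nat.beq (vmul vecH (mat5 4)) vecT &&
    Nat.beq (vmul vecT (mat5 4)) vecH &&
    ((List.range 112).any fun j => vecH.testBit j != vecT.testBit j) &&
    ((List.range 112).any fun j => vecH.testBit j)

theorem vecOK_ok : vecOK = true := by decide +kernel

theorem act_letter {g x y : ℕ} (h : Nat.beq (vmul x (mat5 g)) y = true) : actV (vr x) (j5 g) = vr y := by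
  obtain ⟨h1, h2⟩ := rho_j5 g
  rw [actV_mat h1 h2, Nat.eq_of_beq_eq_true h]

theorem act_tt : actV (vr vecH) tt = vr vecT ∧ actV (vr vecT) tt = vr vecH := by
  have h := vecOK_ok
  simp only [vecOK, Bool.and_eq_true] at h
  obtain ⟨⟨⟨⟨-, h4⟩, h5⟩, -⟩, -⟩ := h
  exact ⟨j5_four ▸ act_letter h4, j5_four ▸ act_letter h5⟩

theorem vec_ne : vr vecH ≠ vr vecT ∧ vr vecH ≠ 0 := by
  have h := vecOK_ok
  simp only [vecOK, Bool.and_eq_true, List.any_eq_true, List.mem_range, bne_iff_ne, ne_eq] at h
  obtain ⟨⟨-, j, hj, h6⟩, k, hk, h7⟩ := h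
  refine ⟨fun e => h6 ?_, fun e => ?_⟩
  · have := congrFun e ⟨j, hj⟩
    simp only [vr, bitV] at this
    cases ha : vecH.testBit j <;> cases hb : vecT.testBit j <;>
      first | rfl | (rw [ha, hb] at this; simp at this)
  · have := congrFun e ⟨k, hk⟩
    simp [vr, bitV, h7] at this

theorem stabH_eq : stabH = subXYZ := by
  have h := vecOK_ok
  simp only [vecOK, Bool.and_eq_true] at h
  obtain ⟨⟨⟨⟨⟨⟨h0, h1⟩, h3⟩, -⟩, -⟩, -⟩, -⟩ := h
  have hle : subXYZ ≤ stabH := by
    rw [subXYZ, Subgroup.closure_le]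
    rintro g (rfl | rfl | rfl)
    · exact (show j5 0 = jg 0 from if_pos (by norm_num)) ▸ act_letter h0
    · exact (show j5 1 = jg 1 from if_pos (by norm_num)) ▸ act_letter h1
    · exact j5_three ▸ act_letter h3
  refine (XYZ_maximal stabH hle).resolve_right fun ht => vec_ne.1 ?_
  have : tt ∈ stabH := ht ▸ Subgroup.mem_top _
  exact this.symm.trans act_tt.1

/-- the matrix of an element of the elementary abelian subgroup -/
noncomputable def vMat (v : ℕ) : List ℕ :=
  ((List.range 11).filter fun i => v.testBit i).foldr (fun i M => mulB (eMats.getD i []) M) (oneB 112)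

/-- a word for an element of the elementary abelian subgroup -/
def pathWord (i : ℕ) : List ℕ :=
  let w := eWords.getD i []
  w.drop (w.length / 2 + 1)

/-- the words give the basis -/
noncomputable def eWordsOK : Bool :=
  (List.range 11).all fun i => (pathWord i).all (fun g => Nat.blt g 3) &&
    eWords.getD i [] == trioCertZ.revInv (pathWord i) ++ [3] ++ pathWord i &&
    (trioCertZ.revInv (pathWord i)).all (fun g => Nat.blt g 3) &&
    Nat.beq (trioCertZ.run 0 (pathWord i)) (spanBasis.getD i 0)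

theorem eWordsOK_ok : eWordsOK = true := by decide +kernel

theorem eMat0_ok : eqB (mat5W eWord0) eMat0 = true := by decide +kernel
theorem eMat1_ok : eqB (mat5W eWord1) eMat1 = true := by decide +kernel
theorem eMat2_ok : eqB (mat5W eWord2) eMat2 = true := by decide +kernel
theorem eMat3_ok : eqB (mat5W eWord3) eMat3 = true := by decide +kernel
theorem eMat4_ok : eqB (mat5W eWord4) eMat4 = true := by decide +kernel
theorem eMat5_ok : eqB (mat5W eWord5) eMat5 = true := by decide +kernel
theorem eMat6_ok : eqB (mat5W eWord6) eMat6 = true := by decide +kernel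
theorem eMat7_ok : eqB (mat5W eWord7) eMat7 = true := by decide +kernel
theorem eMat8_ok : eqB (mat5W eWord8) eMat8 = true := by decide +kernel
theorem eMat9_ok : eqB (mat5W eWord9) eMat9 = true := by decide +kernel
theorem eMat10_ok : eqB (mat5W eWord10) eMat10 = true := by decide +kernel

theorem eMat_spec (i : ℕ) (hi : i < 11) : (eMats.getD i []).length = 112 ∧
    (rho (elemOf (2 ^ i)) : U112).val = toMat 112 (eMats.getD i []) := by
  have h : eqB (mat5W (eWords.getD i [])) (eMats.getD i []) = true := by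
    interval_cases i
    exacts [eMat0_ok, eMat1_ok, eMat2_ok, eMat3_ok, eMat4_ok, eMat5_ok, eMat6_ok, eMat7_ok, eMat8_ok,
      eMat9_ok, eMat10_ok]
  obtain ⟨h1, h2⟩ := mat5W_spec (eWords.getD i [])
  rw [eqB_eq h] at h1 h2
  refine ⟨h1, ?_⟩
  have hok := eWordsOK_ok
  simp only [eWordsOK, Bool.and_eq_true, List.all_eq_true, List.mem_range, beq_iff_eq, Nat.blt_eq] at hok
  obtain ⟨⟨⟨hw, he⟩, hr⟩, hrun⟩ := hok i hi
  rw [← h2]
  refine congrArg (fun g => (rho g : U112).val) ?_
  obtain ⟨-, hz⟩ := zeta_conj trioCertZ_complete.N_pos hw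
  rw [Nat.eq_of_beq_eq_true hrun, zeta_zero] at hz
  have he' : elemOf (2 ^ i) = zeta (spanBasis.getD i 0) := elemOf_pow ⟨i, hi⟩
  rw [he', ← hz, he, prodW_append, prodW_append, prodW_single, j5_three]
  have conv : ∀ l : List ℕ, (∀ g ∈ l, g < 3) → prodW j5 l = prodW jg l := fun l hl =>
    prodW_congr fun g hg => if_pos (hl g hg)
  rw [conv _ hr, conv _ hw, zModel.revInv_eq]

/-- folding the basis over a list -/
theorem vMat_list : ∀ l : List ℕ, (∀ i ∈ l, i < 11) →
    (l.foldr (fun i M => mulB (eMats.getD i []) M) (oneB 112)).length = 112 ∧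
      (rho (elemOf (l.foldr (fun i a => 2 ^ i ^^^ a) 0)) : U112).val =
        toMat 112 (l.foldr (fun i M => mulB (eMats.getD i []) M) (oneB 112))
  | [], _ => ⟨oneB_length _, by simp [elemOf_zero, toMat_oneB]⟩
  | i :: l, h => by
    rw [List.forall_mem_cons] at h
    obtain ⟨h1, h2⟩ := vMat_list l h.2
    obtain ⟨h3, h4⟩ := eMat_spec i h.1
    refine ⟨by rw [List.foldr_cons, mulB_length, h3], ?_⟩
    rw [List.foldr_cons, List.foldr_cons, elemOf_xor, map_mul, Units.val_mul, h4, h2, toMat_mulB h3 h1]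

/-- an element of the subgroup given by coordinates -/
noncomputable def elH (p : ℕ × List ℕ) : J4 := elemOf p.1 * prodW jg p.2

/-- its matrix -/
noncomputable def hMat (p : ℕ × List ℕ) : List ℕ := mulB (vMat p.1) (mat5W p.2)

/-- the coordinates are well formed -/
noncomputable def wfPair (p : ℕ × List ℕ) : Bool :=
  Nat.blt p.1 2048 && p.2.all (fun g => Nat.blt g 3) &&
    Nat.beq (((List.range 11).filter fun i => p.1.testBit i).foldr (fun i a => 2 ^ i ^^^ a) 0) p.1

theorem hMat_spec {p : ℕ × List ℕ} (h : wfPair p = true) :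
    (hMat p).length = 112 ∧ (rho (elH p) : U112).val = toMat 112 (hMat p) := by
  simp only [wfPair, Bool.and_eq_true, List.all_eq_true, Nat.blt_eq] at h
  obtain ⟨⟨-, hw⟩, hv⟩ := h
  obtain ⟨h1, h2⟩ := vMat_list ((List.range 11).filter fun i => p.1.testBit i)
    fun i hi => List.mem_range.1 (List.mem_filter.1 hi).1
  rw [Nat.eq_of_beq_eq_true hv] at h2
  obtain ⟨h3, h4⟩ := mat5W_spec p.2
  refine ⟨by rw [hMat, mulB_length]; exact h1, ?_⟩
  rw [elH, map_mul, Units.val_mul, h2, show prodW jg p.2 = prodW j5 p.2 from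
    prodW_congr fun g hg => (if_pos (hw g hg)).symm, h4, hMat]
  exact (toMat_mulB h1 h3).symm

end CfsgLib.J4Pres
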